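import Groth.Agent.Etbase.StalkPull
import Groth.Agent.Sga1.EtaleSection

/-!
# Stalks of etale sheaves do not change under extensions of separably closed fields

For `ξ : Spec Ω ⟶ X` and `ζ : Spec Ω' ⟶ Spec Ω` with `Ω`, `Ω'` separably closed, the point
`ζ ≫ ξ` of the small etale site of `X` is isomorphic to `ξ`.
-/

set_option autoImplicit false
open CategoryTheory CategoryTheory.Limits AlgebraicGeometry Opposite
universe u

namespace Groth.Agent.Etrest.StalkExt

variable {X : Scheme.{u}} {Ω Ω' : Type u} [Field Ω] [IsSepClosed Ω] [Field Ω'] [IsSepClosed Ω']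
  (ξ : Spec (CommRingCat.of Ω) ⟶ X) (ζ : Spec (CommRingCat.of Ω') ⟶ Spec (CommRingCat.of Ω))

instance : Subsingleton (Spec (CommRingCat.of Ω)) :=
  inferInstanceAs (Subsingleton (PrimeSpectrum Ω))

theorem surjective_of_field {Ω Ω' : Type u} [Field Ω] [Field Ω']
    (ζ : Spec (CommRingCat.of Ω') ⟶ Spec (CommRingCat.of Ω)) : Surjective ζ := by
  constructor
  intro x
  exact ⟨default, Subsingleton.elim _ _⟩

/-- Lifts of `ξ` to an etale scheme are the same as lifts of `ζ ≫ ξ`. -/
theorem exists_lift {V : Scheme.{u}} (π : V ⟶ X) [Etale π] (t : Spec (CommRingCat.of Ω') ⟶ V)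
    (ht : t ≫ π = ζ ≫ ξ) : ∃ l : Spec (CommRingCat.of Ω) ⟶ V, l ≫ π = ξ ∧ ζ ≫ l = t := by
  let t' : Spec (CommRingCat.of Ω') ⟶ pullback π ξ := pullback.lift t ζ ht
  obtain ⟨s, hs, hs'⟩ := Scheme.exists_fac_of_etale_of_isSepClosed (pullback.snd π ξ) (𝟙 _)
    (t'.base default) (Subsingleton.elim _ _)
  have h1 : t' = (t' ≫ pullback.snd π ξ) ≫ s :=
    Groth.Agent.Sga1.EtaleSection.eq_comp_section (pullback.snd π ξ) s hs t' (by
      rintro _ ⟨a, rfl⟩
      refine ⟨default, ?_⟩
      rw [Subsingleton.elim a default]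
      exact hs')
  have h2 : t' ≫ pullback.snd π ξ = ζ := pullback.lift_snd _ _ _
  rw [h2] at h1
  refine ⟨s ≫ pullback.fst π ξ, ?_, ?_⟩
  · rw [Category.assoc, pullback.condition, ← Category.assoc, hs, Category.id_comp]
  · rw [← Category.assoc, ← h1]
    exact pullback.lift_fst _ _ _

theorem lift_unique {V : Scheme.{u}} (π : V ⟶ X) [Etale π] (a b : Spec (CommRingCat.of Ω) ⟶ V)
    (h : a ≫ π = b ≫ π) (h' : ζ ≫ a = ζ ≫ b) : a = b := by
  have := surjective_of_field ζ
  exact Groth.Agent.Sga1.EtaleSection.eq_of_surjective π a b h ζ h'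

set_option backward.isDefEq.respectTransparency.types false in
/-- The comparison of fibre functors. -/
noncomputable def fiberHom :
    (Scheme.pointSmallEtale ξ).fiber ⟶ (Scheme.pointSmallEtale (ζ ≫ ξ)).fiber :=
  Functor.whiskerLeft (Scheme.Etale.forget X)
    (coyoneda.map (Over.homMk ζ : Over.mk (ζ ≫ ξ) ⟶ Over.mk ξ).op)

set_option backward.isDefEq.respectTransparency.types false in
theorem fiberHom_app_left (V : X.Etale) (t : (Scheme.pointSmallEtale ξ).fiber.obj V) :
    ((fiberHom ξ ζ).app V t).left = ζ ≫ t.left := rfl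

set_option backward.isDefEq.respectTransparency.types false in
theorem bijective_fiberHom (V : X.Etale) : Function.Bijective ((fiberHom ξ ζ).app V) := by
  constructor
  · intro a b hab
    apply Over.OverMorphism.ext
    have h1 : a.left ≫ V.hom = ξ := Over.w a
    have h2 : b.left ≫ V.hom = ξ := Over.w b
    refine lift_unique ζ V.hom a.left b.left (h1.trans h2.symm) ?_
    exact congrArg (fun t => t.left) hab
  · intro t
    have h1 : t.left ≫ V.hom = ζ ≫ ξ := Over.w t
    obtain ⟨l, hl, hl'⟩ := exists_lift ξ ζ V.hom t.left h1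
    refine ⟨Over.homMk l hl, ?_⟩
    apply Over.OverMorphism.ext
    exact hl'

instance : IsIso (fiberHom ξ ζ) := by
  have : ∀ V, IsIso ((fiberHom ξ ζ).app V) := fun V =>
    (isIso_iff_bijective _).2 (bijective_fiberHom ξ ζ V)
  exact NatIso.isIso_of_isIso_app _

/-- The two points are isomorphic. -/
noncomputable def pointIso :
    Scheme.pointSmallEtale (ζ ≫ ξ) ≅ Scheme.pointSmallEtale ξ where
  hom := ⟨fiberHom ξ ζ⟩
  inv := ⟨inv (fiberHom ξ ζ)⟩
  hom_inv_id := by
    ext : 1
    exact IsIso.inv_hom_id _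
  inv_hom_id := by
    ext : 1
    exact IsIso.hom_inv_id _

/-- Stalks do not change under extensions of separably closed fields. -/
noncomputable def stalkExtIso : EtCoh.stalk (ζ ≫ ξ) ≅ EtCoh.stalk ξ :=
  Groth.Agent.Etbase.StalkPull.sheafFiberIsoOfIso (pointIso ξ ζ) _

end Groth.Agent.Etrest.StalkExt
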