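import Groth.Agent.EtpbcA.SuppClosed
import Groth.Agent.Etbase.StalkPush

/-!
# Sheaves with punctual support on a scheme over a separably closed field

`isZero_of_push`: a sheaf on `A` whose support is contained in a closed subscheme finite over the base, with
zero direct image on the base, is zero.
-/

set_option autoImplicit false
universe u

open CategoryTheory CategoryTheory.Limits AlgebraicGeometry Opposite

namespace Groth.Agent.Etrest.Punctual186

open Groth.Agent.EtpbcA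

theorem supp_subset {A : Scheme.{u}} (P : EtCoh.Ab A) (s : Set A)
    (hP : ∀ x : A, x ∉ s → ∃ (Ω : Type u) (_ : Field Ω) (_ : IsSepClosed Ω)
      (ξ : Spec (CommRingCat.of Ω) ⟶ A), ξ default = x ∧ IsZero ((EtCoh.stalk ξ).obj P)) :
    EtPBC.supp P ⊆ s := by
  intro x hx
  by_contra hxs
  obtain ⟨Ω, _, _, ξ, hξ, hz⟩ := hP x hxs
  exact (Artin.mem_supp_iff _ x ξ ((Artin.range_eq_iff ξ x).2 hξ)).1 hx hz

theorem isZero_of_push_gen {S A T : Scheme.{u}} (p : A ⟶ S) (i : T ⟶ A)
    [IsClosedImmersion i] [IsFinite (i ≫ p)] (P : EtCoh.Ab A)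
    (hP : ∀ x : A, x ∉ Set.range i → ∃ (Ω : Type u) (_ : Field Ω) (_ : IsSepClosed Ω)
      (ξ : Spec (CommRingCat.of Ω) ⟶ A), ξ default = x ∧ IsZero ((EtCoh.stalk ξ).obj P))
    (h0 : IsZero ((EtCoh.push p).obj P)) : IsZero P := by
  have h1 := SuppClosed.isIso_unit_of_supp i P (supp_subset P _ hP)
  have e1 : P ≅ (EtCoh.push i).obj ((EtCoh.pull i).obj P) := asIso ((EtCoh.pullPushAdj i).unit.app P)
  have h2 : IsZero ((EtCoh.push (i ≫ p)).obj ((EtCoh.pull i).obj P)) :=
    (h0.of_iso ((EtCoh.push p).mapIso e1).symm).of_iso ((EtCoh.pushComp p i).symm.app _)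
  have h3 := Etbase.StalkPush.isZero_of_isZero_push (i ≫ p) _ h2
  exact ((EtCoh.push i).map_isZero h3).of_iso e1

theorem isZero_of_push {k : Type u} [Field k] [IsSepClosed k] {A T : Scheme.{u}}
    (p : A ⟶ Spec (CommRingCat.of k)) (i : T ⟶ A) [IsClosedImmersion i] [IsFinite (i ≫ p)]
    (P : EtCoh.Ab A)
    (hP : ∀ x : A, x ∉ Set.range i → ∃ (Ω : Type u) (_ : Field Ω) (_ : IsSepClosed Ω)
      (ξ : Spec (CommRingCat.of Ω) ⟶ A), ξ default = x ∧ IsZero ((EtCoh.stalk ξ).obj P))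
    (h0 : IsZero ((EtCoh.push p).obj P)) : IsZero P :=
  isZero_of_push_gen p i P hP h0

end Groth.Agent.Etrest.Punctual186
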