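import Groth.Agent.Etrest.DEtPush

/-!
# The canonical (derived) base change transformation is a mate

For a commutative square `g' ≫ f = f' ≫ g`:
* `cmp w : pull g ⋙ pull f' ≅ pull f ⋙ pull g'`, the canonical isomorphism (`cmp_hom_eq`: it is built
  from `EtCore.pullComp`, `EtCore.pullCongr`);
* `bcNat_eq_mate`: the degree zero base change transformation is the mate of `cmp w`;
* `cmpD w : pullD g ⋙ pullD f' ≅ pullD f ⋙ pullD g'`; `bcEt_eq_mate`.
-/

set_option autoImplicit false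
universe u

open CategoryTheory CategoryTheory.Limits Opposite AlgebraicGeometry

attribute [local instance] HasDerivedCategory.standard

noncomputable section
namespace Groth.Agent.Etrest.DEtMate

open RDer3 RDer4 RDer5 DEtPush EtpbcB

section generic

universe v₁ v₂ v₃ v₄ u₁ u₂ u₃ u₄

variable {A : Type u₁} [Category.{v₁} A] {B : Type u₂} [Category.{v₂} B]

theorem leftIso_unique {L L' : A ⥤ B} {R R' : B ⥤ A} (adj : L ⊣ R) (adj' : L' ⊣ R') (γ : R ≅ R')
    (t : L ⟶ L') (ht : ∀ G, adj'.unit.app G = adj.unit.app G ≫ R.map (t.app G) ≫ γ.hom.app (L'.obj G)) :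
    t = (MateCalc.leftIso adj adj' γ).hom := by
  ext G
  apply (adj.homEquiv _ _).injective
  rw [Adjunction.homEquiv_unit, Adjunction.homEquiv_unit,
    ← cancel_mono (γ.hom.app (L'.obj G)), Category.assoc, Category.assoc, ← ht,
    ← MateCalc.unit_leftIso]

theorem leftIso_trans {L L' L'' : A ⥤ B} {R R' R'' : B ⥤ A} (adj : L ⊣ R) (adj' : L' ⊣ R')
    (adj'' : L'' ⊣ R'') (γ : R ≅ R') (γ' : R' ≅ R'') :
    (MateCalc.leftIso adj adj'' (γ ≪≫ γ')).hom =
      (MateCalc.leftIso adj adj' γ).hom ≫ (MateCalc.leftIso adj' adj'' γ').hom := by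
  symm
  apply leftIso_unique
  intro G
  rw [MateCalc.unit_leftIso adj' adj'' γ', MateCalc.unit_leftIso adj adj' γ]
  have h1 := γ.hom.naturality ((MateCalc.leftIso adj' adj'' γ').hom.app G)
  simp only [Category.assoc, NatTrans.comp_app, Functor.map_comp, Iso.trans_hom]
  rw [reassoc_of% h1]

theorem leftIso_symm {L L' : A ⥤ B} {R R' : B ⥤ A} (adj : L ⊣ R) (adj' : L' ⊣ R') (γ : R ≅ R') :
    (MateCalc.leftIso adj' adj γ.symm).hom = (MateCalc.leftIso adj adj' γ).inv := by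
  rw [← cancel_epi (MateCalc.leftIso adj adj' γ).hom, Iso.hom_inv_id, ← leftIso_trans, Iso.self_symm_id]
  symm
  apply leftIso_unique
  intro G
  simp

variable {A' : Type u₃} [Category.{v₃} A'] {B' : Type u₄} [Category.{v₄} B']
  {Lf : B ⥤ A} {Rf : A ⥤ B} {Lf' : B' ⥤ A'} {Rf' : A' ⥤ B'} {Lg : B ⥤ B'} {Rg : B' ⥤ B}
  {Lg' : A ⥤ A'} {Rg' : A' ⥤ A} (adjf : Lf ⊣ Rf) (adjf' : Lf' ⊣ Rf') (adjg : Lg ⊣ Rg)
  (adjg' : Lg' ⊣ Rg') (α : Rg' ⋙ Rf ≅ Rf' ⋙ Rg)

theorem bcNat_eq_mate_generic : MateCalc.bcNat adjg adjg' α.hom =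
    mate adjf adjf' (MateCalc.leftIso (adjg.comp adjf') (adjf.comp adjg') α.symm).hom := by
  ext F
  symm
  apply MateCalc.bc_unique
  have h1 := MateCalc.unit_leftIso (adjg.comp adjf') (adjf.comp adjg') α.symm (Rf.obj F)
  have h2 := α.hom.naturality (Lg'.map (adjf.counit.app F))
  have h3 := adjg'.unit.naturality (adjf.counit.app F)
  have h4 : adjg.unit.app (Rf.obj F) ≫ Rg.map (adjf'.unit.app (Lg.obj (Rf.obj F))) ≫
      Rg.map (Rf'.map ((MateCalc.leftIso (adjg.comp adjf') (adjf.comp adjg') α.symm).hom.app (Rf.obj F))) =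
      adjf.unit.app (Rf.obj F) ≫ Rf.map (adjg'.unit.app (Lf.obj (Rf.obj F))) ≫
        α.hom.app (Lg'.obj (Lf.obj (Rf.obj F))) := by
    rw [Adjunction.comp_unit_app, Adjunction.comp_unit_app] at h1
    have h5 := congrArg (fun t => t ≫ α.hom.app _) h1
    simp only [Category.assoc, Iso.symm_hom] at h5
    have h6 := α.inv_hom_id_app (Lg'.obj (Lf.obj (Rf.obj F)))
    dsimp only [Functor.comp_obj, Functor.comp_map] at h5 h6 ⊢
    rw [h6] at h5
    exact (h5.trans (congrArg (fun t => _ ≫ _ ≫ t) (Category.comp_id _))).symm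
  rw [mate_app]
  simp only [Functor.map_comp]
  rw [reassoc_of% h4]
  dsimp only [Functor.comp_map, Functor.comp_obj, Functor.id_obj, Functor.id_map] at h2 h3 ⊢
  rw [← h2, ← Rf.map_comp_assoc, ← h3, Rf.map_comp, Category.assoc,
    adjf.right_triangle_components_assoc]

end generic

variable {X Y Z X' Y' : Scheme.{u}}

theorem unit_ofNatIsoRight {A B : Type*} [Category* A] [Category* B] {L : A ⥤ B} {R R' : B ⥤ A}
    (adj : L ⊣ R) (γ : R ≅ R') (G : A) :
    (adj.ofNatIsoRight γ).unit.app G = adj.unit.app G ≫ γ.hom.app (L.obj G) := by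
  rw [← Adjunction.homEquiv_id, Adjunction.homEquiv_ofNatIsoRight_apply, Adjunction.homEquiv_id]

theorem leftIso_eq_leftAdjointUniq {A B : Type*} [Category* A] [Category* B] {L L' : A ⥤ B} {R R' : B ⥤ A}
    (adj : L ⊣ R) (adj' : L' ⊣ R') (γ : R ≅ R') :
    (MateCalc.leftIso adj adj' γ).hom = (Adjunction.leftAdjointUniq adj' (adj.ofNatIsoRight γ)).inv := by
  symm
  apply leftIso_unique
  intro G
  have h2 := Adjunction.unit_leftAdjointUniq_hom_app adj' (adj.ofNatIsoRight γ) G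
  rw [unit_ofNatIsoRight] at h2
  have h3 := γ.hom.naturality ((Adjunction.leftAdjointUniq adj' (adj.ofNatIsoRight γ)).inv.app G)
  rw [h3, ← reassoc_of% h2, ← R'.map_comp, Iso.hom_inv_id_app, R'.map_id, Category.comp_id]

theorem pullComp_hom_eq (f : X ⟶ Y) (g : Z ⟶ X) :
    (BCCalc.pullComp f g).hom = (EtCore.pullComp g f).inv :=
  leftIso_eq_leftAdjointUniq _ _ _

theorem pullComp_inv_eq (f : X ⟶ Y) (g : Z ⟶ X) :
    (BCCalc.pullComp f g).inv = (EtCore.pullComp g f).hom := by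
  rw [← cancel_epi (BCCalc.pullComp f g).hom, Iso.hom_inv_id, pullComp_hom_eq, Iso.inv_hom_id]

theorem pushCongr_rfl (f : X ⟶ Y) (F : EtCoh.Ab X) : (EtCoh.pushCongr (rfl : f = f)).hom.app F = 𝟙 _ := by
  apply BCCalc.ab_hom_ext
  intro U
  rw [BCCalc.pushCongr_hom_app_app]
  have h : (BCCalc.congrIso (rfl : f = f) U).inv = 𝟙 _ := by
    apply BCCalc.hom_ext_bc
    rw [BCCalc.congrIso_inv_left_pr, BCCalc.id_left, Category.id_comp]
  rw [h]
  exact F.obj.map_id _

theorem pushCongr_symm {f f' : X ⟶ Y} (h : f = f') :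
    (EtCoh.pushCongr h).symm = EtCoh.pushCongr h.symm := by
  subst h
  apply Iso.ext
  apply NatTrans.ext
  funext F
  rw [pushCongr_rfl, ← cancel_epi ((EtCoh.pushCongr (rfl : f = f)).hom.app F), Category.comp_id,
    Iso.symm_hom, Iso.hom_inv_id_app, pushCongr_rfl]

theorem pullCongr_eq {f f' : X ⟶ Y} (h : f = f') :
    (BCCalc.pullCongr h).hom = (EtCore.pullCongr h).hom := by
  subst h
  symm
  apply leftIso_unique
  intro G
  rw [pushCongr_rfl]
  simp [EtCore.pullCongr]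

section square

variable {f : X ⟶ Y} {g : Y' ⟶ Y} {f' : X' ⟶ Y'} {g' : X' ⟶ X}

/-- The canonical comparison of composites of inverse images. -/
def cmp (w : g' ≫ f = f' ≫ g) : EtCoh.pull g ⋙ EtCoh.pull f' ≅ EtCoh.pull f ⋙ EtCoh.pull g' :=
  MateCalc.leftIso ((EtCoh.pullPushAdj g).comp (EtCoh.pullPushAdj f'))
    ((EtCoh.pullPushAdj f).comp (EtCoh.pullPushAdj g')) (BCCalc.sq w).symm

theorem cmp_hom_eq (w : g' ≫ f = f' ≫ g) : (cmp w).hom =
    (EtCore.pullComp f' g).inv ≫ (EtCore.pullCongr w.symm).hom ≫ (EtCore.pullComp g' f).hom := by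
  have h1 : (cmp w).hom = (BCCalc.pullComp g f').hom ≫ (BCCalc.pullCongr w.symm).hom ≫
      (BCCalc.pullComp f g').inv := by
    have e1 := leftIso_trans ((EtCoh.pullPushAdj g).comp (EtCoh.pullPushAdj f'))
      (EtCoh.pullPushAdj (g' ≫ f)) ((EtCoh.pullPushAdj f).comp (EtCoh.pullPushAdj g'))
      ((EtCoh.pushComp g f') ≪≫ (EtCoh.pushCongr w).symm) (EtCoh.pushComp f g').symm
    have e2 := leftIso_trans ((EtCoh.pullPushAdj g).comp (EtCoh.pullPushAdj f'))
      (EtCoh.pullPushAdj (f' ≫ g)) (EtCoh.pullPushAdj (g' ≫ f))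
      (EtCoh.pushComp g f') (EtCoh.pushCongr w).symm
    have e3 : (BCCalc.sq w).symm = (EtCoh.pushComp g f' ≪≫ (EtCoh.pushCongr w).symm) ≪≫
        (EtCoh.pushComp f g').symm := by
      ext1
      simp [BCCalc.sq]
    have e4 : (MateCalc.leftIso (EtCoh.pullPushAdj (f' ≫ g)) (EtCoh.pullPushAdj (g' ≫ f))
        (EtCoh.pushCongr w).symm).hom = (BCCalc.pullCongr w.symm).hom := by
      rw [pushCongr_symm]
      rfl
    rw [cmp, e3, e1, e2, e4, leftIso_symm, Category.assoc]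
    rfl
  rw [h1, pullComp_hom_eq, pullCongr_eq, pullComp_inv_eq]

theorem bcNat_eq_mate (w : g' ≫ f = f' ≫ g) :
    BCCalc.bcNat w = mate (EtCoh.pullPushAdj f) (EtCoh.pullPushAdj f') (cmp w).hom :=
  bcNat_eq_mate_generic _ _ _ _ _

/-- The comparison on derived categories. -/
def cmpD (w : g' ≫ f = f' ≫ g) : pullD g ⋙ pullD f' ≅ pullD f ⋙ pullD g' := asIso (cD (cmp w).hom)

/-- The canonical derived base change transformation is the mate of `cmpD w`. -/
theorem bcEt_eq_mate (w : g' ≫ f = f' ≫ g) :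
    bcEt w = mate (dPullPush f) (dPullPush f') (cmpD w).hom := by
  rw [bcEt, bcNat_eq_mate]
  exact bcD_mate _ _ _

end square

end Groth.Agent.Etrest.DEtMate
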