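import Mathlib.CategoryTheory.Sites.Pullback
import Mathlib.CategoryTheory.Sites.LocallyBijective
import Mathlib.CategoryTheory.Limits.ConcreteCategory.Basic
import Mathlib.Algebra.Category.Grp.FilteredColimits
import Mathlib.CategoryTheory.Limits.Preserves.Filtered

/-!
# Local description of the sections of the inverse image of an abelian sheaf

`a : C ⥤ D` continuous and representably flat, `F` an abelian sheaf on `C`, `G = a⁻¹ F`, `η : F ⟶ a_* G`.

* `exists_local`: locally, any section of `G` over `d` is `h^* (η t)`, `h : d' ⟶ a c`, `t ∈ F(c)`;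
* `eq_zero_local`: if `h^* (η t) = 0` on `d`, then locally on `d`, `h` factors through some
  `a c' ⟶ a c` such that `t` vanishes on `c'`.
-/

set_option autoImplicit false
universe w v₁ v₂ v₃ u₁ u₂ u₃
open CategoryTheory CategoryTheory.Limits Opposite

noncomputable section

namespace Groth.Agent.Etrest.LanSections

variable {C : Type u₁} [Category.{v₁} C] {D : Type u₂} [Category.{v₂} D]
  (a : C ⥤ D) (J : GrothendieckTopology C) (K : GrothendieckTopology D)

section Presheaf

variable [RepresentablyFlat a] 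
  [∀ (F : Cᵒᵖ ⥤ AddCommGrpCat.{w}), a.op.HasPointwiseLeftKanExtension F]

instance isFiltered_costructuredArrow (d : Dᵒᵖ) : IsFiltered (CostructuredArrow a.op d) :=
  IsFiltered.of_equivalence (structuredArrowOpEquivalence a (unop d))

variable [∀ (d : Dᵒᵖ), PreservesColimitsOfShape (CostructuredArrow a.op d) (forget AddCommGrpCat.{w})]

omit [RepresentablyFlat a] in
/-- Any section of the left Kan extension comes from some `(c, h : d ⟶ a c, t ∈ F(c))`. -/
theorem lan_exists_rep (F : Cᵒᵖ ⥤ AddCommGrpCat.{w}) (d : D) (s : (a.op.lan.obj F).obj (op d)) :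
    ∃ (c : C) (h : d ⟶ a.obj c) (t : F.obj (op c)),
      (a.op.lan.obj F).map h.op ((a.op.lanUnit.app F).app (op c) t) = s := by
  have hc := a.op.isPointwiseLeftKanExtensionLeftKanExtensionUnit F (op d)
  obtain ⟨j, y, hy⟩ := Concrete.isColimit_exists_rep _ hc s
  exact ⟨j.left.unop, j.hom.unop, y, hy⟩

/-- A section `(c, h, t)` of the Kan extension vanishes iff `h` factors through `c' ⟶ c` killing `t`. -/
theorem lan_eq_zero (F : Cᵒᵖ ⥤ AddCommGrpCat.{w}) (d : D) (c : C) (h : d ⟶ a.obj c) (t : F.obj (op c))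
    (e : (a.op.lan.obj F).map h.op ((a.op.lanUnit.app F).app (op c) t) = 0) :
    ∃ (c' : C) (k : c' ⟶ c) (h' : d ⟶ a.obj c'), h' ≫ a.map k = h ∧ F.map k.op t = 0 := by
  have hc := a.op.isPointwiseLeftKanExtensionLeftKanExtensionUnit F (op d)
  let j : CostructuredArrow a.op (op d) := CostructuredArrow.mk (Y := op c) h.op
  obtain ⟨k, f, g, hfg⟩ := Concrete.isColimit_exists_of_rep_eq _ hc (i := j) (j := j) t 
    (0 : F.obj (op c)) (by
      refine Eq.trans e ?_
      exact (map_zero _).symm)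
  refine ⟨k.left.unop, f.left.unop, k.hom.unop, ?_, ?_⟩
  · exact Quiver.Hom.op_inj (CostructuredArrow.w f)
  · exact hfg.trans (map_zero (F.map g.left).hom)

end Presheaf

section Sheaf

variable [Functor.IsContinuous a J K] 
  [(a.sheafPushforwardContinuous AddCommGrpCat.{w} J K).IsRightAdjoint]
  [∀ (F : Cᵒᵖ ⥤ AddCommGrpCat.{w}), a.op.HasLeftKanExtension F]

/-- The comparison morphism `Lan_a F ⟶ a⁻¹ F`. -/
def lam (F : Sheaf J AddCommGrpCat.{w}) : 
    a.op.lan.obj F.obj ⟶ ((a.sheafPullback AddCommGrpCat.{w} J K).obj F).obj :=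
  ((a.op.lanAdjunction AddCommGrpCat.{w}).homEquiv _ _).symm 
    ((a.sheafAdjunctionContinuous AddCommGrpCat.{w} J K).unit.app F).hom

theorem lam_fac (F : Sheaf J AddCommGrpCat.{w}) : 
    a.op.lanUnit.app F.obj ≫ Functor.whiskerLeft a.op (lam a J K F) =
      ((a.sheafAdjunctionContinuous AddCommGrpCat.{w} J K).unit.app F).hom := by
  have := ((a.op.lanAdjunction AddCommGrpCat.{w}).homEquiv _ _).apply_symm_apply 
    ((a.sheafAdjunctionContinuous AddCommGrpCat.{w} J K).unit.app F).hom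
  rw [Adjunction.homEquiv_unit] at this
  rw [Functor.lanAdjunction_unit] at this
  exact this

theorem lam_W (F : Sheaf J AddCommGrpCat.{w}) : K.W (lam a J K F) := by
  intro G hG
  let G' : Sheaf K AddCommGrpCat.{w} := ⟨G, hG⟩
  have e : ∀ (φ : ((a.sheafPullback AddCommGrpCat.{w} J K).obj F).obj ⟶ G), 
      (a.op.lanAdjunction AddCommGrpCat.{w}).homEquiv _ _ (lam a J K F ≫ φ) = 
      ((a.sheafAdjunctionContinuous AddCommGrpCat.{w} J K).homEquiv F G' ⟨φ⟩).hom := by
    intro φ
    refine ((a.op.lanAdjunction AddCommGrpCat.{w}).homEquiv_naturality_right _ _).trans ?_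
    refine (congrArg (fun k => k ≫ ((Functor.whiskeringLeft Cᵒᵖ Dᵒᵖ AddCommGrpCat).obj a.op).map φ)
      (Equiv.apply_symm_apply _ _)).trans ?_
    rw [Adjunction.homEquiv_unit]
    rfl
  constructor
  · intro φ ψ h
    have := (e φ).symm.trans ((congrArg _ h).trans (e ψ))
    have h2 := ((a.sheafAdjunctionContinuous AddCommGrpCat.{w} J K).homEquiv F G').injective 
      ((sheafToPresheaf _ _).map_injective this)
    exact congrArg (fun k => k.hom) h2
  · intro ψ
    let θ : F ⟶ (a.sheafPushforwardContinuous AddCommGrpCat.{w} J K).obj G' := 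
      ⟨(a.op.lanAdjunction AddCommGrpCat.{w}).homEquiv _ _ ψ⟩
    refine ⟨(((a.sheafAdjunctionContinuous AddCommGrpCat.{w} J K).homEquiv F G').symm θ).hom, ?_⟩
    apply ((a.op.lanAdjunction AddCommGrpCat.{w}).homEquiv _ _).injective
    refine (e _).trans ?_
    have : (((a.sheafAdjunctionContinuous AddCommGrpCat.{w} J K).homEquiv F G') 
      (((a.sheafAdjunctionContinuous AddCommGrpCat.{w} J K).homEquiv F G').symm θ)) = θ :=
      Equiv.apply_symm_apply _ _
    exact congrArg (fun k => k.hom) this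

end Sheaf

variable [RepresentablyFlat a] 
  [∀ (F : Cᵒᵖ ⥤ AddCommGrpCat.{w}), a.op.HasPointwiseLeftKanExtension F]
  [∀ (d : Dᵒᵖ), PreservesColimitsOfShape (CostructuredArrow a.op d) (forget AddCommGrpCat.{w})]
  [Functor.IsContinuous a J K] 
  [(a.sheafPushforwardContinuous AddCommGrpCat.{w} J K).IsRightAdjoint]
  [K.WEqualsLocallyBijective AddCommGrpCat.{w}]

/-- The section `h^*(η t)` of `a⁻¹ F` over `d`. -/
def sec (F : Sheaf J AddCommGrpCat.{w}) {d : D} {c : C} (h : d ⟶ a.obj c) (t : F.obj.obj (op c)) :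
    ((a.sheafPullback AddCommGrpCat.{w} J K).obj F).obj.obj (op d) :=
  ((a.sheafPullback AddCommGrpCat.{w} J K).obj F).obj.map h.op
    (((a.sheafAdjunctionContinuous AddCommGrpCat.{w} J K).unit.app F).hom.app (op c) t)

omit [RepresentablyFlat a] 
  [∀ (F : Cᵒᵖ ⥤ AddCommGrpCat.{w}), a.op.HasPointwiseLeftKanExtension F]
  [∀ (d : Dᵒᵖ), PreservesColimitsOfShape (CostructuredArrow a.op d) (forget AddCommGrpCat.{w})]
  [K.WEqualsLocallyBijective AddCommGrpCat.{w}] in
theorem map_sec (F : Sheaf J AddCommGrpCat.{w}) {d d' : D} {c : C} (g : d' ⟶ d) (h : d ⟶ a.obj c) 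
    (t : F.obj.obj (op c)) :
    ((a.sheafPullback AddCommGrpCat.{w} J K).obj F).obj.map g.op (sec a J K F h t) = 
      sec a J K F (g ≫ h) t := by
  dsimp [sec]
  rw [Functor.map_comp]
  rfl

omit [RepresentablyFlat a] 
  [∀ (F : Cᵒᵖ ⥤ AddCommGrpCat.{w}), a.op.HasPointwiseLeftKanExtension F]
  [∀ (d : Dᵒᵖ), PreservesColimitsOfShape (CostructuredArrow a.op d) (forget AddCommGrpCat.{w})]
  [K.WEqualsLocallyBijective AddCommGrpCat.{w}] in
theorem sec_map (F : Sheaf J AddCommGrpCat.{w}) {d : D} {c c' : C} (k : c' ⟶ c) (h : d ⟶ a.obj c') 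
    (t : F.obj.obj (op c)) :
    sec a J K F (h ≫ a.map k) t = sec a J K F h (F.obj.map k.op t) := by
  dsimp [sec]
  have := ConcreteCategory.congr_hom 
    (((a.sheafAdjunctionContinuous AddCommGrpCat.{w} J K).unit.app F).hom.naturality k.op) t
  rw [Functor.map_comp]
  erw [ConcreteCategory.comp_apply] at this ⊢
  exact congrArg (((a.sheafPullback AddCommGrpCat.{w} J K).obj F).obj.map h.op) this.symm

omit [RepresentablyFlat a] 
  [∀ (d : Dᵒᵖ), PreservesColimitsOfShape (CostructuredArrow a.op d) (forget AddCommGrpCat.{w})]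
  [K.WEqualsLocallyBijective AddCommGrpCat.{w}] in
theorem lam_app_apply (F : Sheaf J AddCommGrpCat.{w}) {d : D} {c : C} (h : d ⟶ a.obj c) 
    (t : F.obj.obj (op c)) :
    (lam a J K F).app (op d) ((a.op.lan.obj F.obj).map h.op ((a.op.lanUnit.app F.obj).app (op c) t)) =
      sec a J K F h t := by
  have h1 := ConcreteCategory.congr_hom ((lam a J K F).naturality h.op) 
    ((a.op.lanUnit.app F.obj).app (op c) t)
  have h2 := ConcreteCategory.congr_hom (congr_app (lam_fac a J K F) (op c)) t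
  refine h1.trans ?_
  dsimp [sec]
  exact congrArg (((a.sheafPullback AddCommGrpCat.{w} J K).obj F).obj.map h.op) h2

/-- Local presentation of the sections of `a⁻¹ F`. -/
theorem exists_local (F : Sheaf J AddCommGrpCat.{w}) {d : D} 
    (s : ((a.sheafPullback AddCommGrpCat.{w} J K).obj F).obj.obj (op d)) :
    ∃ S ∈ K d, ∀ ⦃d' : D⦄ (g : d' ⟶ d), S g → ∃ (c : C) (h : d' ⟶ a.obj c) (t : F.obj.obj (op c)),
      ((a.sheafPullback AddCommGrpCat.{w} J K).obj F).obj.map g.op s = sec a J K F h t := by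
  have := (lam_W a J K F).isLocallySurjective
  refine ⟨_, Presheaf.imageSieve_mem K (lam a J K F) s, ?_⟩
  rintro d' g ⟨y, hy⟩
  obtain ⟨c, h, t, rfl⟩ := lan_exists_rep a F.obj d' y
  exact ⟨c, h, t, hy.symm.trans (lam_app_apply a J K F h t)⟩

/-- Vanishing criterion for the sections of `a⁻¹ F`. -/
theorem eq_zero_local (F : Sheaf J AddCommGrpCat.{w}) {d : D} {c : C} (h : d ⟶ a.obj c) 
    (t : F.obj.obj (op c)) (e : sec a J K F h t = 0) :
    ∃ S ∈ K d, ∀ ⦃d' : D⦄ (g : d' ⟶ d), S g → ∃ (c' : C) (k : c' ⟶ c) (h' : d' ⟶ a.obj c'), 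
      h' ≫ a.map k = g ≫ h ∧ F.obj.map k.op t = 0 := by
  have := (lam_W a J K F).isLocallyInjective
  let y := (a.op.lan.obj F.obj).map h.op ((a.op.lanUnit.app F.obj).app (op c) t)
  have hy : (lam a J K F).app (op d) y = (lam a J K F).app (op d) 0 := by
    rw [map_zero]
    exact (lam_app_apply a J K F h t).trans e
  refine ⟨_, Presheaf.equalizerSieve_mem K (lam a J K F) y 0 hy, ?_⟩
  intro d' g hg
  apply lan_eq_zero a F.obj d' c (g ≫ h) t
  have hg' : (a.op.lan.obj F.obj).map g.op y = (a.op.lan.obj F.obj).map g.op 0 := hg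
  rw [map_zero] at hg'
  rw [op_comp, Functor.map_comp]
  exact hg'

end Groth.Agent.Etrest.LanSections
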