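import Groth.Agent.Etrest.BigEtSite
import Groth.Agent.Etrest.LanSections

/-!
# Universally open descent for inverse images of small étale sheaves
-/

set_option autoImplicit false
universe w u
open CategoryTheory CategoryTheory.Limits AlgebraicGeometry Opposite

noncomputable section

namespace Groth.Agent.Etrest.BigEtSite

/-! ### Covering sieves -/

theorem mem_grothendieckTopology_iff_forall {P : MorphismProperty Scheme.{u}} [P.IsMultiplicative]
    [P.IsStableUnderBaseChange] {X : Scheme.{u}} {S : Sieve X} :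
    S ∈ Scheme.grothendieckTopology P X ↔ ∀ x : X, ∃ (Y : Scheme.{u}) (g : Y ⟶ X), S g ∧ P g ∧ 
      x ∈ Set.range g := by
  rw [Scheme.mem_grothendieckTopology_iff]
  constructor
  · rintro ⟨𝒰, h⟩ x
    obtain ⟨i, y, hy⟩ := 𝒰.exists_eq x
    exact ⟨𝒰.X i, 𝒰.f i, h _ _ ⟨i⟩, 𝒰.map_prop i, ⟨y, hy⟩⟩
  · intro h
    choose Y g hg hP hy using h
    let 𝒰 : Scheme.Cover.{u} (Scheme.precoverage P) X :=
      { I₀ := X
        X := Y
        f := g
        mem₀ := by
          rw [Scheme.presieve₀_mem_precoverage_iff]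
          exact ⟨fun x => ⟨x, hy x⟩, hP⟩ }
    refine ⟨𝒰, ?_⟩
    rintro _ _ ⟨i⟩
    exact hg i

theorem mem_over_grothendieckTopology_iff {P : MorphismProperty Scheme.{u}} [P.IsMultiplicative]
    [P.IsStableUnderBaseChange] {S : Scheme.{u}} {T : Over S} {R : Sieve T} :
    R ∈ (Scheme.grothendieckTopology P).over S T ↔ ∀ x : T.left, ∃ (Y : Over S) (g : Y ⟶ T), R g ∧ P g.left ∧ 
      x ∈ Set.range g.left := by
  rw [GrothendieckTopology.mem_over_iff, mem_grothendieckTopology_iff_forall]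
  constructor
  · intro h x
    obtain ⟨Y, g, hg, hP, hx⟩ := h x
    rw [Sieve.overEquiv_iff] at hg
    exact ⟨_, _, hg, hP, hx⟩
  · intro h x
    obtain ⟨Y, g, hg, hP, hx⟩ := h x
    refine ⟨Y.left, g.left, ?_, hP, hx⟩
    rw [Sieve.overEquiv_iff]
    have := R.downward_closed hg (Over.homMk (𝟙 _) (by simp) : Over.mk (g.left ≫ T.hom) ⟶ Y)
    convert this using 1
    ext
    simp

theorem mem_JE_iff {S : Scheme.{u}} {T : Over S} {R : Sieve T} :
    R ∈ JE S T ↔ ∀ x : T.left, ∃ (Y : Over S) (g : Y ⟶ T), R g ∧ Etale g.left ∧ 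
      x ∈ Set.range g.left :=
  mem_over_grothendieckTopology_iff (P := @Etale)

set_option backward.isDefEq.respectTransparency.types false in
theorem mem_J_iff {S : Scheme.{u}} {T : Over S} {R : Sieve T} :
    R ∈ EtFppf.J S T ↔ ∀ x : T.left, ∃ (Y : Over S) (g : Y ⟶ T), R g ∧ Flat g.left ∧
      LocallyOfFinitePresentation g.left ∧ x ∈ Set.range g.left := by
  have h1 : MorphismProperty.IsMultiplicative (C := Scheme.{u}) @LocallyOfFinitePresentation :=
    { id_mem := fun X => inferInstanceAs (LocallyOfFinitePresentation (𝟙 X)) }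
  have h2 : MorphismProperty.IsMultiplicative (C := Scheme.{u}) @Flat := 
    { id_mem := fun X => inferInstanceAs (Flat (𝟙 X)) }
  have h3 : MorphismProperty.IsMultiplicative (C := Scheme.{u}) (@Flat ⊓ @LocallyOfFinitePresentation) := 
    MorphismProperty.IsMultiplicative.inf
  refine (mem_over_grothendieckTopology_iff (P := @Flat ⊓ @LocallyOfFinitePresentation)).trans ?_
  refine forall_congr' fun x => exists_congr fun Y => exists_congr fun g => ?_
  constructor
  · rintro ⟨h1, ⟨h2, h3⟩, h4⟩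
    exact ⟨h1, h2, h3, h4⟩
  · rintro ⟨h1, h2, h3, h4⟩
    exact ⟨h1, ⟨h2, h3⟩, h4⟩

/-! ### Sections of `a⁻¹ F` -/

section Sections

instance preservesColimitsOfShape_costructuredArrow_a (S : Scheme.{u}) (d : (Over S)ᵒᵖ) :
    PreservesColimitsOfShape (CostructuredArrow (EtFppf.a S).op d) (forget AddCommGrpCat.{u + 1}) := by
  have : PreservesFilteredColimitsOfSize.{u, u + 1} (forget AddCommGrpCat.{u + 1}) :=
    preservesFilteredColimitsOfSize_shrink.{u + 1, u + 1, u, u + 1} _
  exact PreservesFilteredColimitsOfSize.preserves_filtered_colimits _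

variable {S : Scheme.{u}} (F : EtCoh.Ab S)

/-- The value of `a⁻¹ F` at `T / S`. -/
abbrev GE (T : Over S) : Type (u + 1) := ((aPullE S).obj F).obj.obj (op T)

/-- Restriction. -/
abbrev res {T T' : Over S} (g : T' ⟶ T) (s : GE F T) : GE F T' := ((aPullE S).obj F).obj.map g.op s

/-- The section of `a⁻¹ F` over `T` induced by `h : T ⟶ U` and `t ∈ F(U)`. -/
def sec {T : Over S} {U : S.Etale} (h : T ⟶ (EtFppf.a S).obj U) (t : EtCoh.sect F U) : GE F T :=
  LanSections.sec (EtFppf.a S) S.smallEtaleTopology (JE S) F h t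

theorem res_sec {T T' : Over S} {U : S.Etale} (g : T' ⟶ T) (h : T ⟶ (EtFppf.a S).obj U) (t : EtCoh.sect F U) :
    res F g (sec F h t) = sec F (g ≫ h) t :=
  LanSections.map_sec _ _ _ F g h t

theorem sec_map {T : Over S} {U U' : S.Etale} (k : U' ⟶ U) (h : T ⟶ (EtFppf.a S).obj U') (t : EtCoh.sect F U) :
    sec F (h ≫ (EtFppf.a S).map k) t = sec F h (F.obj.map k.op t) :=
  LanSections.sec_map _ _ _ F k h t

theorem sec_zero {T : Over S} {U : S.Etale} (h : T ⟶ (EtFppf.a S).obj U) : sec F h (0 : EtCoh.sect F U) = 0 := by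
  dsimp [sec, LanSections.sec]
  erw [map_zero, map_zero]

theorem res_res {T T' T'' : Over S} (g : T' ⟶ T) (g' : T'' ⟶ T') (s : GE F T) :
    res F g' (res F g s) = res F (g' ≫ g) s := by
  dsimp [res]
  rw [Functor.map_comp]
  rfl

theorem res_sub {T T' : Over S} (g : T' ⟶ T) (s s' : GE F T) :
    res F g (s - s') = res F g s - res F g s' := map_sub _ _ _

theorem res_zero {T T' : Over S} (g : T' ⟶ T) :
    res F g (0 : GE F T) = 0 := map_zero _

/-- étale-local presentation of sections. -/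
theorem exists_sec {T : Over S} (s : GE F T) (x : T.left) :
    ∃ (T' : Over S) (g : T' ⟶ T) (U : S.Etale) (h : T' ⟶ (EtFppf.a S).obj U) (t : EtCoh.sect F U),
      Etale g.left ∧ x ∈ Set.range g.left ∧ res F g s = sec F h t := by
  obtain ⟨R, hR, H⟩ := LanSections.exists_local (EtFppf.a S) S.smallEtaleTopology (JE S) F s
  obtain ⟨T', g, hg, he, hx⟩ := mem_JE_iff.1 hR x
  obtain ⟨U, h, t, e⟩ := H g hg
  exact ⟨T', g, U, h, t, he, hx, e⟩

/-- Two sections over `T` which agree étale-locally are equal. -/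
theorem eq_of_etale_local {T : Over S} (s s' : GE F T)
    (H : ∀ x : T.left, ∃ (T' : Over S) (g : T' ⟶ T), Etale g.left ∧ x ∈ Set.range g.left ∧ 
      res F g s = res F g s') : s = s' := by
  let R : Sieve T := 
    { arrows := fun T' g => res F g s = res F g s'
      downward_closed := by
        intro T' T'' g hg f
        rw [← res_res, ← res_res, hg] }
  have hR : R ∈ JE S T := by
    rw [mem_JE_iff]
    intro x
    obtain ⟨T', g, h1, h2, h3⟩ := H x
    exact ⟨T', g, h3, h1, h2⟩
  have hs := (isSheaf_iff_isSheaf_of_type _ _).1 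
    (Presheaf.isSheaf_comp_of_isSheaf (JE S) ((aPullE S).obj F).obj (forget AddCommGrpCat.{u + 1}) 
      ((aPullE S).obj F).property)
  exact (hs.isSeparated _ hR).ext (fun T' g hg => hg)

/-- The locus where `t` vanishes (étale-locally). -/
def vanLocus {U : S.Etale} (t : EtCoh.sect F U) : Set U.left :=
  {x | ∃ (W : S.Etale) (g : W ⟶ U), x ∈ Set.range g.left ∧ F.obj.map g.op t = 0}

/-- pullbacks in `Over S`, elementwise. -/
theorem exists_pb {T Z Z' : Over S} (g : Z ⟶ T) (g' : Z' ⟶ T) : ∃ (P : Over S) (p : P ⟶ Z) (q : P ⟶ Z'),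
    p ≫ g = q ≫ g' ∧ IsPullback p.left q.left g.left g'.left ∧ 
      ∀ (z : Z.left) (z' : Z'.left), g.left z = g'.left z' → ∃ y : P.left, p.left y = z ∧ q.left y = z' := by
  refine ⟨Over.mk (pullback.fst g.left g'.left ≫ Z.hom), Over.homMk (pullback.fst _ _) rfl, 
    Over.homMk (pullback.snd _ _) ?_, ?_, IsPullback.of_hasPullback _ _, ?_⟩
  · rw [← Over.w g, ← Over.w g', ← Category.assoc, pullback.condition, Category.assoc]
    rfl
  · ext
    exact pullback.condition
  · intro z z' h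
    exact Scheme.Pullback.exists_preimage_pullback z z' h

theorem sec_eq_zero_iff {T : Over S} {U : S.Etale} (h : T ⟶ (EtFppf.a S).obj U) (t : EtCoh.sect F U) :
    sec F h t = 0 ↔ ∀ x : T.left, h.left x ∈ vanLocus F t := by
  constructor
  · intro e x
    obtain ⟨R, hR, H⟩ := LanSections.eq_zero_local (EtFppf.a S) S.smallEtaleTopology (JE S) F h t e
    obtain ⟨T', g, hg, he, ⟨y, rfl⟩⟩ := mem_JE_iff.1 hR x
    obtain ⟨U', k, h', e1, e2⟩ := H g hg
    refine ⟨U', k, ⟨h'.left y, ?_⟩, e2⟩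
    have := congrArg (fun φ => φ.left y) e1
    exact this
  · intro H
    apply eq_of_etale_local
    intro x
    obtain ⟨W, g, ⟨w, hw⟩, e⟩ := H x
    obtain ⟨P, p, q, e1, hpb, hP⟩ := exists_pb h ((EtFppf.a S).map g)
    obtain ⟨y, hy, -⟩ := hP x w hw.symm
    refine ⟨P, p, ?_, ⟨y, hy⟩, ?_⟩
    · have : Etale ((EtFppf.a S).map g).left := inferInstanceAs (Etale g.left)
      exact MorphismProperty.of_isPullback (P := @Etale) hpb.flip this
    · rw [res_sec, res_zero, e1, sec_map, e, sec_zero]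

/-- Two sections over `T` which agree on a jointly surjective family are equal. -/
theorem eq_of_jointly_surjective {T : Over S} (s s' : GE F T)
    (H : ∀ x : T.left, ∃ (T' : Over S) (g : T' ⟶ T), x ∈ Set.range g.left ∧ 
      res F g s = res F g s') : s = s' := by
  rw [← sub_eq_zero]
  apply eq_of_etale_local
  intro x
  obtain ⟨T', g, U, h, t, he, hx, e⟩ := exists_sec F (s - s') x
  refine ⟨T', g, he, hx, ?_⟩
  rw [e, res_zero, sec_eq_zero_iff]
  intro y
  obtain ⟨T'', g', ⟨z, hz⟩, e'⟩ := H (g.left y)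
  obtain ⟨P, p, q, e1, -, hP⟩ := exists_pb g g'
  obtain ⟨w, rfl, -⟩ := hP y z hz.symm
  have : sec F (p ≫ h) t = 0 := by
    rw [← res_sec, ← e, res_res, e1, ← res_res, res_sub, e', sub_self, res_zero]
  exact (sec_eq_zero_iff F (p ≫ h) t).1 this w

set_option backward.isDefEq.respectTransparency.types false in
theorem universallyOpen_of_comp_etale {X Y Z : Scheme.{u}} (f : X ⟶ Y) (g : Y ⟶ Z) [Etale g]
    [UniversallyOpen (f ≫ g)] : UniversallyOpen f := by
  have : MorphismProperty.HasOfPostcompProperty (C := Scheme.{u}) @UniversallyOpen @Etale := by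
    rw [MorphismProperty.hasOfPostcompProperty_iff_le_diagonal]
    intro X Y f hf
    have : Etale f := hf
    have : IsOpenImmersion (pullback.diagonal f) := inferInstance
    exact inferInstanceAs (UniversallyOpen (pullback.diagonal f))
  exact MorphismProperty.of_postcomp (W := @UniversallyOpen) (W' := @Etale) f g ‹_› ‹_›

/-- Key local descent step: a section over a universally open `T' ⟶ T` comes, near every point, from
an étale `V ⟶ T`. -/
theorem exists_etale_descent {T T' : Over S} (g : T' ⟶ T) [UniversallyOpen g.left] (s : GE F T') 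
    (x : T'.left) : ∃ (V W : Over S) (j : V ⟶ T) (e : W ⟶ T') (q : W ⟶ V) (t : GE F V), 
      Etale j.left ∧ e ≫ g = q ≫ j ∧ Function.Surjective q.left ∧ x ∈ Set.range e.left ∧ 
      res F q t = res F e s := by
  obtain ⟨W, e, U, h, t, he, hx, es⟩ := exists_sec F s x
  let V : Over S := Over.mk (pullback.snd U.hom T.hom ≫ T.hom)
  let pT : V ⟶ T := Over.homMk (pullback.snd U.hom T.hom) rfl
  let pU : V ⟶ (EtFppf.a S).obj U := Over.homMk (pullback.fst U.hom T.hom) pullback.condition
  let w : W ⟶ V := Over.homMk (pullback.lift h.left (e ≫ g).left ((Over.w h).trans (Over.w (e ≫ g)).symm)) 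
    (((Category.assoc _ _ _).symm.trans (congrArg (· ≫ T.hom) (pullback.lift_snd _ _ _))).trans 
      (Over.w (e ≫ g)))
  have hw1 : w ≫ pT = e ≫ g := by
    ext
    exact pullback.lift_snd _ _ _
  have hw2 : w ≫ pU = h := by
    ext
    exact pullback.lift_fst _ _ _
  have hpT : Etale pT.left := inferInstanceAs (Etale (pullback.snd U.hom T.hom))
  have hwo : UniversallyOpen w.left := by
    have : UniversallyOpen (w.left ≫ pT.left) := by
      have : w.left ≫ pT.left = e.left ≫ g.left := congrArg (fun k => k.left) hw1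
      rw [this]
      infer_instance
    exact universallyOpen_of_comp_etale w.left pT.left
  let O : V.left.Opens := ⟨Set.range w.left, w.left.isOpenMap.isOpen_range⟩
  let V₀ : Over S := Over.mk (O.ι ≫ V.hom)
  let i : V₀ ⟶ V := Over.homMk O.ι rfl
  have hrange : Set.range w.left ⊆ Set.range O.ι := by
    rw [Scheme.Opens.range_ι]
    exact subset_rfl
  let q : W ⟶ V₀ := Over.homMk (IsOpenImmersion.lift O.ι w.left hrange) (by
    dsimp [V₀]
    rw [IsOpenImmersion.lift_fac_assoc]
    exact Over.w w)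
  have hq : q ≫ i = w := by
    ext
    exact IsOpenImmersion.lift_fac _ _ _
  refine ⟨V₀, W, i ≫ pT, e, q, sec F (i ≫ pU) t, ?_, ?_, ?_, hx, ?_⟩
  · exact inferInstanceAs (Etale (O.ι ≫ pT.left))
  · rw [← Category.assoc, hq, hw1]
  · intro v
    have hv : O.ι v ∈ Set.range w.left := by
      have : O.ι v ∈ Set.range O.ι := ⟨v, rfl⟩
      rw [Scheme.Opens.range_ι] at this
      exact this
    obtain ⟨y, hy⟩ := hv
    refine ⟨y, ?_⟩
    apply O.ι.isOpenEmbedding.injective
    rw [← hy, ← hq]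
    rfl
  · rw [res_sec, ← Category.assoc, hq, hw2, es]

/-- The underlying presheaf of types of `a⁻¹ F`. -/
abbrev tyE : (Over S)ᵒᵖ ⥤ Type (u + 1) := ((aPullE S).obj F).obj ⋙ forget AddCommGrpCat.{u + 1}

theorem isSheaf_tyE : Presieve.IsSheaf (JE S) (tyE F) :=
  (isSheaf_iff_isSheaf_of_type _ _).1 
    (Presheaf.isSheaf_comp_of_isSheaf (JE S) ((aPullE S).obj F).obj (forget AddCommGrpCat.{u + 1}) 
      ((aPullE S).obj F).property)

/-- `a⁻¹ F` satisfies the sheaf condition for any jointly surjective family of universally open 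
morphisms. -/
theorem isSheafFor_of_universallyOpen {T : Over S} (R : Sieve T) 
    (hR : ∀ x : T.left, ∃ (T' : Over S) (g : T' ⟶ T), R g ∧ UniversallyOpen g.left ∧ 
      x ∈ Set.range g.left) : Presieve.IsSheafFor (tyE F) R.arrows := by
  intro x hx
  -- rewrite the compatibility
  have hx1 : ∀ {Y Z : Over S} (g : Y ⟶ T) (hg : R g) (h : Z ⟶ Y), 
      res F h (x g hg) = x (h ≫ g) (R.downward_closed hg h) := by
    intro Y Z g hg h
    refine (hx h (𝟙 _) hg (R.downward_closed hg h) (by simp)).trans ?_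
    rw [op_id, CategoryTheory.Functor.map_id]
    rfl
  have hx2 : ∀ {Y : Over S} (g g' : Y ⟶ T) (hg : R g) (e : g = g'), x g hg = x g' (e ▸ hg) := by
    intro Y g g' hg e
    subst e
    rfl
  have key : ∀ y : T.left, ∃ (V W : Over S) (j : V ⟶ T) (q : W ⟶ V) (t : GE F V) (hr : R (q ≫ j)), 
      Etale j.left ∧ y ∈ Set.range j.left ∧ Function.Surjective q.left ∧ res F q t = x (q ≫ j) hr := by
    intro y
    obtain ⟨T', g, hg, huo, ⟨y', hy'⟩⟩ := hR y
    obtain ⟨V, W, j, e, q, t, he, hc, hq, ⟨w, hw⟩, ht⟩ := exists_etale_descent F g (x g hg) y'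
    refine ⟨V, W, j, q, t, hc ▸ R.downward_closed hg e, he, ⟨q.left w, ?_⟩, hq, ?_⟩
    · rw [← hy', ← hw]
      exact (congrArg (fun k => k.left w) hc).symm
    · rw [ht, hx1]
      exact hx2 _ _ _ hc
  choose V W j q t hr he hy hq ht using key
  -- compatibility of the `t y`
  have hcomp : ∀ (y y' : T.left) (Z : Over S) (a : Z ⟶ V y) (b : Z ⟶ V y'), a ≫ j y = b ≫ j y' → 
      res F a (t y) = res F b (t y') := by
    intro y y' Z a b hab
    apply eq_of_jointly_surjective
    intro z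
    obtain ⟨w, hw⟩ := hq y (a.left z)
    obtain ⟨P, p1, p2, hp, -, hP⟩ := exists_pb a (q y)
    obtain ⟨z1, hz1, hz1'⟩ := hP z w hw.symm
    obtain ⟨w', hw'⟩ := hq y' ((p1 ≫ b).left z1)
    obtain ⟨Q, r1, r2, hr', -, hQ⟩ := exists_pb (p1 ≫ b) (q y')
    obtain ⟨z2, hz2, hz2'⟩ := hQ z1 w' hw'.symm
    refine ⟨Q, r1 ≫ p1, ⟨z2, ?_⟩, ?_⟩
    · rw [← hz1, ← hz2]
      rfl
    · have e1 : res F (r1 ≫ p1) (res F a (t y)) = 
          x ((r1 ≫ p2) ≫ q y ≫ j y) (R.downward_closed (hr y) _) := by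
        rw [← hx1 _ (hr y), ← ht y, res_res, res_res]
        simp only [Category.assoc, hp]
      have e2 : res F (r1 ≫ p1) (res F b (t y')) = 
          x (r2 ≫ q y' ≫ j y') (R.downward_closed (hr y') _) := by
        rw [← hx1 _ (hr y'), ← ht y', res_res, res_res]
        rw [Category.assoc, hr']
      rw [e1, e2]
      apply hx2
      rw [← reassoc_of% hr', ← hab, Category.assoc, reassoc_of% hp]
  have hcov : Sieve.ofArrows V j ∈ JE S T := by
    rw [mem_JE_iff]
    intro y
    exact ⟨V y, j y, Sieve.ofArrows_mk _ _ y, he y, hy y⟩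
  have hsh := isSheaf_tyE F _ hcov
  rw [Sieve.ofArrows, ← Presieve.isSheafFor_iff_generate, Presieve.isSheafFor_arrows_iff] at hsh
  obtain ⟨τ, hτ, -⟩ := hsh t (fun y y' Z a b h => hcomp y y' Z a b h)
  have hτ' : ∀ y, res F (j y) τ = t y := hτ
  have hmain : ∀ (Z : Over S) (g : Z ⟶ T) (hg : R g), res F g τ = x g hg := by
    intro Z g hg
    apply eq_of_jointly_surjective
    intro z
    obtain ⟨y, hyz⟩ : ∃ y, y = g.left z := ⟨_, rfl⟩
    obtain ⟨v, hv⟩ := hy y
    obtain ⟨w, hw⟩ := hq y v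
    obtain ⟨P, p1, p2, hp, -, hP⟩ := exists_pb g (q y ≫ j y)
    obtain ⟨z1, hz1, hz1'⟩ := hP z w (hyz.symm.trans (hv.symm.trans (by rw [← hw]; rfl)))
    refine ⟨P, p1, ⟨z1, hz1⟩, ?_⟩
    have e1 : res F p1 (res F g τ) = x (p2 ≫ q y ≫ j y) (R.downward_closed (hr y) _) := by
      rw [← hx1 _ (hr y), ← ht y, ← hτ' y, res_res, res_res, res_res, hp, Category.assoc]
    rw [e1, hx1]
    exact hx2 _ _ _ hp.symm
  refine ⟨τ, fun Z g hg => hmain Z g hg, ?_⟩
  intro σ hσ
  apply eq_of_jointly_surjective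
  intro y
  obtain ⟨T', g, hg, huo, hy'⟩ := hR y
  exact ⟨T', g, hy', (hσ g hg).trans (hmain T' g hg).symm⟩

theorem isSheaf_J : Presheaf.IsSheaf (EtFppf.J S) ((aPullE S).obj F).obj := by
  rw [Presheaf.isSheaf_iff_isSheaf_forget (EtFppf.J S) _ (forget AddCommGrpCat.{u + 1}), 
    isSheaf_iff_isSheaf_of_type]
  intro T R hR
  apply isSheafFor_of_universallyOpen
  intro x
  obtain ⟨T', g, h1, h2, h3, h4⟩ := mem_J_iff.1 hR x
  exact ⟨T', g, h1, inferInstance, h4⟩

end Sections

end Groth.Agent.Etrest.BigEtSite
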