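import Mathlib.CategoryTheory.Sites.CoverLifting
import Mathlib.CategoryTheory.Sites.Pullback

/-!
# A Beck-Chevalley isomorphism for sites

`C₁` (via `a`), `C₂` (via `u`) map to `D`, `b : C₁ ⥤ C₂` is a partial right adjoint of `u` relative to `a`.
Then restricting along `a` the cocontinuous pushforward along `u` is precomposition with `b`.
-/

set_option autoImplicit false
universe w' w v₁ v₂ v₃ u₁ u₂ u₃
open CategoryTheory CategoryTheory.Limits Opposite

noncomputable section

namespace Groth.Agent.Etrest.RanExact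

variable {C₁ : Type u₁} [Category.{v₁} C₁] {C₂ : Type u₂} [Category.{v₂} C₂]
  {D : Type u₃} [Category.{v₃} D] (A : Type w) [Category.{w'} A]
  (a : C₁ ⥤ D) (u : C₂ ⥤ D) (b : C₁ ⥤ C₂) (p : b ⋙ u ⟶ a)

/-- `b` is a partial right adjoint of `u` relative to `a`. -/
structure IsRelAdj : Prop where
  exists_lift : ∀ {V : C₁} {W : C₂} (g : u.obj W ⟶ a.obj V), ∃ h : W ⟶ b.obj V, u.map h ≫ p.app V = g
  hom_ext : ∀ {V : C₁} {W : C₂} (h h' : W ⟶ b.obj V), u.map h ≫ p.app V = u.map h' ≫ p.app V → h = h'

variable {a u b p} in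
/-- the structured arrow `p V` is initial. -/
def isInitialMk (H : IsRelAdj a u b p) (V : C₁) :
    IsInitial (StructuredArrow.mk (S := op (a.obj V)) (T := u.op) (Y := op (b.obj V)) (p.app V).op) :=
  IsInitial.ofUniqueHom
    (fun Y => StructuredArrow.homMk (H.exists_lift Y.hom.unop).choose.op 
      (Quiver.Hom.unop_inj (H.exists_lift Y.hom.unop).choose_spec))
    (fun Y m => by
      ext
      apply Quiver.Hom.unop_inj
      apply H.hom_ext
      refine Eq.trans ?_ (H.exists_lift Y.hom.unop).choose_spec.symm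
      exact Quiver.Hom.op_inj (StructuredArrow.w m))

section Presheaf

variable [∀ (F : C₂ᵒᵖ ⥤ A), u.op.HasPointwiseRightKanExtension F]

/-- The comparison morphism, presheaf level. -/
def comparisonPre : u.op.ran ⋙ (Functor.whiskeringLeft _ _ A).obj a.op ⟶ 
    (Functor.whiskeringLeft _ _ A).obj b.op :=
  Functor.whiskerLeft u.op.ran ((Functor.whiskeringLeft _ _ A).map (NatTrans.op p)) ≫
    Functor.whiskerRight u.op.ranCounit ((Functor.whiskeringLeft _ _ A).obj b.op)

theorem comparisonPre_app_app (G : C₂ᵒᵖ ⥤ A) (V : C₁ᵒᵖ) :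
    ((comparisonPre A a u b p).app G).app V = 
      (u.op.ran.obj G).map (p.app V.unop).op ≫ (u.op.ranCounit.app G).app (op (b.obj V.unop)) := rfl

theorem isIso_comparisonPre (H : IsRelAdj a u b p) : IsIso (comparisonPre A a u b p) := by
  have : ∀ G, IsIso ((comparisonPre A a u b p).app G) := by
    intro G
    have : ∀ V, IsIso (((comparisonPre A a u b p).app G).app V) := by
      intro V
      rw [comparisonPre_app_app]
      exact IsLimit.isIso_π_app_of_isInitial
          (u.op.isPointwiseRightKanExtensionRanCounit G (op (a.obj V.unop))) _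
          (isInitialMk H V.unop)
    exact NatIso.isIso_of_isIso_app _
  exact NatIso.isIso_of_isIso_app _

end Presheaf

variable (J₁ : GrothendieckTopology C₁) (J₂ : GrothendieckTopology C₂) (K : GrothendieckTopology D)
  [∀ (F : C₂ᵒᵖ ⥤ A), u.op.HasPointwiseRightKanExtension F]
  [a.IsContinuous J₁ K] [b.IsContinuous J₁ J₂] [u.IsContinuous J₂ K] [u.IsCocontinuous J₂ K]

/-- The comparison morphism. -/
def comparison : u.sheafPushforwardCocontinuous A J₂ K ⋙ a.sheafPushforwardContinuous A J₁ K ⟶
    b.sheafPushforwardContinuous A J₁ J₂ where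
  app G := ⟨(comparisonPre A a u b p).app G.obj⟩
  naturality G G' φ := by
    apply (sheafToPresheaf _ _).map_injective
    exact (comparisonPre A a u b p).naturality φ.hom

theorem isIso_comparison (H : IsRelAdj a u b p) : IsIso (comparison A a u b p J₁ J₂ K) := by
  have : ∀ G, IsIso ((comparison A a u b p J₁ J₂ K).app G) := by
    intro G
    have : IsIso ((sheafToPresheaf _ _).map ((comparison A a u b p J₁ J₂ K).app G)) := by
      have := isIso_comparisonPre A a u b p H
      exact inferInstanceAs (IsIso ((comparisonPre A a u b p).app G.obj))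
    exact isIso_of_reflects_iso _ (sheafToPresheaf _ _)
  exact NatIso.isIso_of_isIso_app _

variable [(a.sheafPushforwardContinuous A J₁ K).IsRightAdjoint]
  [(b.sheafPushforwardContinuous A J₁ J₂).IsRightAdjoint]

/-- The Beck–Chevalley morphism `b⁻¹ ⟶ a⁻¹ ⋙ u^*`, as an isomorphism. -/
def pullbackIso (H : IsRelAdj a u b p) :
    b.sheafPullback A J₁ J₂ ≅ a.sheafPullback A J₁ K ⋙ u.sheafPushforwardContinuous A J₂ K :=
  have := isIso_comparison A a u b p J₁ J₂ K H
  (conjugateIsoEquiv 
    ((a.sheafAdjunctionContinuous A J₁ K).comp (u.sheafAdjunctionCocontinuous A J₂ K))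
    (b.sheafAdjunctionContinuous A J₁ J₂)).symm (asIso (comparison A a u b p J₁ J₂ K))

end Groth.Agent.Etrest.RanExact
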