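import Groth.Prelude.Def_EtFppf
import Groth.Agent.Etrest.RanExact

/-!
# The big etale site of a scheme and its comparison with the small etale sites

* `JE X` the etale topology on `Over X`, `AbE X` abelian sheaves on it.
* `u f : T.Etale ⥤ Over S` for `f : T ⟶ S`.
* `aPullE`.
-/

set_option autoImplicit false
universe w u
open CategoryTheory CategoryTheory.Limits AlgebraicGeometry Opposite

noncomputable section

namespace Groth.Agent.Etrest.BigEtSite

/-- The étale topology on schemes over `X`. -/
abbrev JE (X : Scheme.{u}) : GrothendieckTopology (Over X) := Scheme.etaleTopology.over X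

/-- Abelian sheaves on the big étale site of `X`, valued one universe up. -/
abbrev AbE (X : Scheme.{u}) : Type (u + 2) := Sheaf (JE X) AddCommGrpCat.{u + 1}

set_option backward.isDefEq.respectTransparency.types false in
theorem etaleTopology_le_fppfTopology : Scheme.etaleTopology.{u} ≤ Scheme.fppfTopology.{u} := by
  refine Precoverage.toGrothendieck_mono ?_
  refine Scheme.precoverage_mono ?_
  intro X Y f hf
  have : Etale f := hf
  exact ⟨inferInstance, inferInstance⟩

theorem JE_le_J (X : Scheme.{u}) : JE X ≤ EtFppf.J X := by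
  intro U S hS
  rw [GrothendieckTopology.mem_over_iff] at hS ⊢
  exact etaleTopology_le_fppfTopology _ hS

set_option backward.isDefEq.respectTransparency.types false in
theorem coverPreserving_a (X : Scheme.{u}) :
    CoverPreserving X.smallEtaleTopology (JE X) (EtFppf.a X) := by
  constructor
  intro U S hS
  have := (Functor.mem_restrictedTopology_iff (G := MorphismProperty.Over.forget EtCoh.etaleMP ⊤ X) 
      (K := X.overGrothendieckTopology EtCoh.etaleMP) (S := S)).1 hS
  exact this

instance preservesFiniteLimits_a (X : Scheme.{u}) : PreservesFiniteLimits (EtFppf.a X) :=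
  inferInstanceAs (PreservesFiniteLimits (Scheme.Etale.forget X))

instance representablyFlat_a (X : Scheme.{u}) : RepresentablyFlat (EtFppf.a X) :=
  flat_of_preservesFiniteLimits _

instance isContinuous_a (X : Scheme.{u}) :
    (EtFppf.a X).IsContinuous X.smallEtaleTopology (JE X) :=
  Functor.isContinuous_of_coverPreserving (compatiblePreservingOfFlat _ _) (coverPreserving_a X)

instance isCocontinuous_a (X : Scheme.{u}) :
    (EtFppf.a X).IsCocontinuous X.smallEtaleTopology (JE X) :=
  inferInstanceAs ((MorphismProperty.Over.forget EtCoh.etaleMP ⊤ X).IsCocontinuous 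
    ((MorphismProperty.Over.forget EtCoh.etaleMP ⊤ X).restrictedTopology 
      (X.overGrothendieckTopology EtCoh.etaleMP))
    (X.overGrothendieckTopology EtCoh.etaleMP))

instance full_a (X : Scheme.{u}) : (EtFppf.a X).Full :=
  inferInstanceAs (Scheme.Etale.forget X).Full

instance faithful_a (X : Scheme.{u}) : (EtFppf.a X).Faithful :=
  inferInstanceAs (Scheme.Etale.forget X).Faithful

/-- The functor `T.Etale ⥤ Over S` for `f : T ⟶ S`. -/
abbrev uf {T S : Scheme.{u}} (f : T ⟶ S) : T.Etale ⥤ Over S := EtFppf.a T ⋙ Over.map f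

instance isContinuous_uf {T S : Scheme.{u}} (f : T ⟶ S) :
    (uf f).IsContinuous T.smallEtaleTopology (JE S) :=
  Functor.isContinuous_comp _ _ _ (JE T) _

instance isCocontinuous_uf {T S : Scheme.{u}} (f : T ⟶ S) :
    (uf f).IsCocontinuous T.smallEtaleTopology (JE S) :=
  isCocontinuous_comp _ _ _ (JE T)

/-- inverse image from the small étale site to the big étale site. -/
abbrev aPullE (X : Scheme.{u}) : EtCoh.Ab X ⥤ AbE X :=
  (EtFppf.a X).sheafPullback AddCommGrpCat.{u + 1} X.smallEtaleTopology (JE X)

/-- Restriction from the big to the small étale site. -/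
abbrev aPushE (X : Scheme.{u}) : AbE X ⥤ EtCoh.Ab X :=
  (EtFppf.a X).sheafPushforwardContinuous AddCommGrpCat.{u + 1} X.smallEtaleTopology (JE X)

/-- The adjunction. -/
abbrev aAdjE (X : Scheme.{u}) : aPullE X ⊣ aPushE X :=
  (EtFppf.a X).sheafAdjunctionContinuous AddCommGrpCat.{u + 1} X.smallEtaleTopology (JE X)

/-- Restriction from the big étale site of `S` to the small étale site of `T` -/
abbrev uRes {T S : Scheme.{u}} (f : T ⟶ S) : AbE S ⥤ EtCoh.Ab T :=
  (uf f).sheafPushforwardContinuous AddCommGrpCat.{u + 1} T.smallEtaleTopology (JE S)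

/-- right adjoint to `uRes`. -/
abbrev uCo {T S : Scheme.{u}} (f : T ⟶ S) : EtCoh.Ab T ⥤ AbE S :=
  (uf f).sheafPushforwardCocontinuous AddCommGrpCat.{u + 1} T.smallEtaleTopology (JE S)

abbrev uAdj {T S : Scheme.{u}} (f : T ⟶ S) : uRes f ⊣ uCo f :=
  (uf f).sheafAdjunctionCocontinuous AddCommGrpCat.{u + 1} T.smallEtaleTopology (JE S)

set_option backward.isDefEq.respectTransparency.types false in
/-- The projection `(V ×_S T → T → S) ⟶ (V → S)`. -/
def projNat {T S : Scheme.{u}} (f : T ⟶ S) : EtCoh.bc f ⋙ uf f ⟶ EtFppf.a S where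
  app V := Over.homMk (pullback.fst V.hom f : ((EtCoh.bc f).obj V).left ⟶ V.left) pullback.condition
  naturality V W g := by
    ext
    exact (EtCoh.isPullback_bc_map f g).w

set_option backward.isDefEq.respectTransparency.types false in
/-- The universal property of `bc f V`. -/
def projLift {T S : Scheme.{u}} (f : T ⟶ S) {V : S.Etale} {W : T.Etale} 
    (g : (uf f).obj W ⟶ (EtFppf.a S).obj V) : W ⟶ (EtCoh.bc f).obj V :=
  MorphismProperty.Over.homMk (pullback.lift g.left W.hom (Over.w g)) (pullback.lift_snd _ _ _)

set_option backward.isDefEq.respectTransparency.types false in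
theorem projLift_fac {T S : Scheme.{u}} (f : T ⟶ S) {V : S.Etale} {W : T.Etale} 
    (g : (uf f).obj W ⟶ (EtFppf.a S).obj V) : (uf f).map (projLift f g) ≫ (projNat f).app V = g := by
  ext
  exact pullback.lift_fst _ _ _

set_option backward.isDefEq.respectTransparency.types false in
theorem proj_hom_ext {T S : Scheme.{u}} (f : T ⟶ S) {V : S.Etale} {W : T.Etale} 
    {g h : W ⟶ (EtCoh.bc f).obj V} (e : (uf f).map g ≫ (projNat f).app V = (uf f).map h ≫ (projNat f).app V) :
    g = h := by
  apply MorphismProperty.Over.Hom.ext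
  apply pullback.hom_ext
  · exact congrArg (fun k => k.left) e
  · exact (MorphismProperty.Over.w g).trans (MorphismProperty.Over.w h).symm

theorem isRelAdj {T S : Scheme.{u}} (f : T ⟶ S) :
    RanExact.IsRelAdj (EtFppf.a S) (uf f) (EtCoh.bc f) (projNat f) where
  exists_lift g := ⟨projLift f g, projLift_fac f g⟩
  hom_ext _ _ e := proj_hom_ext f e

/-- The inverse image `f⁻¹ F` is the restriction of `a⁻¹ F` (big étale site) to the small étale site
of `T`. -/
def pullIso {T S : Scheme.{u}} (f : T ⟶ S) : EtCoh.pull f ≅ aPullE S ⋙ uRes f :=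
  RanExact.pullbackIso _ _ _ _ (projNat f) _ _ _ (isRelAdj f)

end Groth.Agent.Etrest.BigEtSite
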