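import Groth.Agent.Etrest.BigEtDescent

/-!
# The inverse image to the big fppf site

* `aPullF S : EtCoh.Ab S ⥤ EtFppf.AbF S` explicit model of `EtFppf.aPull S`: the underlying presheaf is
  the inverse image to the big *étale* site.
* `aPullIso S : EtFppf.aPull S ≅ aPullF S`.
* `uResF f : AbF S ⥤ Ab T` restriction to the small étale site of `T`, for `f : T ⟶ S`.
* `pullIsoF f : EtCoh.pull f ≅ EtFppf.aPull S ⋙ uResF f`.
-/

set_option autoImplicit false
universe w u
open CategoryTheory CategoryTheory.Limits AlgebraicGeometry Opposite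

noncomputable section

namespace Groth.Agent.Etrest.BigFppf

open BigEtSite

/-- fppf sheaves are étale sheaves. -/
def toE (S : Scheme.{u}) : EtFppf.AbF S ⥤ AbE S where
  obj H := ⟨H.obj, fun E => Presieve.isSheaf_of_le _ (JE_le_J S) (H.property E)⟩
  map φ := ⟨φ.hom⟩

/-- `toE` is fully faithful. -/
def toEFullyFaithful (S : Scheme.{u}) : (toE S).FullyFaithful where
  preimage φ := ⟨φ.hom⟩

instance (S : Scheme.{u}) : (toE S).Full := (toEFullyFaithful S).full
instance (S : Scheme.{u}) : (toE S).Faithful := (toEFullyFaithful S).faithful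

/-- The explicit inverse image. -/
def aPullF (S : Scheme.{u}) : EtCoh.Ab S ⥤ EtFppf.AbF S where
  obj F := ⟨((aPullE S).obj F).obj, isSheaf_J F⟩
  map φ := ⟨((aPullE S).map φ).hom⟩
  map_id F := by
    apply (toE S).map_injective
    exact (aPullE S).map_id F
  map_comp φ ψ := by
    apply (toE S).map_injective
    exact (aPullE S).map_comp φ ψ

/-- underlying étale sheaf. -/
def aPullFCompToE (S : Scheme.{u}) : aPullE S ≅ aPullF S ⋙ toE S :=
  NatIso.ofComponents (fun _ => Iso.refl _) (fun φ => by
    simp only [Iso.refl_hom]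
    rfl)

/-- The adjunction. -/
def aAdjF (S : Scheme.{u}) [EtFppf.ACont S] : aPullF S ⊣ EtFppf.aPush S :=
  (aAdjE S).restrictFullyFaithful (Functor.FullyFaithful.id _) (toEFullyFaithful S)
    ((Functor.leftUnitor _).trans (aPullFCompToE S)) 
    (NatIso.ofComponents (fun _ => Iso.refl _) (fun φ => by
      simp only [Iso.refl_hom]
      rfl))

/-- `aPull` is isomorphic to the explicit model. -/
def aPullIso (S : Scheme.{u}) [EtFppf.ACont S] : EtFppf.aPull S ≅ aPullF S :=
  (EtFppf.aAdj S).leftAdjointUniq (aAdjF S)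

/-- The composite to the big étale site. -/
def aPullIsoE (S : Scheme.{u}) [EtFppf.ACont S] : EtFppf.aPull S ⋙ toE S ≅ aPullE S :=
  (Functor.isoWhiskerRight (aPullIso S) (toE S)).trans (aPullFCompToE S).symm

/-- Restriction of fppf sheaves to the small étale site of `T`, `f : T ⟶ S`. -/
abbrev uResF {T S : Scheme.{u}} (f : T ⟶ S) : EtFppf.AbF S ⥤ EtCoh.Ab T := toE S ⋙ uRes f

/-- `f⁻¹ F` is the restriction of `a⁻¹ F` to the small étale site of `T`. -/
def pullIsoF {T S : Scheme.{u}} (f : T ⟶ S) [EtFppf.ACont S] : 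
    EtFppf.aPull S ⋙ uResF f ≅ EtCoh.pull f :=
  (Functor.associator _ _ _).symm.trans ((Functor.isoWhiskerRight (aPullIsoE S) (uRes f)).trans (pullIso f).symm)

end Groth.Agent.Etrest.BigFppf
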