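import Groth.Agent.Etrest.RanExact

/-!
# The unit formula for the Beck-Chevalley isomorphism `RanExact.pullbackIso`
-/

set_option autoImplicit false
universe w' w v₁ v₂ v₃ u₁ u₂ u₃
open CategoryTheory CategoryTheory.Limits Opposite

noncomputable section

namespace Groth.Agent.Etrest.RanExact

variable {C₁ : Type u₁} [Category.{v₁} C₁] {C₂ : Type u₂} [Category.{v₂} C₂]
  {D : Type u₃} [Category.{v₃} D] (A : Type w) [Category.{w'} A]
  (a : C₁ ⥤ D) (u : C₂ ⥤ D) (b : C₁ ⥤ C₂) (p : b ⋙ u ⟶ a)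
  (J₁ : GrothendieckTopology C₁) (J₂ : GrothendieckTopology C₂) (K : GrothendieckTopology D)
  [∀ (F : C₂ᵒᵖ ⥤ A), u.op.HasPointwiseRightKanExtension F]
  [a.IsContinuous J₁ K] [b.IsContinuous J₁ J₂] [u.IsContinuous J₂ K] [u.IsCocontinuous J₂ K]

/-- The restriction map `a_* H ⟶ b_* u_* H` along `p`. -/
def rho : a.sheafPushforwardContinuous A J₁ K ⟶ 
    u.sheafPushforwardContinuous A J₂ K ⋙ b.sheafPushforwardContinuous A J₁ J₂ where
  app H := ⟨Functor.whiskerRight (NatTrans.op p) H.obj⟩
  naturality H H' φ := by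
    apply (sheafToPresheaf _ _).map_injective
    exact ((Functor.whiskeringLeft _ _ A).map (NatTrans.op p)).naturality φ.hom

omit [∀ (F : C₂ᵒᵖ ⥤ A), u.op.HasPointwiseRightKanExtension F] [u.IsCocontinuous J₂ K] in
theorem rho_app_hom_app (H : Sheaf K A) (V : C₁ᵒᵖ) : 
    ((rho A a u b p J₁ J₂ K).app H).hom.app V = H.obj.map (p.app V.unop).op := rfl

theorem unit_comparison (H : Sheaf K A) : 
    (a.sheafPushforwardContinuous A J₁ K).map ((u.sheafAdjunctionCocontinuous A J₂ K).unit.app H) ≫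
      (comparison A a u b p J₁ J₂ K).app ((u.sheafPushforwardContinuous A J₂ K).obj H) = 
        (rho A a u b p J₁ J₂ K).app H := by
  apply (sheafToPresheaf _ _).map_injective
  ext V
  have e1 := (u.op.ranAdjunction A).left_triangle_components H.obj
  have e2 := (((u.op.ranAdjunction A).unit.app H.obj).naturality (p.app V.unop).op)
  have e3 := congr_app e1 (op (b.obj V.unop))
  have e4 : ((u.sheafAdjunctionCocontinuous A J₂ K).unit.app H).hom = 
      (u.op.ranAdjunction A).unit.app H.obj := u.sheafAdjunctionCocontinuous_unit_app_hom A J₂ K H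
  change ((u.sheafAdjunctionCocontinuous A J₂ K).unit.app H).hom.app (op (a.obj V.unop)) ≫ 
      (u.op.ran.obj (u.op ⋙ H.obj)).map (p.app V.unop).op ≫ 
        (u.op.ranCounit.app (u.op ⋙ H.obj)).app (op (b.obj V.unop)) = H.obj.map (p.app V.unop).op
  rw [e4]
  refine (Category.assoc _ _ _).symm.trans ?_
  refine (congrArg (fun k => k ≫ (u.op.ranCounit.app (u.op ⋙ H.obj)).app (op (b.obj V.unop))) e2.symm).trans ?_
  refine (Category.assoc _ _ _).trans ?_
  refine (congrArg (fun k => H.obj.map (p.app V.unop).op ≫ k) ?_).trans (Category.comp_id _)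
  have e5 : (u.op.ranAdjunction A).counit = u.op.ranCounit := by simp
  rw [e5] at e3
  exact e3

variable [(a.sheafPushforwardContinuous A J₁ K).IsRightAdjoint]
  [(b.sheafPushforwardContinuous A J₁ J₂).IsRightAdjoint]

theorem pullbackIso_hom (H : IsRelAdj a u b p) : (pullbackIso A a u b p J₁ J₂ K H).hom =
    (conjugateEquiv ((a.sheafAdjunctionContinuous A J₁ K).comp (u.sheafAdjunctionCocontinuous A J₂ K))
    (b.sheafAdjunctionContinuous A J₁ J₂)).symm (comparison A a u b p J₁ J₂ K) := rfl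

/-- The unit formula. -/
theorem unit_pullbackIso (H : IsRelAdj a u b p) (F : Sheaf J₁ A) : 
    (b.sheafAdjunctionContinuous A J₁ J₂).unit.app F ≫ 
      (b.sheafPushforwardContinuous A J₁ J₂).map ((pullbackIso A a u b p J₁ J₂ K H).hom.app F) = 
    (a.sheafAdjunctionContinuous A J₁ K).unit.app F ≫ 
      (rho A a u b p J₁ J₂ K).app ((a.sheafPullback A J₁ K).obj F) := by
  have h1 := unit_conjugateEquiv_symm 
    ((a.sheafAdjunctionContinuous A J₁ K).comp (u.sheafAdjunctionCocontinuous A J₂ K))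
    (b.sheafAdjunctionContinuous A J₁ J₂) (comparison A a u b p J₁ J₂ K) F
  have h2 : ((a.sheafAdjunctionContinuous A J₁ K).comp (u.sheafAdjunctionCocontinuous A J₂ K)).unit.app F ≫
      (comparison A a u b p J₁ J₂ K).app ((a.sheafPullback A J₁ K ⋙ u.sheafPushforwardContinuous A J₂ K).obj F) = 
    (a.sheafAdjunctionContinuous A J₁ K).unit.app F ≫ 
      (rho A a u b p J₁ J₂ K).app ((a.sheafPullback A J₁ K).obj F) := by
    rw [Adjunction.comp_unit_app, Category.assoc]
    exact congrArg (fun k => (a.sheafAdjunctionContinuous A J₁ K).unit.app F ≫ k) 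
      (unit_comparison A a u b p J₁ J₂ K _)
  rw [pullbackIso_hom]
  exact h1.symm ▸ h2

end Groth.Agent.Etrest.RanExact
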