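import Groth.Agent.Etrest.BigFppf
import Groth.Agent.Etrest.RanExact2

/-!
# Direct images on the big étale site and base change

* `pushBigE f : AbE X ⥤ AbE Y`, `f : X ⟶ Y`.
* `compE f F : a_Y⁻¹ f_* F ⟶ f_{big,*} a_X⁻¹ F`.
* `compE_bc`: the restriction of `compE f F` to the small étale site of `T ⟶ Y` is the base change
  morphism `EtCoh.baseChange0`.
-/

set_option autoImplicit false
universe w u
open CategoryTheory CategoryTheory.Limits AlgebraicGeometry Opposite

noncomputable section

namespace Groth.Agent.Etrest.BigPush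

open BigEtSite BigFppf

variable {X Y : Scheme.{u}} (f : X ⟶ Y)

/-- Direct image on big étale sites. -/
abbrev pushBigE : AbE X ⥤ AbE Y :=
  (Over.pullback f).sheafPushforwardContinuous AddCommGrpCat.{u + 1} (JE Y) (JE X)

theorem a_comp_pullback : EtFppf.a Y ⋙ Over.pullback f = EtCoh.bc f ⋙ EtFppf.a X := rfl

theorem aPushE_pushBigE (H : AbE X) : 
    (aPushE Y).obj ((pushBigE f).obj H) = (EtCoh.push f).obj ((aPushE X).obj H) := rfl

/-- Comparison morphism `a_Y⁻¹ f_* F ⟶ f_{big,*} a_X⁻¹ F`. -/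
def compE (F : EtCoh.Ab X) : (aPullE Y).obj ((EtCoh.push f).obj F) ⟶ (pushBigE f).obj ((aPullE X).obj F) :=
  ((aAdjE Y).homEquiv _ _).symm ((EtCoh.push f).map ((aAdjE X).unit.app F))

theorem unit_compE (F : EtCoh.Ab X) : 
    (aAdjE Y).unit.app ((EtCoh.push f).obj F) ≫ (aPushE Y).map (compE f F) = 
      (EtCoh.push f).map ((aAdjE X).unit.app F) := by
  have := ((aAdjE Y).homEquiv ((EtCoh.push f).obj F) 
    ((pushBigE f).obj ((aPullE X).obj F))).apply_symm_apply ((EtCoh.push f).map ((aAdjE X).unit.app F))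
  rw [Adjunction.homEquiv_unit] at this
  exact this

section BC

/-- `W ×_T X' ⟶ W ×_Y X`. -/
def sigmaLift {X Y T X' W : Scheme.{u}} (f : X ⟶ Y) (t : T ⟶ Y) (f' : X' ⟶ T) (t' : X' ⟶ X) 
    (w : t' ≫ f = f' ≫ t) (h : W ⟶ T) : pullback h f' ⟶ pullback (h ≫ t) f :=
  pullback.lift (pullback.fst h f') (pullback.snd h f' ≫ t') (by
    rw [Category.assoc, w, pullback.condition_assoc])

theorem isIso_sigmaLift {X Y T X' W : Scheme.{u}} (f : X ⟶ Y) (t : T ⟶ Y) (f' : X' ⟶ T) (t' : X' ⟶ X) 
    (hp : IsPullback t' f' f t) (h : W ⟶ T) : IsIso (sigmaLift f t f' t' hp.w h) := by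
  have h1 : IsPullback (pullback.snd h f' ≫ t') (pullback.fst h f') f (h ≫ t) :=
    (IsPullback.of_hasPullback h f').flip.paste_horiz hp
  have h2 : sigmaLift f t f' t' hp.w h = (h1.flip.isoPullback).hom := by
    apply pullback.hom_ext
    · exact (pullback.lift_fst _ _ _).trans (IsPullback.isoPullback_hom_fst _).symm
    · exact (pullback.lift_snd _ _ _).trans (IsPullback.isoPullback_hom_snd _).symm
  rw [h2]
  infer_instance

variable {T X' : Scheme.{u}} {t : T ⟶ Y} {f' : X' ⟶ T} {t' : X' ⟶ X} 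

theorem bc_map_fst {X Y : Scheme.{u}} (f : X ⟶ Y) {W W' : Y.Etale} (g : W ⟶ W') :
    ((EtCoh.bc f).map g).left ≫ (pullback.fst W'.hom f : ((EtCoh.bc f).obj W').left ⟶ W'.left) = 
      (pullback.fst W.hom f : ((EtCoh.bc f).obj W).left ⟶ W.left) ≫ g.left :=
  (EtCoh.isPullback_bc_map f g).w

theorem bc_map_snd {X Y : Scheme.{u}} (f : X ⟶ Y) {W W' : Y.Etale} (g : W ⟶ W') :
    ((EtCoh.bc f).map g).left ≫ (pullback.snd W'.hom f : ((EtCoh.bc f).obj W').left ⟶ X) = 
      (pullback.snd W.hom f : ((EtCoh.bc f).obj W).left ⟶ X) :=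
  MorphismProperty.Over.w ((EtCoh.bc f).map g)

/-- `(W ×_T X' → X' → X) ⟶ (W ×_Y X → X)`. -/
def sigmaHom (w : t' ≫ f = f' ≫ t) : EtCoh.bc f' ⋙ uf t' ⟶ uf t ⋙ Over.pullback f where
  app W := Over.homMk (sigmaLift f t f' t' w W.hom) (pullback.lift_snd _ _ _)
  naturality W W' g := by
    apply Over.OverMorphism.ext
    apply pullback.hom_ext
    · have e1 : sigmaLift f t f' t' w W.hom ≫ pullback.fst (W.hom ≫ t) f = pullback.fst W.hom f' := 
        pullback.lift_fst _ _ _
      have e2 : sigmaLift f t f' t' w W'.hom ≫ pullback.fst (W'.hom ≫ t) f = pullback.fst W'.hom f' := 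
        pullback.lift_fst _ _ _
      have e3 : ((Over.pullback f).map ((uf t).map g)).left ≫ pullback.fst (W'.hom ≫ t) f = 
        pullback.fst (W.hom ≫ t) f ≫ g.left := pullback.lift_fst _ _ _
      change (((EtCoh.bc f').map g).left ≫ sigmaLift f t f' t' w W'.hom) ≫ pullback.fst (W'.hom ≫ t) f =
        (sigmaLift f t f' t' w W.hom ≫ ((Over.pullback f).map ((uf t).map g)).left) ≫ pullback.fst (W'.hom ≫ t) f
      exact (Category.assoc _ _ _).trans ((congrArg (fun k => ((EtCoh.bc f').map g).left ≫ k) e2).trans 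
        ((bc_map_fst f' g).trans ((congrArg (fun k => k ≫ g.left) e1).symm.trans 
          ((Category.assoc _ _ _).trans ((congrArg (fun k => sigmaLift f t f' t' w W.hom ≫ k) e3).symm.trans
            (Category.assoc _ _ _).symm)))))
    · have e1 : sigmaLift f t f' t' w W.hom ≫ pullback.snd (W.hom ≫ t) f = pullback.snd W.hom f' ≫ t' := 
        pullback.lift_snd _ _ _
      have e2 : sigmaLift f t f' t' w W'.hom ≫ pullback.snd (W'.hom ≫ t) f = pullback.snd W'.hom f' ≫ t' := 
        pullback.lift_snd _ _ _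
      have e3 : ((Over.pullback f).map ((uf t).map g)).left ≫ pullback.snd (W'.hom ≫ t) f = 
        pullback.snd (W.hom ≫ t) f := Over.w ((Over.pullback f).map ((uf t).map g))
      change (((EtCoh.bc f').map g).left ≫ sigmaLift f t f' t' w W'.hom) ≫ pullback.snd (W'.hom ≫ t) f =
        (sigmaLift f t f' t' w W.hom ≫ ((Over.pullback f).map ((uf t).map g)).left) ≫ pullback.snd (W'.hom ≫ t) f
      exact (Category.assoc _ _ _).trans ((congrArg (fun k => ((EtCoh.bc f').map g).left ≫ k) e2).trans 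
        ((Category.assoc _ _ _).symm.trans ((congrArg (fun k => k ≫ t') (bc_map_snd f' g)).trans 
          (e1.symm.trans ((congrArg (fun k => sigmaLift f t f' t' w W.hom ≫ k) e3).symm.trans
            (Category.assoc _ _ _).symm)))))

theorem isIso_of_left {S : Scheme.{u}} {A B : Over S} (g : A ⟶ B) (h : IsIso g.left) : IsIso g := 
  have : IsIso ((Over.forget S).map g) := h
  isIso_of_reflects_iso g (Over.forget S)

theorem isIso_sigmaHom_app (hp : IsPullback t' f' f t) (W : T.Etale) : IsIso ((sigmaHom f hp.w).app W) := by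
  exact isIso_of_left _ (isIso_sigmaLift f t f' t' hp W.hom)

/-- `(f_{big,*} H)|_T ⟶ f'_* (H|_{X'})`. -/
def kappa (w : t' ≫ f = f' ≫ t) : pushBigE f ⋙ uRes t ⟶ uRes t' ⋙ EtCoh.push f' where
  app H := ⟨Functor.whiskerRight (NatTrans.op (sigmaHom f w)) H.obj⟩
  naturality H H' φ := by
    apply (sheafToPresheaf _ _).map_injective
    exact ((Functor.whiskeringLeft _ _ AddCommGrpCat.{u + 1}).map (NatTrans.op (sigmaHom f w))).naturality φ.hom

theorem isIso_kappa_app (hp : IsPullback t' f' f t) (H : AbE X) : IsIso ((kappa f hp.w).app H) := by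
  have : IsIso ((sheafToPresheaf _ _).map ((kappa f hp.w).app H)) := by
    have : ∀ V, IsIso (((sheafToPresheaf _ _).map ((kappa f hp.w).app H)).app V) := by
      intro V
      have := isIso_sigmaHom_app f hp V.unop
      exact inferInstanceAs (IsIso (H.obj.map ((sigmaHom f hp.w).app V.unop).op))
    exact NatIso.isIso_of_isIso_app _
  exact isIso_of_reflects_iso _ (sheafToPresheaf _ _)

/-- restriction map `a_{Y,*} H ⟶ t_* (H|_T)`. -/
abbrev rhoE {T Y : Scheme.{u}} (t : T ⟶ Y) : aPushE Y ⟶ uRes t ⋙ EtCoh.push t :=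
  RanExact.rho _ _ _ _ (projNat t) _ _ _

theorem unit_pullIso {T Y : Scheme.{u}} (t : T ⟶ Y) (F : EtCoh.Ab Y) :
    (EtCoh.pullPushAdj t).unit.app F ≫ (EtCoh.push t).map ((pullIso t).hom.app F) =
      (aAdjE Y).unit.app F ≫ (rhoE t).app ((aPullE Y).obj F) :=
  RanExact.unit_pullbackIso _ _ _ _ (projNat t) _ _ _ (isRelAdj t) F

section Comp

variable {Z : Scheme.{u}}

theorem pullbackComp_hom_fst (f : X ⟶ Y) (g : Z ⟶ X) (V : Y.Etale) :
    ((MorphismProperty.Over.pullbackComp (P := EtCoh.etaleMP) (Q := ⊤) g f).hom.app V).left ≫ 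
      (pullback.fst ((EtCoh.bc f).obj V).hom g ≫ (pullback.fst V.hom f : ((EtCoh.bc f).obj V).left ⟶ V.left)) = 
        pullback.fst V.hom (g ≫ f) :=
  MorphismProperty.Over.pullbackComp_left_fst_fst (P := EtCoh.etaleMP) (Q := ⊤) g f V

theorem pullbackComp_inv_fst (f : X ⟶ Y) (g : Z ⟶ X) (V : Y.Etale) :
    ((MorphismProperty.Over.pullbackComp (P := EtCoh.etaleMP) (Q := ⊤) g f).inv.app V).left ≫ 
      pullback.fst V.hom (g ≫ f) = 
      (pullback.fst ((EtCoh.bc f).obj V).hom g ≫ (pullback.fst V.hom f : ((EtCoh.bc f).obj V).left ⟶ V.left)) := by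
  have h := (MorphismProperty.Over.pullbackComp (P := EtCoh.etaleMP) (Q := ⊤) g f).inv_hom_id_app V
  have h' := congrArg (fun k => k.left) h
  refine (congrArg (fun k => ((MorphismProperty.Over.pullbackComp (P := EtCoh.etaleMP) (Q := ⊤) g f).inv.app V).left ≫ k) 
    (pullbackComp_hom_fst f g V)).symm.trans ?_
  refine (Category.assoc _ _ _).symm.trans ?_
  exact (congrArg (fun k => k ≫ _) h').trans (Category.id_comp _)

theorem pullbackCongr_inv_fst {f f' : X ⟶ Y} (h : f = f') (V : Y.Etale) :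
    ((MorphismProperty.Over.pullbackCongr (P := EtCoh.etaleMP) (Q := ⊤) h).inv.app V).left ≫ 
      pullback.fst V.hom f = pullback.fst V.hom f' := by
  have h1 := (MorphismProperty.Over.pullbackCongr (P := EtCoh.etaleMP) (Q := ⊤) h).inv_hom_id_app V
  have h1' := congrArg (fun k => k.left) h1
  have h2 := MorphismProperty.Over.pullbackCongr_hom_app_left_fst (P := EtCoh.etaleMP) (Q := ⊤) h V
  refine (congrArg (fun k => ((MorphismProperty.Over.pullbackCongr (P := EtCoh.etaleMP) (Q := ⊤) h).inv.app V).left ≫ k) 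
    h2).symm.trans ?_
  refine (Category.assoc _ _ _).symm.trans ?_
  exact (congrArg (fun k => k ≫ _) h1').trans (Category.id_comp _)

end Comp

theorem over_key (w : t' ≫ f = f' ≫ t) (V : Y.Etale) : 
    (sigmaHom f w).app ((EtCoh.bc t).obj V) ≫ (Over.pullback f).map ((projNat t).app V) = 
    (uf t').map ((MorphismProperty.Over.pullbackComp (P := EtCoh.etaleMP) (Q := ⊤) f' t).inv.app V ≫ 
      (MorphismProperty.Over.pullbackCongr (P := EtCoh.etaleMP) (Q := ⊤) w).inv.app V ≫ 
      (MorphismProperty.Over.pullbackComp (P := EtCoh.etaleMP) (Q := ⊤) t' f).hom.app V) ≫ 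
        (projNat t').app ((EtCoh.bc f).obj V) := by
  let A := (MorphismProperty.Over.pullbackComp (P := EtCoh.etaleMP) (Q := ⊤) f' t).inv.app V
  let B := (MorphismProperty.Over.pullbackCongr (P := EtCoh.etaleMP) (Q := ⊤) w).inv.app V
  let C := (MorphismProperty.Over.pullbackComp (P := EtCoh.etaleMP) (Q := ⊤) t' f).hom.app V
  apply Over.OverMorphism.ext
  apply pullback.hom_ext
  · have e1 : ((Over.pullback f).map ((projNat t).app V)).left ≫ pullback.fst V.hom f = 
        pullback.fst (((EtCoh.bc t).obj V).hom ≫ t) f ≫ 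
          (pullback.fst V.hom t : ((EtCoh.bc t).obj V).left ⟶ V.left) := pullback.lift_fst _ _ _
    have e2 : sigmaLift f t f' t' w ((EtCoh.bc t).obj V).hom ≫ 
        pullback.fst (((EtCoh.bc t).obj V).hom ≫ t) f = pullback.fst ((EtCoh.bc t).obj V).hom f' := 
        pullback.lift_fst _ _ _
    have hL : (sigmaLift f t f' t' w ((EtCoh.bc t).obj V).hom ≫ ((Over.pullback f).map ((projNat t).app V)).left) ≫ 
        pullback.fst V.hom f = pullback.fst ((EtCoh.bc t).obj V).hom f' ≫ 
          (pullback.fst V.hom t : ((EtCoh.bc t).obj V).left ⟶ V.left) := 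
      (Category.assoc _ _ _).trans ((congrArg (fun k => _ ≫ k) e1).trans ((Category.assoc _ _ _).symm.trans 
        (congrArg (fun k => k ≫ _) e2)))
    have hC : C.left ≫ (pullback.fst ((EtCoh.bc f).obj V).hom t' ≫ 
        (pullback.fst V.hom f : ((EtCoh.bc f).obj V).left ⟶ V.left)) = pullback.fst V.hom (t' ≫ f) := 
      pullbackComp_hom_fst f t' V
    have hB : B.left ≫ pullback.fst V.hom (t' ≫ f) = pullback.fst V.hom (f' ≫ t) := 
      pullbackCongr_inv_fst w V
    have hA : A.left ≫ pullback.fst V.hom (f' ≫ t) = pullback.fst ((EtCoh.bc t).obj V).hom f' ≫ 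
          (pullback.fst V.hom t : ((EtCoh.bc t).obj V).left ⟶ V.left) := pullbackComp_inv_fst t f' V
    have hR : ((A.left ≫ (B.left ≫ C.left)) ≫ pullback.fst ((EtCoh.bc f).obj V).hom t') ≫ 
        (pullback.fst V.hom f : ((EtCoh.bc f).obj V).left ⟶ V.left) = pullback.fst ((EtCoh.bc t).obj V).hom f' ≫ 
          (pullback.fst V.hom t : ((EtCoh.bc t).obj V).left ⟶ V.left) := by
      refine (Category.assoc _ _ _).trans ?_
      refine (Category.assoc _ _ _).trans ?_
      refine (congrArg (fun k => A.left ≫ k) ((Category.assoc _ _ _).trans (congrArg (fun k => B.left ≫ k) hC))).trans ?_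
      exact (congrArg (fun k => A.left ≫ k) hB).trans hA
    exact hL.trans hR.symm
  · exact (Over.w ((sigmaHom f w).app ((EtCoh.bc t).obj V) ≫ (Over.pullback f).map ((projNat t).app V))).trans
      (Over.w ((uf t').map (A ≫ B ≫ C) ≫ (projNat t').app ((EtCoh.bc f).obj V))).symm

theorem map_aux {C : Type*} [Category* C] {D : Type*} [Category* D] {E : Type*} [Category* E] (P : Dᵒᵖ ⥤ E) 
    (U : C ⥤ D) {c₀ c₁ c₂ c₃ : C} {d : D} (i : c₀ ⟶ c₁) (j : c₁ ⟶ c₂) (k : c₂ ⟶ c₃) (l : U.obj c₃ ⟶ d) : 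
    P.map (U.map (i ≫ j ≫ k) ≫ l).op = P.map l.op ≫ P.map (U.map k).op ≫ P.map (U.map j).op ≫ P.map (U.map i).op := by
  simp

/-- Key compatibility of restriction maps. -/
theorem rho_kappa (w : t' ≫ f = f' ≫ t) (H : AbE X) :
    (rhoE t).app ((pushBigE f).obj H) ≫ (EtCoh.push t).map ((kappa f w).app H) = 
      (EtCoh.push f).map ((rhoE t').app H) ≫ (EtCoh.pushComp f t').hom.app ((uRes t').obj H) ≫
        (EtCoh.pushCongr w).hom.app ((uRes t').obj H) ≫ (EtCoh.pushComp t f').inv.app ((uRes t').obj H) := by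
  apply (sheafToPresheaf _ _).map_injective
  apply NatTrans.ext
  ext1 V
  have h := congrArg (fun k => H.obj.map k.op) (over_key f w V.unop)
  exact Eq.trans (H.obj.map_comp _ _).symm (h.trans (map_aux H.obj (uf t') _ _ _ _))

/-- The composite of composition isomorphisms. -/
abbrev swapIso (w : t' ≫ f = f' ≫ t) : EtCoh.push t' ⋙ EtCoh.push f ⟶ EtCoh.push f' ⋙ EtCoh.push t :=
  (EtCoh.pushComp f t').hom ≫ (EtCoh.pushCongr w).hom ≫ (EtCoh.pushComp t f').inv

theorem unit_baseChange0 (w : t' ≫ f = f' ≫ t) (F : EtCoh.Ab X) :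
    (EtCoh.pullPushAdj t).unit.app ((EtCoh.push f).obj F) ≫ 
      (EtCoh.push t).map (EtCoh.baseChange0 f t f' t' w F) = 
    (EtCoh.push f).map ((EtCoh.pullPushAdj t').unit.app F) ≫ (swapIso f w).app ((EtCoh.pull t').obj F) := by
  have := ((EtCoh.pullPushAdj t).homEquiv ((EtCoh.push f).obj F) 
    ((EtCoh.push f').obj ((EtCoh.pull t').obj F))).apply_symm_apply 
      ((EtCoh.push f).map ((EtCoh.pullPushAdj t').unit.app F) ≫ (EtCoh.pushComp f t').hom.app _ ≫
      (EtCoh.pushCongr w).hom.app _ ≫ (EtCoh.pushComp t f').inv.app _)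
  rw [Adjunction.homEquiv_unit] at this
  exact this

theorem rho_kappa' (w : t' ≫ f = f' ≫ t) (H : AbE X) :
    (rhoE t).app ((pushBigE f).obj H) ≫ (EtCoh.push t).map ((kappa f w).app H) = 
      (EtCoh.push f).map ((rhoE t').app H) ≫ (swapIso f w).app ((uRes t').obj H) := 
  rho_kappa f w H

/-- The restriction of `compE f F` to the small étale site of `T` is the base change morphism. -/
theorem compE_bc (w : t' ≫ f = f' ≫ t) (F : EtCoh.Ab X) :
    (pullIso t).hom.app ((EtCoh.push f).obj F) ≫ (uRes t).map (compE f F) ≫ 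
      (kappa f w).app ((aPullE X).obj F) = 
    EtCoh.baseChange0 f t f' t' w F ≫ (EtCoh.push f').map ((pullIso t').hom.app F) := by
  apply ((EtCoh.pullPushAdj t).homEquiv _ _).injective
  have hL : (EtCoh.pullPushAdj t).unit.app ((EtCoh.push f).obj F) ≫ (EtCoh.push t).map 
      ((pullIso t).hom.app ((EtCoh.push f).obj F) ≫ (uRes t).map (compE f F) ≫ 
      (kappa f w).app ((aPullE X).obj F)) = 
      (EtCoh.push f).map ((aAdjE X).unit.app F) ≫ (EtCoh.push f).map ((rhoE t').app ((aPullE X).obj F)) ≫ 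
        (swapIso f w).app ((uRes t').obj ((aPullE X).obj F)) := by
    rw [CategoryTheory.Functor.map_comp, CategoryTheory.Functor.map_comp, ← Category.assoc]
    refine (congrArg (fun k => k ≫ _) (unit_pullIso t ((EtCoh.push f).obj F))).trans ?_
    refine (Category.assoc _ _ _).trans ?_
    have h1 := (rhoE t).naturality (compE f F)
    refine (congrArg (fun k => _ ≫ k) ((Category.assoc _ _ _).symm.trans 
      (congrArg (fun k => k ≫ _) h1.symm))).trans ?_
    refine (congrArg (fun k => _ ≫ k) (Category.assoc _ _ _)).trans ?_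
    refine (Category.assoc _ _ _).symm.trans ?_
    exact congrArg₂ (fun k l => k ≫ l) (unit_compE f F) (rho_kappa' f w ((aPullE X).obj F))
  have hR : (EtCoh.pullPushAdj t).unit.app ((EtCoh.push f).obj F) ≫ (EtCoh.push t).map 
      (EtCoh.baseChange0 f t f' t' w F ≫ (EtCoh.push f').map ((pullIso t').hom.app F)) = 
      (EtCoh.push f).map ((aAdjE X).unit.app F) ≫ (EtCoh.push f).map ((rhoE t').app ((aPullE X).obj F)) ≫ 
        (swapIso f w).app ((uRes t').obj ((aPullE X).obj F)) := by
    rw [CategoryTheory.Functor.map_comp, ← Category.assoc]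
    refine (congrArg (fun k => k ≫ _) (unit_baseChange0 f w F)).trans ?_
    refine (Category.assoc _ _ _).trans ?_
    have h1 := (swapIso f w).naturality ((pullIso t').hom.app F)
    refine (congrArg (fun k => _ ≫ k) h1.symm).trans ?_
    refine (Category.assoc _ _ _).symm.trans ?_
    refine (congrArg (fun k => k ≫ _) ((CategoryTheory.Functor.map_comp _ _ _).symm.trans 
      ((congrArg (EtCoh.push f).map (unit_pullIso t' F)).trans (CategoryTheory.Functor.map_comp _ _ _)))).trans ?_
    exact Category.assoc _ _ _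
  rw [Adjunction.homEquiv_unit, Adjunction.homEquiv_unit]
  exact hL.trans hR.symm

end BC

end Groth.Agent.Etrest.BigPush
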