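import Groth.Agent.Etrest.BigPush

/-!
# Direct images on the big sites and base change, consequences

* `isIso_compE` : if base change holds for `f_* F` in degree zero then
  `a_Y⁻¹ f_* F ⟶ f_{big,*} a_X⁻¹ F` is an isomorphism (big étale sites).
* `nonempty_iso_fppf`: the same for the big fppf sites.
-/

set_option autoImplicit false
universe w u
open CategoryTheory CategoryTheory.Limits AlgebraicGeometry Opposite

noncomputable section

namespace Groth.Agent.Etrest.BigPush

open BigEtSite BigFppf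

variable {X Y : Scheme.{u}} (f : X ⟶ Y)

theorem isIso_uRes_compE {T X' : Scheme.{u}} {t : T ⟶ Y} {f' : X' ⟶ T} {t' : X' ⟶ X} 
    (hp : IsPullback t' f' f t) (F : EtCoh.Ab X) (h : IsIso (EtCoh.baseChange0 f t f' t' hp.w F)) : 
    IsIso ((uRes t).map (compE f F)) := by
  have h1 := compE_bc f hp.w F
  have h2 : IsIso ((kappa f hp.w).app ((aPullE X).obj F)) := isIso_kappa_app f hp _
  have h3 : IsIso (EtCoh.baseChange0 f t f' t' hp.w F ≫ (EtCoh.push f').map ((pullIso t').hom.app F)) := 
    inferInstance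
  rw [← h1] at h3
  have h4 : IsIso ((uRes t).map (compE f F) ≫ (kappa f hp.w).app ((aPullE X).obj F)) := 
    IsIso.of_isIso_comp_left ((pullIso t).hom.app ((EtCoh.push f).obj F)) _
  exact IsIso.of_isIso_comp_right ((uRes t).map (compE f F)) ((kappa f hp.w).app ((aPullE X).obj F))

/-- `(uf t).obj top ≅ Over.mk t`. -/
def ufTop {T Y : Scheme.{u}} (t : T ⟶ Y) : (uf t).obj (EtCoh.top T) ≅ Over.mk t :=
  Over.isoMk (Iso.refl _) (by
      change 𝟙 T ≫ t = 𝟙 T ≫ t
      rfl)

theorem isIso_of_uRes {Y : Scheme.{u}} {H H' : AbE Y} (φ : H ⟶ H') 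
    (h : ∀ (T : Scheme.{u}) (t : T ⟶ Y), IsIso ((uRes t).map φ)) : IsIso φ := by
  have : IsIso ((sheafToPresheaf _ _).map φ) := by
    have : ∀ V, IsIso (((sheafToPresheaf _ _).map φ).app V) := by
      intro V
      have h1 := h V.unop.left V.unop.hom
      have h2 : IsIso (((sheafToPresheaf _ _).map ((uRes V.unop.hom).map φ)).app (op (EtCoh.top V.unop.left))) := 
        inferInstance
      have h3 : IsIso (φ.hom.app (op ((uf V.unop.hom).obj (EtCoh.top V.unop.left)))) := h2
      have h4 := φ.hom.naturality (ufTop V.unop.hom).hom.op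
      have h5 : IsIso (H.obj.map (ufTop V.unop.hom).hom.op ≫ φ.hom.app (op ((uf V.unop.hom).obj (EtCoh.top V.unop.left)))) :=
        inferInstance
      rw [h4] at h5
      exact IsIso.of_isIso_comp_right (φ.hom.app (op (Over.mk V.unop.hom))) (H'.obj.map (ufTop V.unop.hom).hom.op)
    exact NatIso.isIso_of_isIso_app _
  exact isIso_of_reflects_iso _ (sheafToPresheaf _ _)

theorem isIso_compE (F : EtCoh.Ab X) 
    (h : ∀ (T X' : Scheme.{u}) (t : T ⟶ Y) (f' : X' ⟶ T) (t' : X' ⟶ X) (hp : IsPullback t' f' f t), 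
      IsIso (EtCoh.baseChange0 f t f' t' hp.w F)) : IsIso (compE f F) := by
  apply isIso_of_uRes
  intro T t
  exact isIso_uRes_compE f (IsPullback.of_hasPullback f t) F 
    (h _ _ _ _ _ (IsPullback.of_hasPullback f t))

/-- direct image commutes with the inclusion of fppf sheaves. -/
theorem toE_pushBig (H : EtFppf.AbF X) : (toE Y).obj ((EtFppf.pushBig f).obj H) = (pushBigE f).obj ((toE X).obj H) := rfl

/-- The comparison on big fppf sites. -/
def compF [EtFppf.ACont X] [EtFppf.ACont Y] (F : EtCoh.Ab X) :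
    (EtFppf.aPull Y).obj ((EtCoh.push f).obj F) ⟶ (EtFppf.pushBig f).obj ((EtFppf.aPull X).obj F) :=
  (toEFullyFaithful Y).preimage 
    ((aPullIsoE Y).hom.app ((EtCoh.push f).obj F) ≫ compE f F ≫ (pushBigE f).map ((aPullIsoE X).inv.app F))

theorem isIso_compF [EtFppf.ACont X] [EtFppf.ACont Y] (F : EtCoh.Ab X) 
    (h : ∀ (T X' : Scheme.{u}) (t : T ⟶ Y) (f' : X' ⟶ T) (t' : X' ⟶ X) (hp : IsPullback t' f' f t), 
      IsIso (EtCoh.baseChange0 f t f' t' hp.w F)) : IsIso (compF f F) := by
  have := isIso_compE f F h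
  have h2 : IsIso ((toE Y).map (compF f F)) := by
    rw [compF, (toEFullyFaithful Y).map_preimage]
    have i1 : IsIso ((aPullIsoE Y).hom.app ((EtCoh.push f).obj F)) := inferInstance
    have i2 : IsIso ((pushBigE f).map ((aPullIsoE X).inv.app F)) := inferInstance
    exact IsIso.comp_isIso' i1 (IsIso.comp_isIso' this i2)
  exact isIso_of_reflects_iso _ (toE Y)

end Groth.Agent.Etrest.BigPush
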