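import Groth.Agent.Etrest.BigRes
import Groth.Agent.Etrest.RAcyc
import Groth.Agent.Etrest.Eff

/-!
# Higher direct images on the big fppf site of sheaves coming from the small étale site

* `isZero_RpushBig`: vanishing of `R^q f_{big,*} (a⁻¹ F)`, `q > 0`.
* `compFNat`, `compFIso`: natural comparison `f_* ⋙ a_Y⁻¹ ≅ a_X⁻¹ ⋙ f_{big,*}` under degree zero base change.
-/

set_option autoImplicit false
universe w u
open CategoryTheory CategoryTheory.Limits AlgebraicGeometry Opposite

noncomputable section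

namespace Groth.Agent.Etrest.BigPush

open BigEtSite BigFppf BigRes

variable {X Y : Scheme.{u}} (f : X ⟶ Y)

/-- `f_{big,*} ⋙ (-)|_T ≅ (-)|_{X'} ⋙ f'_*`. -/
def kappaF {T X' : Scheme.{u}} {t : T ⟶ Y} {f' : X' ⟶ T} {t' : X' ⟶ X} (hp : IsPullback t' f' f t) :
    EtFppf.pushBig f ⋙ uResF t ≅ uResF t' ⋙ EtCoh.push f' :=
  NatIso.ofComponents (fun H => @asIso _ _ _ _ ((kappa f hp.w).app ((toE X).obj H)) (isIso_kappa_app f hp _)) 
    (fun φ => (kappa f hp.w).naturality ((toE X).map φ))

theorem isZero_RpushBig [EtFppf.ACont X] (F : EtCoh.Ab X)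
    (hL : ∀ (T : Scheme.{u}) (t : T ⟶ X) (q : ℕ), 0 < q → 
      IsZero (((uResF t).rightDerived q).obj ((EtFppf.aPull X).obj F)))
    (hV : ∀ (T X' : Scheme.{u}) (t : T ⟶ Y) (f' : X' ⟶ T) (t' : X' ⟶ X) (_ : IsPullback t' f' f t) (q : ℕ), 0 < q →
      IsZero ((EtCoh.Rpush f' q).obj ((EtCoh.pull t').obj F))) (q : ℕ) (hq : 0 < q) : 
    IsZero ((EtFppf.RpushBig f q).obj ((EtFppf.aPull X).obj F)) := by
  let G := (EtFppf.aPull X).obj F
  let I := InjectiveResolution.of G
  apply RAcyc.isZero_rightDerived_of_exactAt (EtFppf.pushBig f) I q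
  apply exactAt_of_uResF
  intro T t
  let t' := pullback.fst f t
  let f' := pullback.snd f t
  have hp : IsPullback t' f' f t := IsPullback.of_hasPullback f t
  have h1 : ∀ n, (((uResF t').mapHomologicalComplex (ComplexShape.up ℕ)).obj I.cocomplex).ExactAt (n + 1) :=
    fun n => RAcyc.exactAt_of_isZero_rightDerived (uResF t') I (n + 1) (hL _ t' (n + 1) n.succ_pos)
  let J := RAcyc.mapResolution (uResF t') I (fun J hJ => injective_uResF t' J) h1
  have h2 : IsZero (((EtCoh.push f').rightDerived q).obj ((uResF t').obj G)) := 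
    IsZero.of_iso (hV _ _ t f' t' hp q hq) (((EtCoh.push f').rightDerived q).mapIso ((pullIsoF t').app F))
  have h3 := RAcyc.exactAt_of_isZero_rightDerived (EtCoh.push f') J q h2
  have h4 : ((I.cocomplex.sc q).map (uResF t' ⋙ EtCoh.push f')).Exact := h3
  have h5 : ((I.cocomplex.sc q).map (EtFppf.pushBig f ⋙ uResF t)).Exact := 
    (ShortComplex.exact_iff_of_iso ((I.cocomplex.sc q).mapNatIso (kappaF f hp))).2 h4
  exact h5

theorem compE_naturality {F F' : EtCoh.Ab X} (φ : F ⟶ F') : 
    (aPullE Y).map ((EtCoh.push f).map φ) ≫ compE f F' = 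
      compE f F ≫ (pushBigE f).map ((aPullE X).map φ) := by
  apply ((aAdjE Y).homEquiv _ _).injective
  have h1 : (aAdjE Y).unit.app ((EtCoh.push f).obj F) ≫ (aPushE Y).map 
      ((aPullE Y).map ((EtCoh.push f).map φ) ≫ compE f F') = 
      (EtCoh.push f).map (φ ≫ (aAdjE X).unit.app F') := by
    rw [CategoryTheory.Functor.map_comp, ← Category.assoc]
    have h := (aAdjE Y).unit.naturality ((EtCoh.push f).map φ)
    refine (congrArg (fun k => k ≫ (aPushE Y).map (compE f F')) h.symm).trans ?_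
    refine (Category.assoc _ _ _).trans ?_
    refine (congrArg (fun k => (EtCoh.push f).map φ ≫ k) (unit_compE f F')).trans ?_
    exact (CategoryTheory.Functor.map_comp (EtCoh.push f) _ _).symm
  have h2 : (aAdjE Y).unit.app ((EtCoh.push f).obj F) ≫ (aPushE Y).map 
      (compE f F ≫ (pushBigE f).map ((aPullE X).map φ)) = 
      (EtCoh.push f).map ((aAdjE X).unit.app F ≫ (aPushE X).map ((aPullE X).map φ)) := by
    rw [CategoryTheory.Functor.map_comp, ← Category.assoc]
    refine (congrArg (fun k => k ≫ (aPushE Y).map ((pushBigE f).map ((aPullE X).map φ))) (unit_compE f F)).trans ?_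
    exact (CategoryTheory.Functor.map_comp (EtCoh.push f) ((aAdjE X).unit.app F) 
      ((aPushE X).map ((aPullE X).map φ))).symm
  rw [Adjunction.homEquiv_unit, Adjunction.homEquiv_unit]
  refine h1.trans (Eq.trans ?_ h2.symm)
  exact congrArg (EtCoh.push f).map ((aAdjE X).unit.naturality φ)

theorem compF_naturality [EtFppf.ACont X] [EtFppf.ACont Y] {F F' : EtCoh.Ab X} (φ : F ⟶ F') : 
    (EtFppf.aPull Y).map ((EtCoh.push f).map φ) ≫ compF f F' = 
      compF f F ≫ (EtFppf.pushBig f).map ((EtFppf.aPull X).map φ) := by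
  apply (toE Y).map_injective
  rw [CategoryTheory.Functor.map_comp, CategoryTheory.Functor.map_comp, compF, compF, 
    (toEFullyFaithful Y).map_preimage, (toEFullyFaithful Y).map_preimage]
  have e1 := (aPullIsoE Y).hom.naturality ((EtCoh.push f).map φ)
  have e2 := compE_naturality f φ
  have e3 := (aPullIsoE X).inv.naturality φ
  refine (Category.assoc _ _ _).symm.trans ?_
  refine (congrArg (fun k => k ≫ _) e1).trans ?_
  refine (Category.assoc _ _ _).trans ?_
  refine (congrArg (fun k => _ ≫ k) (Category.assoc _ _ _).symm).trans ?_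
  refine (congrArg (fun k => _ ≫ k) (congrArg (fun k => k ≫ _) e2)).trans ?_
  refine Eq.trans ?_ (Category.assoc _ _ _).symm
  refine congrArg (fun k => _ ≫ k) ?_
  refine (Category.assoc _ _ _).trans ?_
  refine Eq.trans ?_ (Category.assoc _ _ _).symm
  refine congrArg (fun k => _ ≫ k) ?_
  exact (CategoryTheory.Functor.map_comp (pushBigE f) _ _).symm.trans 
    ((congrArg (pushBigE f).map e3).trans (CategoryTheory.Functor.map_comp (pushBigE f) _ _))

/-- Natural comparison isomorphism on the big fppf sites, under base change in degree zero. -/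
def compFIso [EtFppf.ACont X] [EtFppf.ACont Y] 
    (h : ∀ (F : EtCoh.Ab X) (T X' : Scheme.{u}) (t : T ⟶ Y) (f' : X' ⟶ T) (t' : X' ⟶ X) (hp : IsPullback t' f' f t), 
      IsIso (EtCoh.baseChange0 f t f' t' hp.w F)) : 
    EtCoh.push f ⋙ EtFppf.aPull Y ≅ EtFppf.aPull X ⋙ EtFppf.pushBig f :=
  NatIso.ofComponents (fun F => @asIso _ _ _ _ (compF f F) (isIso_compF f F (h F))) 
    (fun φ => compF_naturality f φ)

end Groth.Agent.Etrest.BigPush
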