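import Groth.Agent.Etrest.BigPush3
import Groth.Agent.Etrest.AcycTors

/-!
# Comparison of higher direct images (étale vs. fppf)

Both results are stated under explicit hypotheses: base change in degree zero (`h0`), and
`R^q (-|_T) (a⁻¹ F) = 0` for `q > 0` (`hL`).
-/

set_option autoImplicit false
universe w u
open CategoryTheory CategoryTheory.Limits AlgebraicGeometry Opposite

noncomputable section

namespace Groth.Agent.Etrest.BigPush

open BigEtSite BigFppf BigRes

variable {X Y : Scheme.{u}} (f : X ⟶ Y)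

instance additive_aPull (X : Scheme.{u}) [EtFppf.ACont X] : (EtFppf.aPull X).Additive :=
  (EtFppf.aAdj X).left_adjoint_additive

instance preservesFiniteColimits_aPull (X : Scheme.{u}) [EtFppf.ACont X] : 
    PreservesFiniteColimits (EtFppf.aPull X) :=
  have : PreservesColimitsOfSize.{0, 0} (EtFppf.aPull X) := (EtFppf.aAdj X).leftAdjoint_preservesColimits
  PreservesColimitsOfSize.preservesFiniteColimits _

instance preservesFiniteLimits_aPull (X : Scheme.{u}) [EtFppf.ACont X] : 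
    PreservesFiniteLimits (EtFppf.aPull X) := FppfExact.aPull_preservesFiniteLimits X

instance preservesFiniteLimits_pushBig : PreservesFiniteLimits (EtFppf.pushBig f) := by
  have h1 : PreservesFiniteLimits (EtFppf.pushBig f ⋙ sheafToPresheaf (EtFppf.J Y) AddCommGrpCat.{u + 1}) := 
    inferInstanceAs (PreservesFiniteLimits (sheafToPresheaf (EtFppf.J X) AddCommGrpCat.{u + 1} ⋙ 
      (Functor.whiskeringLeft _ _ AddCommGrpCat.{u + 1}).obj (Over.pullback f).op))
  exact preservesFiniteLimits_of_reflects_of_preserves (EtFppf.pushBig f) 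
    (sheafToPresheaf (EtFppf.J Y) AddCommGrpCat.{u + 1})

/-- Degree-wise comparison when all the higher direct images vanish. -/
theorem nonempty_iso_of_vanishing [EtFppf.ACont X] [EtFppf.ACont Y] (F : EtCoh.Ab X)
    (hL : ∀ (T : Scheme.{u}) (t : T ⟶ X) (q : ℕ), 0 < q → 
      IsZero (((uResF t).rightDerived q).obj ((EtFppf.aPull X).obj F)))
    (h0 : ∀ (F : EtCoh.Ab X) (T X' : Scheme.{u}) (t : T ⟶ Y) (f' : X' ⟶ T) (t' : X' ⟶ X) (hp : IsPullback t' f' f t), 
      IsIso (EtCoh.baseChange0 f t f' t' hp.w F))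
    (hV : ∀ (T X' : Scheme.{u}) (t : T ⟶ Y) (f' : X' ⟶ T) (t' : X' ⟶ X) (_ : IsPullback t' f' f t) (q : ℕ), 0 < q →
      IsZero ((EtCoh.Rpush f' q).obj ((EtCoh.pull t').obj F))) 
    (hV' : ∀ q : ℕ, 0 < q → IsZero ((EtCoh.Rpush f q).obj F)) (i : ℕ) : 
    Nonempty ((EtFppf.aPull Y).obj ((EtCoh.Rpush f i).obj F) ≅
      (EtFppf.RpushBig f i).obj ((EtFppf.aPull X).obj F)) := by
  cases i with
  | zero =>
    exact ⟨(EtFppf.aPull Y).mapIso ((EtCoh.push f).rightDerivedZeroIsoSelf.app F) ≪≫ 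
      (compFIso f h0).app F ≪≫ 
      ((EtFppf.pushBig f).rightDerivedZeroIsoSelf.app ((EtFppf.aPull X).obj F)).symm⟩
  | succ n =>
    have h1 : IsZero ((EtFppf.aPull Y).obj ((EtCoh.Rpush f (n + 1)).obj F)) := 
      (EtFppf.aPull Y).map_isZero (hV' (n + 1) n.succ_pos)
    exact ⟨h1.iso (isZero_RpushBig f F hL hV (n + 1) n.succ_pos)⟩

/-- Comparison for torsion sheaves, `f` quasi-compact quasi-separated, under proper base change. -/
theorem nonempty_iso_of_torsion [QuasiCompact f] [QuasiSeparated f] [EtFppf.ACont X] [EtFppf.ACont Y] 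
    (hL : ∀ (F : EtCoh.Ab X) (T : Scheme.{u}) (t : T ⟶ X) (q : ℕ), 0 < q → 
      IsZero (((uResF t).rightDerived q).obj ((EtFppf.aPull X).obj F)))
    (h0 : ∀ (F : EtCoh.Ab X) (T X' : Scheme.{u}) (t : T ⟶ Y) (f' : X' ⟶ T) (t' : X' ⟶ X) (hp : IsPullback t' f' f t), 
      IsIso (EtCoh.baseChange0 f t f' t' hp.w F))
    (hBC : ∀ (F : EtCoh.Ab X) (_ : EtCoh.IsTorsion F) (T X' : Scheme.{u}) (t : T ⟶ Y) (f' : X' ⟶ T) (t' : X' ⟶ X) 
      (_ : IsPullback t' f' f t) (q : ℕ), Nonempty ((EtCoh.pull t).obj ((EtCoh.Rpush f q).obj F) ≅ 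
        (EtCoh.Rpush f' q).obj ((EtCoh.pull t').obj F))) 
    (F : EtCoh.Ab X) (hF : EtCoh.IsTorsion F) (i : ℕ) : 
    Nonempty ((EtFppf.aPull Y).obj ((EtCoh.Rpush f i).obj F) ≅
      (EtFppf.RpushBig f i).obj ((EtFppf.aPull X).obj F)) := by
  refine Eff.nonempty_iso (EtCoh.push f) (EtFppf.aPull Y) (EtFppf.aPull X) (EtFppf.pushBig f) (compFIso f h0)
    EtCoh.IsTorsion (fun p hp h => TorsEt.isTorsion_of_epi p h) ?_ F hF i
  intro F hF
  obtain ⟨J, hJ, i, hi⟩ := AcycTors.exists_mono_tor F hF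
  have hT : EtCoh.IsTorsion (Tors.tor.obj J) := TorsEt.isTorsion_tor J
  refine ⟨Tors.tor.obj J, i, hi, hT, fun q hq => ?_⟩
  have hacyc : ∀ q : ℕ, 0 < q → IsZero ((EtCoh.Rpush f q).obj (Tors.tor.obj J)) := 
    fun q hq => AcycTors.isZero_Rpush_tor f J q hq
  refine ⟨hacyc q hq, isZero_RpushBig f (Tors.tor.obj J) (hL _) ?_ q hq⟩
  intro T X' t f' t' hp q hq
  obtain ⟨e⟩ := hBC (Tors.tor.obj J) hT T X' t f' t' hp q
  exact (((EtCoh.pull t).map_isZero (hacyc q hq))).of_iso e.symm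

end Groth.Agent.Etrest.BigPush
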