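import Groth.Prelude.Def_EtFppf
import Groth.Agent.Etbase.LanFlat
import Groth.Agent.Etrest.RAcyc
import Mathlib.CategoryTheory.Sites.ConstantSheaf

/-!
# The pullback `a⁻¹` from the small étale site to the big fppf site is exact
and preserves constant sheaves; `a_*` preserves injectives.
-/

set_option autoImplicit false
universe u

open CategoryTheory CategoryTheory.Limits AlgebraicGeometry Opposite

namespace Groth.Agent.Etrest.FppfExact

variable (X : Scheme.{u})

instance representablyFlat_a : RepresentablyFlat (EtFppf.a X) := by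
  have h : PreservesFiniteLimits (EtFppf.a X) :=
    inferInstanceAs (PreservesFiniteLimits (Scheme.Etale.forget X))
  exact flat_of_preservesFiniteLimits _

theorem aPull_preservesFiniteLimits [EtFppf.ACont X] : PreservesFiniteLimits (EtFppf.aPull X) := by
  have hfl : ∀ K : (Over X)ᵒᵖ, IsFiltered (CostructuredArrow (EtFppf.a X).op K) := fun K =>
    IsFiltered.of_equivalence (structuredArrowOpEquivalence (EtFppf.a X) (unop K))
  have : ∀ K : (Over X)ᵒᵖ, HasColimitsOfShape (CostructuredArrow (EtFppf.a X).op K)
      AddCommGrpCat.{u + 1} := fun K => inferInstance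
  have : PreservesFiniteLimits ((EtFppf.a X).op.lan :
      (_ ⥤ AddCommGrpCat.{u + 1}) ⥤ (Over X)ᵒᵖ ⥤ AddCommGrpCat.{u + 1}) :=
    Groth.Agent.Etbase.LanFlat.preservesFiniteLimits_op_lan _ _ (fun K => by
      have := hfl K
      have : HasFilteredColimitsOfSize.{u, u + 1} AddCommGrpCat.{u + 1} :=
        hasFilteredColimitsOfSize_shrink.{u, u + 1, u + 1, u + 1}
      have : AB5OfSize.{u, u + 1} AddCommGrpCat.{u + 1} := AB5OfSize_shrink.{u, u + 1, u + 1, u + 1} _
      exact HasExactColimitsOfShape.preservesFiniteLimits)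
  exact Functor.sheafPullbackConstruction.preservesFiniteLimits _ _ _ _

theorem aPush_injective [EtFppf.ACont X] (I : EtFppf.AbF X) (hI : Injective I) :
    Injective ((EtFppf.aPush X).obj I) := by
  have := aPull_preservesFiniteLimits X
  exact Injective.injective_of_adjoint (EtFppf.aAdj X) I

/-- `Over.mk (𝟙 X)` is the image of the terminal object of the small étale site. -/
noncomputable def isTerminalTop : IsTerminal (EtCoh.top X) :=
  IsTerminal.isTerminalOfObj (Scheme.Etale.forget X) (EtCoh.top X) Over.mkIdTerminal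

noncomputable def constIso [EtFppf.ACont X] (M : AddCommGrpCat.{u + 1}) :
    (EtFppf.aPull X).obj ((constantSheaf X.smallEtaleTopology AddCommGrpCat.{u + 1}).obj M) ≅
      (constantSheaf (EtFppf.J X) AddCommGrpCat.{u + 1}).obj M :=
  (Adjunction.leftAdjointUniq
    ((constantSheafAdj X.smallEtaleTopology AddCommGrpCat.{u + 1} (isTerminalTop X)).comp (EtFppf.aAdj X))
    (constantSheafAdj (EtFppf.J X) AddCommGrpCat.{u + 1} (Over.mkIdTerminal : IsTerminal (Over.mk (𝟙 X))))).app M

end Groth.Agent.Etrest.FppfExact
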