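import Groth.Agent.Etrest.BigPush2
import Groth.Agent.Etrest.FppfExact
import Groth.Agent.CohtopA.OverInj
import Groth.Agent.S0779

/-!
# Restriction of fppf sheaves to small étale sites

`uResF t : AbF X ⥤ Ab T` for `t : T ⟶ X`: left exact, preserves injectives, jointly detects
isomorphisms, epimorphisms, exactness.
-/

set_option autoImplicit false
universe w u
open CategoryTheory CategoryTheory.Limits AlgebraicGeometry Opposite

noncomputable section

namespace Groth.Agent.Etrest.BigRes

open BigEtSite BigFppf BigPush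

variable {X T : Scheme.{u}} (t : T ⟶ X)

theorem continuous_uf_J : (uf t).IsContinuous T.smallEtaleTopology (EtFppf.J X) := by
  have : (EtFppf.a T).IsContinuous T.smallEtaleTopology (EtFppf.J T) := Groth.Agent.S0779.result T
  exact Functor.isContinuous_comp _ _ _ (EtFppf.J T) _

instance isContinuous_slice : (Over.mk t).iteratedSliceBackward.IsContinuous (EtFppf.J T) 
    ((EtFppf.J X).over (Over.mk t)) := 
  inferInstanceAs ((Over.mk t).iteratedSliceBackward.IsContinuous (Scheme.fppfTopology.over (Over.mk t).left) 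
    ((Scheme.fppfTopology.over X).over (Over.mk t)))

instance isDenseSubsite_slice : (Over.mk t).iteratedSliceBackward.IsDenseSubsite (EtFppf.J T) 
    ((EtFppf.J X).over (Over.mk t)) := 
  inferInstanceAs ((Over.mk t).iteratedSliceEquiv.inverse.IsDenseSubsite (Scheme.fppfTopology.over (Over.mk t).left) 
    ((Scheme.fppfTopology.over X).over (Over.mk t)))

/-- Restriction to the slice. -/
abbrev sliceRes : Sheaf ((EtFppf.J X).over (Over.mk t)) AddCommGrpCat.{u + 1} ⥤ EtFppf.AbF T :=
  (Over.mk t).iteratedSliceBackward.sheafPushforwardContinuous AddCommGrpCat.{u + 1} 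
        (EtFppf.J T) ((EtFppf.J X).over (Over.mk t))

/-- `uResF` as a composite through the site of objects over `T`. -/
theorem uResF_obj_eq [EtFppf.ACont T] (H : EtFppf.AbF X) : 
    (uResF t).obj H = (EtFppf.aPush T).obj ((sliceRes t).obj (H.over (Over.mk t))) := rfl

instance : (uResF t).Additive where

instance : (sliceRes t).IsEquivalence := by
  infer_instance

theorem exactDiscrete (α : Type u) : HasExactColimitsOfShape (Discrete α) AddCommGrpCat.{u + 1} := by
  have : AB4OfSize.{u + 1} AddCommGrpCat.{u + 1} := AB4.of_AB5 _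
  have : AB4OfSize.{u} AddCommGrpCat.{u + 1} := AB4OfSize_shrink.{u, u + 1} _
  infer_instance

theorem injective_uResF (I : EtFppf.AbF X) [Injective I] : Injective ((uResF t).obj I) := by
  have : EtFppf.ACont T := Groth.Agent.S0779.result T
  rw [uResF_obj_eq]
  apply Groth.Agent.Etrest.FppfExact.aPush_injective
  have := exactDiscrete.{u}
  have h1 : Injective (I.over (Over.mk t)) := Groth.Agent.CohtopA.OverInj.injective_over _ I
  exact ((sliceRes t).asEquivalence.map_injective_iff _).2 h1

set_option backward.isDefEq.respectTransparency.types false in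
theorem mem_smallEtale_iff {X : Scheme.{u}} {U : X.Etale} {R : Sieve U} :
    R ∈ X.smallEtaleTopology U ↔ ∀ x : U.left, ∃ (V : X.Etale) (g : V ⟶ U), R g ∧ x ∈ Set.range g.left := by
  have eX : X.smallEtaleTopology = (X.smallPretopology (P := EtCoh.etaleMP) (Q := EtCoh.etaleMP)).toGrothendieck :=
    Scheme.smallGrothendieckTopology_eq_toGrothendieck_smallPretopology X le_rfl
  rw [eX]
  refine (Scheme.mem_toGrothendieck_smallPretopology U R).trans ?_
  refine forall_congr' fun x => ⟨?_, ?_⟩
  · rintro ⟨V, g, v, hg, -, hv⟩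
    exact ⟨V, g, hg, v, hv⟩
  · rintro ⟨V, g, hg, v, hv⟩
    refine ⟨V, g, v, hg, ?_, hv⟩
    exact inferInstanceAs (Etale g.left)

theorem isLocallySurjective_of_uResF {X : Scheme.{u}} {H H' : EtFppf.AbF X} (φ : H ⟶ H')
    (h : ∀ (T : Scheme.{u}) (t : T ⟶ X), Sheaf.IsLocallySurjective ((uResF t).map φ)) : 
    Sheaf.IsLocallySurjective φ := by
  constructor
  intro V s
  rw [mem_J_iff]
  intro x
  let s' := H'.obj.map (ufTop V.hom).hom.op s
  have h0 : Presheaf.IsLocallySurjective V.left.smallEtaleTopology ((uResF V.hom).map φ).hom := h _ V.hom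
  have h1 := Presheaf.imageSieve_mem V.left.smallEtaleTopology ((uResF V.hom).map φ).hom 
    (U := op (EtCoh.top V.left)) s'
  rw [mem_smallEtale_iff] at h1
  obtain ⟨W, g, ⟨y, hy⟩, ⟨w, hw⟩⟩ := h1 x
  refine ⟨(uf V.hom).obj W, (uf V.hom).map g ≫ (ufTop V.hom).hom, ⟨y, ?_⟩, ?_, ?_, ?_⟩
  · refine (hy : φ.hom.app (op ((uf V.hom).obj W)) y = _).trans ?_
    change H'.obj.map ((uf V.hom).map g).op (H'.obj.map (ufTop V.hom).hom.op s) = _
    rw [← ConcreteCategory.comp_apply, ← CategoryTheory.Functor.map_comp]
    rfl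
  · have : Etale g.left := inferInstance
    exact inferInstanceAs (Flat (g.left ≫ 𝟙 _))
  · have : Etale g.left := inferInstance
    exact inferInstanceAs (LocallyOfFinitePresentation (g.left ≫ 𝟙 _))
  · exact ⟨w, hw⟩

theorem epi_of_uResF {X : Scheme.{u}} {H H' : EtFppf.AbF X} (φ : H ⟶ H')
    (h : ∀ (T : Scheme.{u}) (t : T ⟶ X), Epi ((uResF t).map φ)) : Epi φ := by
  rw [← Sheaf.isLocallySurjective_iff_epi']
  apply isLocallySurjective_of_uResF
  intro T t
  rw [Sheaf.isLocallySurjective_iff_epi']
  exact h T t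

instance : PreservesFiniteLimits (uResF t) := by
  have h1 : PreservesFiniteLimits (uResF t ⋙ sheafToPresheaf T.smallEtaleTopology AddCommGrpCat.{u + 1}) := 
    inferInstanceAs (PreservesFiniteLimits (sheafToPresheaf (EtFppf.J X) AddCommGrpCat.{u + 1} ⋙ 
      (Functor.whiskeringLeft _ _ AddCommGrpCat.{u + 1}).obj (uf t).op))
  exact preservesFiniteLimits_of_reflects_of_preserves (uResF t) 
    (sheafToPresheaf T.smallEtaleTopology AddCommGrpCat.{u + 1})

/-- A left exact functor sends an exact short complex `S` to an exact one iff `S.f` still surjects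
onto the kernel. -/
theorem epi_map_kernelLift {C D : Type*} [Category* C] [Category* D] [Abelian C] [Abelian D] (R : C ⥤ D) 
    [R.Additive] [PreservesFiniteLimits R] (S : ShortComplex C) (h : (S.map R).Exact) : 
    Epi (R.map (kernel.lift S.g S.f S.zero)) := by
  have hz : R.map S.f ≫ R.map S.g = 0 := by rw [← R.map_comp, S.zero, R.map_zero]
  have h1 : Epi (kernel.lift (R.map S.g) (R.map S.f) hz) := h.epi_kernelLift
  have h2 : R.map (kernel.lift S.g S.f S.zero) ≫ (PreservesKernel.iso R S.g).hom = 
      kernel.lift (R.map S.g) (R.map S.f) hz := by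
    apply (cancel_mono (kernel.ι (R.map S.g))).1
    rw [Category.assoc, kernel.lift_ι, PreservesKernel.iso_hom, kernelComparison_comp_ι, 
      ← R.map_comp, kernel.lift_ι]
  have h3 : R.map (kernel.lift S.g S.f S.zero) = 
      kernel.lift (R.map S.g) (R.map S.f) hz ≫ (PreservesKernel.iso R S.g).inv := by
    rw [← h2, Category.assoc, Iso.hom_inv_id, Category.comp_id]
  rw [h3]
  infer_instance

theorem exact_of_uResF {X : Scheme.{u}} (S : ShortComplex (EtFppf.AbF X)) 
    (h : ∀ (T : Scheme.{u}) (t : T ⟶ X), (S.map (uResF t)).Exact) : S.Exact := by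
  rw [S.exact_iff_epi_kernel_lift]
  apply epi_of_uResF
  intro T t
  exact epi_map_kernelLift (uResF t) S (h T t)

theorem exactAt_of_uResF {X : Scheme.{u}} (K : CochainComplex (EtFppf.AbF X) ℕ) (n : ℕ)
    (h : ∀ (T : Scheme.{u}) (t : T ⟶ X), (((uResF t).mapHomologicalComplex (.up ℕ)).obj K).ExactAt n) : 
    K.ExactAt n := by
  exact exact_of_uResF (K.sc n) h

end Groth.Agent.Etrest.BigRes
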