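import Groth.Agent.Cohder.RDAcyc
import Groth.Agent.Etbase.ExtCompare
import Groth.Agent.Sga4h.PushDer
import Groth.Agent.Sga4h.Acyc
import Groth.Agent.Sga4B.HpullSquare
import Groth.Agent.Etcore.PullCoh

/-!
# `EtCore.Hpull` is bijective for sheaves with `F = f_* f^* F` and `R^q f_* f^* F = 0`

Also functoriality of `Hpull` in the sheaf and in the morphism.
-/

set_option autoImplicit false
universe w w' u v v' u'

open CategoryTheory CategoryTheory.Limits AlgebraicGeometry Opposite CategoryTheory.Abelian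

namespace Groth.Agent.Etrest.HpullAcyc

section Abstract

variable {B : Type u} [Category.{v} B] [Abelian B] {A : Type u'} [Category.{v'} A] [Abelian A]
  [HasInjectiveResolutions A]
  (L : B ⥤ A) [L.Additive] [PreservesFiniteLimits L] [PreservesFiniteColimits L]
  [HasExt.{w} B] [HasExt.{w'} A]

/-- Degenerate Leray with derived functors. -/
theorem cmp_counit_bijective {G : A ⥤ B} [G.Additive] (adj : L ⊣ G) (X : B)
    (n : ℕ) (F : A) (hF : ∀ q : ℕ, 0 < q → IsZero ((G.rightDerived q).obj F)) :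
    Function.Bijective (Etbase.ExtCompare.cmp.{w, w'} (F := F) L X (adj.counit.app F) n) := by
  have hG : PreservesLimitsOfSize.{0, 0} G := adj.rightAdjoint_preservesLimits
  have : PreservesFiniteLimits G := PreservesLimitsOfSize.preservesFiniteLimits _
  refine Etbase.ExtCompare.cmp_counit_bijective L adj X
    (fun F => Cohder.RDAcyc.IsAcyc G F) ?_ n F hF
  intro F hF
  obtain ⟨S, hS, rfl, hI⟩ := Cohder.RDAcyc.exists_embedding F
  refine ⟨S.X₂, S.X₃, S.f, S.g, S.zero, hS, hI,
    (Cohder.RDAcyc.map_shortExact G hS (hF 1 one_pos)).epi_g,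
    Cohder.RDAcyc.isAcyc_X₃ G hS hF (Cohder.RDAcyc.isAcyc_injective G S.X₂)⟩

theorem mapExact_bijective {G : A ⥤ B} [G.Additive] (adj : L ⊣ G) (X : B)
    (n : ℕ) (Y : B) [IsIso (adj.unit.app Y)]
    (hF : ∀ q : ℕ, 0 < q → IsZero ((G.rightDerived q).obj (L.obj Y))) :
    Function.Bijective (L.mapExtAddHom X Y n : Ext.{w} X Y n →+ Ext.{w'} (L.obj X) (L.obj Y) n) := by
  have h1 := cmp_counit_bijective.{w, w'} L adj X n (L.obj Y) hF
  have h2 : Function.Bijective (fun e : Ext.{w} X Y n =>
      e.comp (Ext.mk₀ (adj.unit.app Y)) (add_zero n)) := by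
    constructor
    · intro a b h
      have := congrArg (fun e => e.comp (Ext.mk₀ (inv (adj.unit.app Y))) (add_zero n)) h
      simpa only [Ext.comp_assoc_of_third_deg_zero, Ext.mk₀_comp_mk₀, IsIso.hom_inv_id,
        Ext.comp_mk₀_id] using this
    · intro a
      refine ⟨a.comp (Ext.mk₀ (inv (adj.unit.app Y))) (add_zero n), ?_⟩
      simp only [Ext.comp_assoc_of_third_deg_zero, Ext.mk₀_comp_mk₀, IsIso.inv_hom_id]
      exact Ext.comp_mk₀_id _
  have h3 := h1.comp h2
  convert h3 using 1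
  ext e
  simp only [Function.comp_apply, Etbase.ExtCompare.cmp_apply, Ext.mapExactFunctor_comp,
    Ext.mapExactFunctor_mk₀, Ext.comp_assoc_of_third_deg_zero, Ext.mk₀_comp_mk₀,
    adj.left_triangle_components]
  exact (Ext.comp_mk₀_id _).symm

end Abstract

variable {X Y Z : Scheme.{u}}

/-- `Hpull f` is bijective on acyclic sheaves with bijective unit. -/
theorem Hpull_bijective (f : X ⟶ Y) [PreservesFiniteLimits (EtCoh.pull f)] (G : EtCoh.Ab Y)
    (h0 : IsIso ((EtCoh.pullPushAdj f).unit.app G))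
    (h1 : ∀ q : ℕ, 0 < q → IsZero ((EtCoh.Rpush f q).obj ((EtCoh.pull f).obj G))) (n : ℕ) :
    Function.Bijective (EtCore.Hpull f G n) := by
  have h2 : Function.Bijective ((EtCoh.pull f).mapExtAddHom (EtCoh.const Y ℤ) G n) :=
    mapExact_bijective (EtCoh.pull f) (EtCoh.pullPushAdj f) (EtCoh.const Y ℤ) n G h1
  have h3 : Function.Bijective (fun e : Ext ((EtCoh.pull f).obj (EtCoh.const Y ℤ))
      ((EtCoh.pull f).obj G) n => (Ext.mk₀ (EtCore.pullConst f ℤ).inv).comp e (zero_add n)) := by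
    constructor
    · intro a b h
      have := congrArg (fun e => (Ext.mk₀ (EtCore.pullConst f ℤ).hom).comp e (zero_add n)) h
      simpa only [Ext.mk₀_comp_mk₀_assoc, Iso.hom_inv_id, Ext.mk₀_id_comp] using this
    · intro a
      refine ⟨(Ext.mk₀ (EtCore.pullConst f ℤ).hom).comp a (zero_add n), ?_⟩
      simp only [Ext.mk₀_comp_mk₀_assoc, Iso.inv_hom_id]
      exact Ext.mk₀_id_comp _
  exact h3.comp h2

end Groth.Agent.Etrest.HpullAcyc
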