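import Groth.Agent.EtpbcA.OverSite
import Groth.Agent.Etcore.PullCoh
import Groth.Prelude.Def_EtCore

/-!
# The unit `G → f_* f^* G` over opens where `f` is an isomorphism
-/

set_option autoImplicit false
universe u

open CategoryTheory CategoryTheory.Limits AlgebraicGeometry Opposite

namespace Groth.Agent.Etrest.UnitOpen

open Groth.Agent.Etcore.PullCoh EtCoh EtpbcA.OverSite

variable {X Y U : Scheme.{u}}

theorem isIso_of_left {V W : X.Etale} (a : V ⟶ W) [IsIso a.left] : IsIso a := by
  have h : a = (MorphismProperty.Over.isoMk (asIso a.left) (MorphismProperty.Over.w a)).hom :=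
    MorphismProperty.Over.Hom.ext rfl
  rw [h]; infer_instance

theorem isIso_fst_of_factor {V : Scheme.{u}} (h : V ⟶ X) (j : U ⟶ X) [Mono j] (v : V ⟶ U) (hv : v ≫ j = h) :
    IsIso (pullback.fst h j) := by
  have w : 𝟙 V ≫ h = v ≫ j := (Category.id_comp h).trans hv.symm
  refine ⟨pullback.lift (𝟙 V) v w, ?_, pullback.lift_fst _ _ _⟩
  apply pullback.hom_ext
  · rw [Category.assoc, pullback.lift_fst, Category.comp_id, Category.id_comp]
  · rw [← cancel_mono j, Category.assoc, Category.assoc, pullback.lift_snd_assoc, hv,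
      Category.id_comp, pullback.condition]

/-- Sections of `G` over an étale scheme lying over the open `U` are sections of `G|_U`. -/
theorem eta_bijective (j : U ⟶ X) [Etale j] [Mono j] (G : Ab X) (V : X.Etale) (v : V.left ⟶ U)
    (hv : v ≫ j = V.hom) : Function.Bijective (eta j G V) := by
  have h1 : IsIso (pullback.fst V.hom j) := isIso_fst_of_factor V.hom j v hv
  have h2 : IsIso ((compEtaleAdj j).counit.app V).left := by
    rw [compEtaleAdj_counit_left]; exact h1
  have h3 : IsIso ((compEtaleAdj j).counit.app V) := isIso_of_left _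
  have h4 : IsIso (((restrPushAdj j).unit.app G).hom.app (op V)) := by
    rw [restrPushAdj_unit_app]
    exact inferInstanceAs (IsIso (G.obj.map ((compEtaleAdj j).counit.app V).op))
  have h5 : ((pullPushAdj j).unit.app G).hom.app (op V) ≫
      ((push j).map ((pullIsoRestr j).hom.app G)).hom.app (op V) =
        ((restrPushAdj j).unit.app G).hom.app (op V) :=
    congrArg (fun k => k.hom.app (op V)) (unit_pullIsoRestr j G)
  have h6 : IsIso ((push j).map ((pullIsoRestr j).hom.app G)) := inferInstance
  have h7 : IsIso (((push j).map ((pullIsoRestr j).hom.app G)).hom.app (op V)) := by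
    have : IsIso ((push j).map ((pullIsoRestr j).hom.app G)).hom :=
      inferInstanceAs (IsIso ((sheafToPresheaf _ _).map ((push j).map ((pullIsoRestr j).hom.app G))))
    infer_instance
  have h8 : IsIso (((pullPushAdj j).unit.app G).hom.app (op V)) := by
    have : IsIso (((pullPushAdj j).unit.app G).hom.app (op V) ≫
      ((push j).map ((pullIsoRestr j).hom.app G)).hom.app (op V)) := by rw [h5]; exact h4
    exact IsIso.of_isIso_comp_right _ (((push j).map ((pullIsoRestr j).hom.app G)).hom.app (op V))
  exact (ConcreteCategory.isIso_iff_bijective _).1 h8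

instance isIso_bcComp {X Y Z : Scheme.{u}} (f : X ⟶ Y) (t : Y ⟶ Z) (f₀ : X ⟶ Z)
    (w : f ≫ t = f₀) (U : Z.Etale) : IsIso (bcComp f t f₀ w U) := by
  subst w
  rw [← pullbackComp_inv_eq]
  exact ((MorphismProperty.Over.pullbackComp (P := etaleMP) (Q := ⊤) f t).app U).isIso_inv

theorem bijective_app_of_isIso {F G : Ab X} (a : F ⟶ G) [IsIso a] (V : X.Etale) :
    Function.Bijective (a.hom.app (op V)) := by
  have : IsIso a.hom := inferInstanceAs (IsIso ((sheafToPresheaf _ _).map a))
  exact (ConcreteCategory.isIso_iff_bijective _).1 inferInstance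

theorem bijective_map_of_isIso (F : Ab X) {V W : X.Etale} (a : V ⟶ W) [IsIso a] :
    Function.Bijective (F.obj.map a.op) :=
  (ConcreteCategory.isIso_iff_bijective _).1 inferInstance

/-- The unit of `b^* ⊣ b_*` is bijective on sections over étale schemes over an open over which
`b` is an isomorphism. -/
theorem eta_bijective_of_section {X' : Scheme.{u}} (b : X' ⟶ X) (j : U ⟶ X) [Etale j] [Mono j]
    (s : U ⟶ X') [Etale s] [Mono s] (w : s ≫ b = j) (G : Ab X) (V : X.Etale) (v : V.left ⟶ U)
    (hv : v ≫ j = V.hom) (v' : ((bc b).obj V).left ⟶ U) (hv' : v' ≫ s = ((bc b).obj V).hom) :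
    Function.Bijective (eta b G V) := by
  have h1 := eta_bijective j G V v hv
  have h2 := eta_bijective s ((pull b).obj G) ((bc b).obj V) v' hv'
  have h3 := bijective_app_of_isIso (th s b j w G) ((bc s).obj ((bc b).obj V))
  have h4 := bijective_map_of_isIso ((pull j).obj G) (bcComp s b j w V)
  have h5 : (((th s b j w G).hom.app (op ((bc s).obj ((bc b).obj V)))) ∘
      (eta s ((pull b).obj G) ((bc b).obj V))) ∘ (eta b G V) =
      (((pull j).obj G).obj.map (bcComp s b j w V).op) ∘ (eta j G V) := by
    ext g
    exact th_unit s b j w G V g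
  have h6 : Function.Bijective ((((th s b j w G).hom.app (op ((bc s).obj ((bc b).obj V)))) ∘
      (eta s ((pull b).obj G) ((bc b).obj V))) ∘ (eta b G V)) := by
    rw [h5]; exact h4.comp h1
  exact (Function.Bijective.of_comp_iff' (h3.comp h2) _).1 h6

end Groth.Agent.Etrest.UnitOpen
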