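import Groth.Agent.Etrest.HPost

/-!
# `EtCore.Hpull` and the sealed maps `post`, `conn`
-/

set_option autoImplicit false
universe u

open CategoryTheory CategoryTheory.Limits AlgebraicGeometry Opposite CategoryTheory.Abelian

namespace Groth.Agent.Etrest.HPost

open Etcore.PullCoh

variable {X Y Z : Scheme.{u}}

theorem Hpull_post (f : X ⟶ Y) [PreservesFiniteLimits (EtCoh.pull f)] {G H : EtCoh.Ab Y} (φ : G ⟶ H)
    (n : ℕ) (e : EtCoh.H Y G n) :
    EtCore.Hpull f H n (post φ n e) = post ((EtCoh.pull f).map φ) n (EtCore.Hpull f G n e) :=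
  HpullFun.Hpull_mk₀ f φ n e

theorem Hpull_conn (f : X ⟶ Y) [PreservesFiniteLimits (EtCoh.pull f)]
    {S : ShortComplex (EtCoh.Ab Y)} (hS : S.ShortExact) (n : ℕ) (e : EtCoh.H Y S.X₃ n) :
    EtCore.Hpull f S.X₁ (n + 1) (conn hS n e) =
      conn (hS.map_of_exact (EtCoh.pull f)) n (EtCore.Hpull f S.X₃ n e) :=
  Sga4B.ExtCmp.cmp_extClass (EtCoh.pull f) (EtCore.pullConst f ℤ).inv hS rfl e

theorem HpullVia_post (f : X ⟶ Y) (t : Y ⟶ Z) (f₀ : X ⟶ Z) (w : f ≫ t = f₀)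
    [PreservesFiniteLimits (EtCoh.pull f)] (G : EtCoh.Ab Z) (p : ℕ)
    (e : EtCoh.H Y ((EtCoh.pull t).obj G) p) :
    EtCore.HpullVia f t f₀ w G p e = post (th f t f₀ w G) p (EtCore.Hpull f _ p e) :=
  HpullFun.HpullVia_eq f t f₀ w G p e

theorem HpullVia_Hpull (f : X ⟶ Y) (t : Y ⟶ Z) (f₀ : X ⟶ Z) (w : f ≫ t = f₀)
    [PreservesFiniteLimits (EtCoh.pull f)] [PreservesFiniteLimits (EtCoh.pull t)]
    [PreservesFiniteLimits (EtCoh.pull f₀)] (G : EtCoh.Ab Z) (p : ℕ)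
    (e : EtCoh.H Z G p) :
    EtCore.HpullVia f t f₀ w G p (EtCore.Hpull t G p e) = EtCore.Hpull f₀ G p e :=
  (HpullVia_post f t f₀ w G p _).trans (HpullFun.Hpull_Hpull f t f₀ w G p e)

theorem post_bijective {F G : EtCoh.Ab X} (φ : F ⟶ G) [IsIso φ] (n : ℕ) :
    Function.Bijective (post φ n) := by
  constructor
  · intro x y h
    have := congrArg (post (inv φ) n) h
    rwa [post_comp, post_comp, IsIso.hom_inv_id, post_id, post_id] at this
  · intro x
    refine ⟨post (inv φ) n x, ?_⟩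
    rw [post_comp, IsIso.inv_hom_id, post_id]

end Groth.Agent.Etrest.HPost
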