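import Groth.Agent.Etrest.MVAlg
import Groth.Agent.Etrest.HPost2

/-!
# Mayer–Vietoris for étale cohomology of a commutative square, from a short exact sequence
-/

set_option autoImplicit false
universe u

open CategoryTheory CategoryTheory.Limits AlgebraicGeometry Opposite CategoryTheory.Abelian

namespace Groth.Agent.Etrest.MVEt

open HPost Etcore.PullCoh

variable {X X' Z E : Scheme.{u}}

theorem th_nat_inv (f : E ⟶ Z) (t : Z ⟶ X) (c : E ⟶ X) (w : f ≫ t = c) {F G : EtCoh.Ab X}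
    (φ : F ⟶ G) [IsIso ((EtCoh.pull f).map ((EtCoh.pull t).map φ))] [IsIso ((EtCoh.pull c).map φ)] :
    inv ((EtCoh.pull f).map ((EtCoh.pull t).map φ)) ≫ th f t c w F =
      th f t c w G ≫ inv ((EtCoh.pull c).map φ) := by
  rw [IsIso.eq_comp_inv, Category.assoc, ← th_nat f t c w φ, IsIso.inv_hom_id_assoc]

variable (b : X' ⟶ X) (i : Z ⟶ X) (i' : E ⟶ X') (π : E ⟶ Z) (c : E ⟶ X)
  (w : i' ≫ b = c) (w' : π ≫ i = c)
  [PreservesFiniteLimits (EtCoh.pull b)] [PreservesFiniteLimits (EtCoh.pull i)]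
  [PreservesFiniteLimits (EtCoh.pull i')] [PreservesFiniteLimits (EtCoh.pull π)]
  [PreservesFiniteLimits (EtCoh.pull c)]

theorem key_left (F Q : EtCoh.Ab X) (g : F ⟶ Q) [IsIso ((EtCoh.pull i).map g)]
    [IsIso ((EtCoh.pull c).map g)] (n : ℕ) (x : EtCoh.H X Q n) :
    EtCore.HpullVia π i c w' F n (post (inv ((EtCoh.pull i).map g)) n (EtCore.Hpull i Q n x)) =
      post (inv ((EtCoh.pull c).map g)) n (EtCore.Hpull c Q n x) := by
  have hmap : IsIso ((EtCoh.pull π).map ((EtCoh.pull i).map g)) := inferInstance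
  have h1 : (EtCoh.pull π).map (inv ((EtCoh.pull i).map g)) ≫ th π i c w' F =
      th π i c w' Q ≫ inv ((EtCoh.pull c).map g) := by
    rw [Functor.map_inv, th_nat_inv]
  rw [HpullVia_post, Hpull_post, post_comp, h1, ← post_comp, ← HpullVia_post, HpullVia_Hpull]

theorem key_right (F Q : EtCoh.Ab X) (g : F ⟶ Q)
    [IsIso ((EtCoh.pull i').map ((EtCoh.pull b).map g))] [IsIso ((EtCoh.pull c).map g)] (n : ℕ)
    (x : EtCoh.H X Q n) :
    post (inv ((EtCoh.pull i').map ((EtCoh.pull b).map g)) ≫ th i' b c w F) n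
        (EtCore.Hpull i' _ n (EtCore.Hpull b Q n x)) =
      post (inv ((EtCoh.pull c).map g)) n (EtCore.Hpull c Q n x) := by
  rw [th_nat_inv, ← post_comp, ← HpullVia_post, HpullVia_Hpull]

/-- The map `H^n(Z, i^*F) → H^n(E, c^*F)` under the identifications. -/
theorem key (F Q : EtCoh.Ab X) (g : F ⟶ Q) [IsIso ((EtCoh.pull i).map g)]
    [IsIso ((EtCoh.pull i').map ((EtCoh.pull b).map g))] [IsIso ((EtCoh.pull c).map g)] (n : ℕ)
    (x : EtCoh.H X Q n) :
    EtCore.HpullVia π i c w' F n (post (inv ((EtCoh.pull i).map g)) n (EtCore.Hpull i Q n x)) =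
      post (inv ((EtCoh.pull i').map ((EtCoh.pull b).map g)) ≫ th i' b c w F) n
        (EtCore.Hpull i' _ n (EtCore.Hpull b Q n x)) :=
  (key_left i π c w' F Q g n x).trans (key_right b i' c w F Q g n x).symm

theorem les_of {S : ShortComplex (EtCoh.Ab X)} (hS : S.ShortExact)
    (H₁ : ∀ n, Function.Bijective (EtCore.Hpull b S.X₁ n))
    (H₂ : ∀ n, Function.Bijective (EtCore.Hpull i S.X₃ n))
    (H₃ : ∀ n, Function.Bijective (EtCore.Hpull i' ((EtCoh.pull b).obj S.X₃) n))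
    (e₁ : IsIso ((EtCoh.pull i).map S.g))
    (e₂ : IsIso ((EtCoh.pull i').map ((EtCoh.pull b).map S.g)))
    (e₃ : IsIso ((EtCoh.pull c).map S.g)) :
    ∃ δ : ∀ p : ℕ, EtCoh.H E ((EtCoh.pull c).obj S.X₂) p →+ EtCoh.H X S.X₂ (p + 1),
      Function.Injective (fun e : EtCoh.H X S.X₂ 0 =>
        (EtCore.Hpull b S.X₂ 0 e, EtCore.Hpull i S.X₂ 0 e)) ∧
      ∀ p : ℕ,
        Function.Exact
          (fun e : EtCoh.H X S.X₂ p => (EtCore.Hpull b S.X₂ p e, EtCore.Hpull i S.X₂ p e))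
          (fun uv : EtCoh.H X' ((EtCoh.pull b).obj S.X₂) p ×
              EtCoh.H Z ((EtCoh.pull i).obj S.X₂) p =>
            EtCore.HpullVia i' b c w S.X₂ p uv.1 - EtCore.HpullVia π i c w' S.X₂ p uv.2) ∧
        Function.Exact
          (fun uv : EtCoh.H X' ((EtCoh.pull b).obj S.X₂) p ×
              EtCoh.H Z ((EtCoh.pull i).obj S.X₂) p =>
            EtCore.HpullVia i' b c w S.X₂ p uv.1 - EtCore.HpullVia π i c w' S.X₂ p uv.2)
          (δ p) ∧
        Function.Exact (δ p)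
          (fun e : EtCoh.H X S.X₂ (p + 1) =>
            (EtCore.Hpull b S.X₂ (p + 1) e, EtCore.Hpull i S.X₂ (p + 1) e)) := by
  have hbS := hS.map_of_exact (EtCoh.pull b)
  have hf' : Mono ((EtCoh.pull b).map S.f) := hbS.mono_f
  refine MVAlg.mv
    (A := fun n => EtCoh.H X S.X₁ n) (B := fun n => EtCoh.H X S.X₂ n)
    (C := fun n => EtCoh.H X S.X₃ n) (A' := fun n => EtCoh.H X' ((EtCoh.pull b).obj S.X₁) n)
    (B' := fun n => EtCoh.H X' ((EtCoh.pull b).obj S.X₂) n)
    (C' := fun n => EtCoh.H X' ((EtCoh.pull b).obj S.X₃) n)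
    (Z := fun n => EtCoh.H Z ((EtCoh.pull i).obj S.X₂) n)
    (E := fun n => EtCoh.H E ((EtCoh.pull c).obj S.X₂) n)
    (fun n => post S.f n) (fun n => post S.g n) (fun n => conn hS n)
    (fun n => post ((EtCoh.pull b).map S.f) n) (fun n => post ((EtCoh.pull b).map S.g) n)
    (fun n => conn hbS n)
    (fun n => EtCore.Hpull b S.X₁ n) (fun n => EtCore.Hpull b S.X₂ n)
    (fun n => EtCore.Hpull b S.X₃ n)
    (fun n => (post (inv ((EtCoh.pull i).map S.g)) n).comp (EtCore.Hpull i S.X₃ n))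
    (fun n => (post (inv ((EtCoh.pull i').map ((EtCoh.pull b).map S.g)) ≫ th i' b c w S.X₂) n).comp
      (EtCore.Hpull i' ((EtCoh.pull b).obj S.X₃) n))
    (fun n => EtCore.Hpull i S.X₂ n) (fun n => EtCore.HpullVia i' b c w S.X₂ n)
    (fun n => EtCore.HpullVia π i c w' S.X₂ n)
    ?_ ?_ ?_ ?_ ?_ ?_ ?_ H₁ ?_ ?_ ?_ ?_ ?_ ?_ ?_ ?_
  · intro n
    exact exact_fg hS n
  · intro n
    exact exact_gd hS n
  · intro n
    exact exact_df hS n
  · intro n
    exact exact_fg hbS n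
  · intro n
    exact exact_gd hbS n
  · intro n
    exact exact_df hbS n
  · exact post_injective ((EtCoh.pull b).map S.f)
  · intro n
    exact (post_bijective (inv ((EtCoh.pull i).map S.g)) n).comp (H₂ n)
  · intro n
    exact (post_bijective (inv ((EtCoh.pull i').map ((EtCoh.pull b).map S.g)) ≫ th i' b c w S.X₂)
      n).comp (H₃ n)
  · intro n x
    exact Hpull_post b S.f n x
  · intro n x
    exact Hpull_post b S.g n x
  · intro n x
    exact Hpull_conn b hS n x
  · intro n x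
    rw [AddMonoidHom.comp_apply, Hpull_post, post_comp, IsIso.hom_inv_id, post_id]
  · intro n x
    rw [AddMonoidHom.comp_apply, Hpull_post, post_comp, IsIso.hom_inv_id_assoc, HpullVia_post]
  · intro n x
    exact key b i i' π c w w' S.X₂ S.X₃ S.g n x

end Groth.Agent.Etrest.MVEt
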