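import Groth.Agent.S0682
import Groth.Agent.Etbase.CechCartan
import Groth.Agent.EtpbcA.SectColim
import Groth.Agent.Sga4h.AffCover
import Groth.Agent.Etrest.RAcyc

/-!
# Čech acyclic abelian étale sheaves

`QC U`: quasi-compact quasi-separated objects of the small étale site; `Cov f`: surjective maps between such.
`CechAcyc Cov F.obj` is preserved by coproducts and filtered colimits, holds for injectives, and implies
`R^q f_* F = 0` for `q > 0` and `f` quasi-compact quasi-separated.
-/

set_option autoImplicit false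
universe u
open CategoryTheory CategoryTheory.Limits AlgebraicGeometry Opposite Simplicial

namespace Groth.Agent.Etrest.CechQC

open Groth.Agent.Etbase Groth.Agent.Etbase.CechCartan

variable {X : Scheme.{u}}

/-- Quasi-compact quasi-separated objects of the small étale site. -/
structure QC (U : X.Etale) : Prop where
  cpt : CompactSpace U.left
  qs : QuasiSeparatedSpace U.left

theorem QC.of_isAffine (U : X.Etale) (h : IsAffine U.left) : QC U :=
  ⟨inferInstance, inferInstance⟩

theorem QC.of_iso {U V : X.Etale} (e : U ≅ V) (h : QC U) : QC V := by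
  have := h.cpt
  have := h.qs
  let e' : U.left ≅ V.left :=
    ⟨e.hom.left, e.inv.left, congr(($e.hom_inv_id).left), congr(($e.inv_hom_id).left)⟩
  have : IsIso e'.hom := Iso.isIso_hom e'
  exact ⟨e'.hom.homeomorph.compactSpace, (quasiSeparatedSpace_congr e'.hom.homeomorph).1 h.qs⟩

theorem isPullback_left {P U V W : X.Etale} {a : P ⟶ V} {b : P ⟶ W} {g : V ⟶ U} {k : W ⟶ U}
    (h : IsPullback a b g k) : IsPullback a.left b.left g.left k.left := by
  have hp : IsPullback ((Scheme.Etale.forget X).map a)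
      ((Scheme.Etale.forget X).map b)
      ((Scheme.Etale.forget X).map g) ((Scheme.Etale.forget X).map k) := h.map _
  exact hp.map (Over.forget X)

theorem QC.of_isPullback {P U V W : X.Etale} {a : P ⟶ V} {b : P ⟶ W} {g : V ⟶ U} {k : W ⟶ U}
    (h : IsPullback a b g k) (hV : QC V) (hW : QC W) (hU : QC U) : QC P := by
  obtain ⟨_, _⟩ := hV
  obtain ⟨_, _⟩ := hW
  obtain ⟨_, _⟩ := hU
  have hp2 := isPullback_left h
  have h1 : QuasiSeparated b.left := MorphismProperty.of_isPullback (P := @QuasiSeparated) hp2 inferInstance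
  have h2 : QuasiCompact b.left := MorphismProperty.of_isPullback (P := @QuasiCompact) hp2 inferInstance
  exact ⟨QuasiCompact.compactSpace_of_compactSpace b.left,
    quasiSeparatedSpace_of_quasiSeparated b.left⟩

section nerve

variable {V U : X.Etale} (f : V ⟶ U)

/-- `E_0 ≅ V`. -/
noncomputable def isoZero : (Arrow.mk f).cechNerve _⦋0⦌ ≅ V where
  hom := pr f 0 0
  inv := mkE f 0 f (fun _ => 𝟙 _) (by simp)
  hom_inv_id := by
    apply E_hom_ext
    intro i
    fin_cases i
    simp
  inv_hom_id := by simp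

/-- `E_{n+1} = V ×_U E_n`. -/
theorem isPullback_succ (n : ℕ) : IsPullback (pr f (n + 1) 0)
    ((Arrow.mk f).cechNerve.δ (0 : Fin (n + 2))) f (bs f n) := by
  refine ⟨⟨by simp [pr_comp]⟩, ⟨PullbackCone.IsLimit.mk _ ?_ ?_ ?_ ?_⟩⟩
  · intro s
    exact mkE f (n + 1) (s.fst ≫ f) (Fin.cases s.fst (fun i => s.snd ≫ pr f n i)) (by
      intro i
      induction i using Fin.cases with
      | zero => rfl
      | succ i => simpa [pr_comp] using s.condition.symm)
  · intro s
    simp
  · intro s
    apply E_hom_ext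
    intro i
    simp
  · intro s m h1 h2
    apply E_hom_ext
    intro i
    induction i using Fin.cases with
    | zero => simpa using h1
    | succ i =>
      rw [mkE_pr, Fin.cases_succ, ← h2]
      simp

theorem QC.cechNerve (hV : QC V) (hU : QC U) (n : ℕ) : QC ((Arrow.mk f).cechNerve _⦋n⦌) := by
  induction n with
  | zero => exact hV.of_iso (isoZero f).symm
  | succ n ih => exact QC.of_isPullback (isPullback_succ f n) hV ih hU

end nerve

section cover

/-- Coverings between quasi-compact quasi-separated objects. -/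
def Cov ⦃V U : X.Etale⦄ (f : V ⟶ U) : Prop := QC V ∧ QC U ∧ Function.Surjective f.left

theorem generateSingleton_mem {V U : X.Etale} (f : V ⟶ U) (hf : Function.Surjective f.left) :
    Sieve.generateSingleton f ∈ X.smallEtaleTopology U := by
  rw [Site0.mem_iff]
  intro x
  obtain ⟨v, hv⟩ := hf x
  exact ⟨V, f, ⟨𝟙 _, by simp⟩, v, hv⟩

/-- Dimension shifting for the class of sheaves which are Čech acyclic for coverings of quasi-compact
quasi-separated objects. -/
theorem step {S : ShortComplex (EtCoh.Ab X)} (hS : S.ShortExact) (hI : Injective S.X₂)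
    (hF : CechAcyc Cov S.X₁.obj) :
    (∀ U, QC U → Function.Surjective (S.g.hom.app (op U))) ∧ CechAcyc Cov S.X₃.obj := by
  have : Epi S.g := hS.epi_g
  refine cartan_step.{u + 1} (J := X.smallEtaleTopology) QC Cov
    (fun V U f hf n => QC.cechNerve f hf.1 hf.2.1 n)
    (fun V U f hf => generateSingleton_mem f hf.2.2) S.f S.g S.zero hS ?_ hF
  intro U hU s
  have := hU.cpt
  obtain ⟨W, f, t, hW, hf, ht⟩ := Sga4h.AffCover.exists_affine_lift S.g U s
  exact ⟨W, f, ⟨QC.of_isAffine W hW, hU, hf⟩, t, ht⟩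

end cover

section push

variable {Y : Scheme.{u}} (f : X ⟶ Y)

theorem QC.bc [QuasiCompact f] [QuasiSeparated f] {V : Y.Etale} (hV : QC V) :
    QC ((EtCoh.bc f).obj V) := by
  obtain ⟨_, _⟩ := hV
  have h1 : QuasiCompact (EtShriek.prV f V) :=
    (inferInstance : QuasiCompact (pullback.fst (V.hom : V.left ⟶ Y) f))
  have h2 : QuasiSeparated (EtShriek.prV f V) :=
    (inferInstance : QuasiSeparated (pullback.fst (V.hom : V.left ⟶ Y) f))
  exact ⟨QuasiCompact.compactSpace_of_compactSpace (EtShriek.prV f V),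
    quasiSeparatedSpace_of_quasiSeparated (EtShriek.prV f V)⟩

theorem epi_push [QuasiCompact f] [QuasiSeparated f] {I Q : EtCoh.Ab X} (β : I ⟶ Q)
    (h : ∀ U : X.Etale, QC U → Function.Surjective (β.hom.app (op U))) :
    Epi ((EtCoh.push f).map β) := by
  rw [Dix.EtaleSieve.epi_iff]
  intro V s x
  obtain ⟨W, g, hW, -, w, hw⟩ := Site0.exists_affine V x
  obtain ⟨t, ht⟩ := h _ (QC.bc f (QC.of_isAffine W hW)) (((EtCoh.push f).obj Q).obj.map g.op s)
  exact ⟨W, g, ⟨w, hw⟩, t, ht⟩

/-- Čech acyclic sheaves are acyclic for direct images under quasi-compact quasi-separated morphisms. -/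
theorem isZero_Rpush [QuasiCompact f] [QuasiSeparated f] {F : EtCoh.Ab X} (hF : CechAcyc Cov F.obj)
    (q : ℕ) (hq : 0 < q) : IsZero ((EtCoh.Rpush f q).obj F) :=
  RAcyc.isZero_rightDerived_of_class (EtCoh.push f) (fun F => CechAcyc Cov F.obj)
    (fun S hS hI hF => ⟨(step hS hI hF).2, epi_push f S.g (step hS hI hF).1⟩) hF q hq

end push

section stability

theorem cechAcyc_of_injective (I : EtCoh.Ab X) [Injective I] : CechAcyc Cov I.obj := by
  have : Injective I.obj := Injective.injective_of_adjoint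
    (sheafificationAdjunction X.smallEtaleTopology AddCommGrpCat.{u + 1}) I
  intro V U f _
  exact exact_of_injective.{u + 1} (contractible_cechNerve f) I.obj

/-- Coproducts of Čech acyclic sheaves are Čech acyclic. -/
theorem cechAcyc_of_isColimit_cofan {ι : Type u} {K : ι → EtCoh.Ab X} {c : Cofan K} (hc : IsColimit c)
    (h : ∀ i, CechAcyc Cov (K i).obj) : CechAcyc Cov c.pt.obj := by
  intro V U f hf n x hx
  have h0 := (QC.cechNerve f hf.1 hf.2.1 (n + 1)).cpt
  obtain ⟨I, hI⟩ := S0682.exists_partId_eq hc _ x Set.univ isCompact_univ (Set.subset_univ _)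
  have h1 : ∀ i, ∃ y, dC (K i).obj (Arrow.mk f).cechNerve n y =
      (S0682.proj hc i).hom.app (op ((Arrow.mk f).cechNerve _⦋n + 1⦌)) x := by
    intro i
    refine h i f hf n _ ?_
    rw [← dC_naturality_apply, hx, map_zero]
  choose y hy using h1
  refine ⟨∑ i ∈ I, (c.inj i).hom.app _ (y i), ?_⟩
  rw [map_sum]
  refine Eq.trans ?_ hI
  refine Eq.trans (Finset.sum_congr rfl fun i _ => ?_) (map_sum (S0682.evalHom _ x) _ I).symm
  rw [← dC_naturality_apply, hy]
  rfl

/-- Filtered colimits of Čech acyclic sheaves are Čech acyclic. -/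
theorem cechAcyc_of_isColimit_filtered {J : Type*} [Category J] [IsFiltered J]
    [HasColimitsOfShape J AddCommGrpCat.{u + 1}]
    [PreservesColimitsOfShape J (forget AddCommGrpCat.{u + 1})] {D : J ⥤ EtCoh.Ab X} {c : Cocone D}
    (hc : IsColimit c) (h : ∀ j, CechAcyc Cov (D.obj j).obj) : CechAcyc Cov c.pt.obj := by
  intro V U f hf n x hx
  have hE := fun n => QC.cechNerve f hf.1 hf.2.1 n
  obtain ⟨_, _⟩ := hE (n + 1)
  obtain ⟨_, _⟩ := hE (n + 2)
  obtain ⟨j, t, rfl⟩ := EtpbcA.SectColim.exists_rep hc _ x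
  rw [← dC_naturality_apply] at hx
  obtain ⟨k, g, hg⟩ := EtpbcA.SectColim.exists_map_eq_zero hc _ j _ hx
  rw [dC_naturality_apply] at hg
  obtain ⟨y, hy⟩ := h k f hf n _ hg
  refine ⟨(c.ι.app k).hom.app _ y, ?_⟩
  rw [← dC_naturality_apply, hy]
  exact congr(($(c.w g)).hom.app (op ((Arrow.mk f).cechNerve _⦋n + 1⦌)) t)

end stability

end Groth.Agent.Etrest.CechQC
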