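import Groth.Agent.Etrest.ModCons
import Groth.Agent.Etrest.ModFT
import Groth.Agent.Etrest.RDer1
import Mathlib.Algebra.Homology.ShortComplex.ModuleCat

/-!
# Constructibility of `R^q f_* M` for constant torsion sheaves: reduction to `ℓ`-torsion
-/

set_option autoImplicit false
universe u
open CategoryTheory CategoryTheory.Limits AlgebraicGeometry Opposite
open scoped ZeroObject

namespace Groth.Agent.Etrest.Cons752

variable {Λ : Type (u + 1)} [CommRing Λ] {X S : Scheme.{u}}

theorem ftFive [IsNoetherianRing Λ] : ModCons.FTFive Λ := 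
  fun _ _ _ _ _ _ f₁ f₂ f₃ f₄ _ _ _ h₁ h₂ h₃ hA hB hD hE => 
    ModFT.ftlc_five f₁ f₂ f₃ f₄ (ModFT.stalkExact_of_exact h₁) (ModFT.stalkExact_of_exact h₂) 
      (ModFT.stalkExact_of_exact h₃) hA hB hD hE

theorem isConstructible_of_isZero {F : EtModW.Mod Λ X} (hF : IsZero F) : EtModW.IsConstructible Λ F :=
  ModCons.isConstructible_of_ft (ModFT.ftlc_of_isZero hF)

instance (f : X ⟶ S) : PreservesFiniteLimits (EtModW.push Λ f) := by
  have : PreservesLimitsOfSize.{0, 0} (EtModW.push Λ f) := 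
    ((EtCoh.bc f).sheafAdjunctionContinuous (ModuleCat.{u + 1} Λ) S.smallEtaleTopology 
      X.smallEtaleTopology).rightAdjoint_preservesLimits
  exact PreservesLimitsOfSize.preservesFiniteLimits _

variable [IsNoetherianRing Λ] (f : X ⟶ S)

omit [IsNoetherianRing Λ] in
theorem mono_zero {K : ShortComplex (EtModW.Mod Λ X)} (hK : K.ShortExact) :
    Mono ((EtModW.Rpush Λ f 0).map K.f) := by
  have := hK.mono_f
  have h := (EtModW.push Λ f).rightDerivedZeroIsoSelf.hom.naturality K.f
  have h2 : Mono ((EtModW.Rpush Λ f 0).map K.f ≫ (EtModW.push Λ f).rightDerivedZeroIsoSelf.hom.app _) := by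
    rw [h]
    exact mono_comp _ _
  exact mono_of_mono _ ((EtModW.push Λ f).rightDerivedZeroIsoSelf.hom.app _)

/-- Two out of three: the middle term. -/
theorem isConstructible_middle {K : ShortComplex (EtModW.Mod Λ X)} (hK : K.ShortExact) 
    (h1 : ∀ q, EtModW.IsConstructible Λ ((EtModW.Rpush Λ f q).obj K.X₁))
    (h3 : ∀ q, EtModW.IsConstructible Λ ((EtModW.Rpush Λ f q).obj K.X₃)) (q : ℕ) :
    EtModW.IsConstructible Λ ((EtModW.Rpush Λ f q).obj K.X₂) := by
  cases q with
  | zero =>
    have := mono_zero f hK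
    refine ModCons.isConstructible_five_of_ftFive ftFive (0 : (0 : EtModW.Mod Λ S) ⟶ (EtModW.Rpush Λ f 0).obj K.X₁) 
      ((EtModW.Rpush Λ f 0).map K.f) ((EtModW.Rpush Λ f 0).map K.g) (RDer1.δ (EtModW.push Λ f) hK 0)
      zero_comp (RDer1.map_comp_map (EtModW.push Λ f) 0) (RDer1.comp_δ (EtModW.push Λ f) hK 0) 
      ?_ (RDer1.exact₂ (EtModW.push Λ f) hK 0) (RDer1.exact₃ (EtModW.push Λ f) hK 0) 
      (isConstructible_of_isZero (isZero_zero _)) (h1 0) (h3 0) (h1 1)
    exact (ShortComplex.exact_iff_mono _ rfl).2 this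
  | succ q =>
    exact ModCons.isConstructible_five_of_ftFive ftFive (RDer1.δ (EtModW.push Λ f) hK q)
      ((EtModW.Rpush Λ f (q + 1)).map K.f) ((EtModW.Rpush Λ f (q + 1)).map K.g) 
      (RDer1.δ (EtModW.push Λ f) hK (q + 1))
      (RDer1.δ_comp (EtModW.push Λ f) hK q) (RDer1.map_comp_map (EtModW.push Λ f) (q + 1)) 
      (RDer1.comp_δ (EtModW.push Λ f) hK (q + 1)) 
      (RDer1.exact₁ (EtModW.push Λ f) hK q) (RDer1.exact₂ (EtModW.push Λ f) hK (q + 1)) 
      (RDer1.exact₃ (EtModW.push Λ f) hK (q + 1)) 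
      (h3 q) (h1 (q + 1)) (h3 (q + 1)) (h1 (q + 2))

omit [IsNoetherianRing Λ] in
/-- The short exact sequence of constant sheaves. -/
theorem constMod_shortExact {K : ShortComplex (ModuleCat.{u + 1} Λ)} (hK : K.ShortExact) :
    (K.map (constantSheaf X.smallEtaleTopology (ModuleCat.{u + 1} Λ))).ShortExact := by
  have h1 : PreservesFiniteLimits (constantSheaf X.smallEtaleTopology (ModuleCat.{u + 1} Λ)) := by
    unfold constantSheaf
    infer_instance
  have h2 : PreservesFiniteColimits (constantSheaf X.smallEtaleTopology (ModuleCat.{u + 1} Λ)) := by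
    unfold constantSheaf
    infer_instance
  exact hK.map_of_exact _

/-- Reduction to modules killed by a prime number. -/
theorem isConstructible_of_prime 
    (hℓ : ∀ (ℓ : ℕ) [Fact ℓ.Prime] (N : Type (u + 1)) [AddCommGroup N] [Module Λ N] [Module.Finite Λ N], 
      (∀ m : N, ℓ • m = 0) → ∀ q : ℕ, 
        EtModW.IsConstructible Λ ((EtModW.Rpush Λ f q).obj (EtModW.constMod Λ X N))) (n : ℕ) :
    0 < n → ∀ (M : Type (u + 1)) [AddCommGroup M] [Module Λ M] [Module.Finite Λ M], (∀ m : M, n • m = 0) → 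
      ∀ q : ℕ, EtModW.IsConstructible Λ ((EtModW.Rpush Λ f q).obj (EtModW.constMod Λ X M)) := by
  induction n using induction_on_primes with
  | zero => exact fun h => absurd h (lt_irrefl _)
  | one =>
    intro _ M _ _ _ hM q
    have : Subsingleton M := ⟨fun a b => by rw [← one_smul ℕ a, ← one_smul ℕ b, hM, hM]⟩
    have h0 : IsZero (ModuleCat.of Λ M) := ModuleCat.isZero_of_subsingleton _
    exact isConstructible_of_isZero ((EtModW.Rpush Λ f q).map_isZero 
      ((constantSheaf X.smallEtaleTopology (ModuleCat.{u + 1} Λ)).map_isZero h0))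
  | prime_mul ℓ n hℓp ih =>
    intro hn M _ _ _ hM
    have : Fact ℓ.Prime := ⟨hℓp⟩
    have hn' : 0 < n := Nat.pos_of_mul_pos_left hn
    let N : Submodule Λ M := LinearMap.range ((ℓ : Λ) • (LinearMap.id : M →ₗ[Λ] M))
    have hN : ∀ m : N, n • m = 0 := by
      rintro ⟨_, m, rfl⟩
      apply Subtype.ext
      change n • ((ℓ : Λ) • m) = 0
      rw [Nat.cast_smul_eq_nsmul, smul_smul, mul_comm]
      exact hM m
    have hQ : ∀ m : M ⧸ N, ℓ • m = 0 := by
      intro m
      obtain ⟨m, rfl⟩ := Submodule.Quotient.mk_surjective _ m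
      rw [← Submodule.Quotient.mk_smul, Submodule.Quotient.mk_eq_zero]
      refine ⟨m, ?_⟩
      change (ℓ : Λ) • m = ℓ • m
      rw [Nat.cast_smul_eq_nsmul]
    let K : ShortComplex (ModuleCat.{u + 1} Λ) := ShortComplex.mk (ModuleCat.ofHom N.subtype) 
      (ModuleCat.ofHom N.mkQ) (by ext m; exact (Submodule.Quotient.mk_eq_zero _).2 m.2)
    have hK : K.ShortExact := by
      refine { exact := ?_, mono_f := ?_, epi_g := ?_ }
      · rw [ShortComplex.moduleCat_exact_iff_range_eq_ker]
        change LinearMap.range N.subtype = LinearMap.ker N.mkQ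
        rw [Submodule.range_subtype, Submodule.ker_mkQ]
      · rw [ModuleCat.mono_iff_injective]
        exact N.injective_subtype
      · rw [ModuleCat.epi_iff_surjective]
        exact N.mkQ_surjective
    exact isConstructible_middle f (constMod_shortExact hK) (fun q => ih hn' N hN q) (fun q => hℓ ℓ (M ⧸ N) hQ q)

end Groth.Agent.Etrest.Cons752
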