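import Groth.Agent.S0130
import Groth.Agent.S0131
import Groth.Agent.S0132
import Groth.Agent.Sga4B.ShriekTools
import Groth.Agent.EtpbcA.StrataGlob
import Groth.Agent.EtpbcA.KilledBy
import Groth.Agent.Etrest.ConstBasic
import Mathlib.CategoryTheory.ObjectProperty.Kernels
import Mathlib.CategoryTheory.ObjectProperty.Extensions
import Mathlib.CategoryTheory.ObjectProperty.ContainsZero

/-!
# Constructible abelian sheaves on a qcqs scheme form a weak Serre class; `j_!` of a constructible
sheaf is constructible
-/

set_option autoImplicit false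
universe u

open CategoryTheory CategoryTheory.Limits AlgebraicGeometry Opposite
open scoped ZeroObject
set_option linter.unusedSectionVars false

namespace Groth.Agent.Etrest.ConsClass

open Groth.Agent.Sga4B.ShriekTools

variable (X : Scheme.{u})

/-- constructible abelian sheaves -/
def cons : ObjectProperty (EtCoh.Ab X) := fun F => EtPBC.IsConstructible F

instance : (cons X).IsClosedUnderIsomorphisms :=
  ⟨fun e h => EtpbcA.StrataGlob.isConstructible_of_iso e h⟩

variable {X}

theorem isConstructible_of_isZero (F : EtCoh.Ab X) (h : IsZero F) :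
    EtPBC.IsConstructible F := by
  have h0 : (constantSheaf X.smallEtaleTopology AddCommGrpCat.{u + 1}).Additive := by
    unfold constantSheaf
    infer_instance
  have hz : IsZero (AddCommGrpCat.of (ULift.{u + 1} PUnit.{1})) := AddCommGrpCat.isZero_of_subsingleton _
  have h1 : IsZero (EtCoh.const X PUnit.{1}) :=
    (constantSheaf X.smallEtaleTopology AddCommGrpCat.{u + 1}).map_isZero hz
  exact EtpbcA.StrataGlob.isConstructible_of_iso (h1.iso h)
    (Etrest.ConstBasic.isConstructible_const X PUnit.{1})

instance : (cons X).ContainsZero := ⟨⟨0, isZero_zero _, isConstructible_of_isZero _ (isZero_zero _)⟩⟩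

variable [CompactSpace X] [QuasiSeparatedSpace X]

theorem exists_common {F G : EtCoh.Ab X} (hF : EtPBC.IsConstructible F) (hG : EtPBC.IsConstructible G) :
    ∃ n : ℕ, 0 < n ∧ EtCoh.KilledBy n F ∧ EtCoh.KilledBy n G := by
  obtain ⟨a, ha, hFa⟩ := EtpbcA.KilledBy.exists_killedBy_of_isConstructible hF
  obtain ⟨b, hb, hGb⟩ := EtpbcA.KilledBy.exists_killedBy_of_isConstructible hG
  refine ⟨a * b, Nat.mul_pos ha hb, fun U s => ?_, fun U s => ?_⟩
  · rw [mul_comm, mul_smul, hFa, smul_zero]
  · rw [mul_smul, hGb, smul_zero]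

instance : (cons X).IsClosedUnderKernels where
  kernels_le := by
    rintro _ ⟨f, k, hk, hf1, hf2⟩
    obtain ⟨n, hn, h1, h2⟩ := exists_common hf1 hf2
    exact EtpbcA.StrataGlob.isConstructible_of_iso
      ((kernelIsKernel f).conePointUniqueUpToIso hk) (S0131.result f n hn h1 h2 hf1 hf2).1

instance : (cons X).IsClosedUnderCokernels where
  cokernels_le := by
    rintro _ ⟨f, k, hk, hf1, hf2⟩
    obtain ⟨n, hn, h1, h2⟩ := exists_common hf1 hf2
    exact EtpbcA.StrataGlob.isConstructible_of_iso
      ((cokernelIsCokernel f).coconePointUniqueUpToIso hk) (S0131.result f n hn h1 h2 hf1 hf2).2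

/-- middle term of an extension is killed by an integer -/
theorem killedBy_ext {S : ShortComplex (EtCoh.Ab X)} (hS : S.ShortExact) {a b : ℕ}
    (h1 : EtCoh.KilledBy a S.X₁) (h3 : EtCoh.KilledBy b S.X₃) : EtCoh.KilledBy (a * b) S.X₂ := by
  have := hS.mono_f
  rw [killedBy_iff] at h1 h3 ⊢
  have h : (b • 𝟙 S.X₂) ≫ S.g = 0 := by
    rw [Preadditive.nsmul_comp, Category.id_comp, ← Category.comp_id S.g,
      ← Preadditive.comp_nsmul, h3, comp_zero]
  let t := hS.exact.lift (b • 𝟙 S.X₂) h
  have ht : t ≫ S.f = b • 𝟙 S.X₂ := hS.exact.lift_f _ _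
  rw [mul_smul, ← ht, ← Preadditive.nsmul_comp, ← Category.comp_id t, ← Preadditive.comp_nsmul, h1,
    comp_zero, zero_comp]

instance : (cons X).IsClosedUnderExtensions where
  prop_X₂_of_shortExact {S} hS h1 h3 := by
    obtain ⟨a, ha, hFa⟩ := EtpbcA.KilledBy.exists_killedBy_of_isConstructible h1
    obtain ⟨b, hb, hGb⟩ := EtpbcA.KilledBy.exists_killedBy_of_isConstructible h3
    exact S0132.result S hS (a * b) (Nat.mul_pos ha hb) (killedBy_ext hS hFa hGb) h1 h3

/-- `j_! F` is constructible for a quasi-compact open immersion into a qcqs scheme. -/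
theorem isConstructible_extZero {U : Scheme.{u}} (j : U ⟶ X) [IsOpenImmersion j] [QuasiCompact j]
    (F : EtCoh.Ab U) (hF : EtPBC.IsConstructible F) :
    EtPBC.IsConstructible ((EtShriek.extZero j).obj F) := by
  let Z : TopologicalSpace.Closeds X := ⟨(Set.range j)ᶜ, j.isOpenEmbedding.isOpen_range.isClosed_compl⟩
  let I := Scheme.IdealSheafData.vanishingIdeal Z
  have hI : Set.range I.subschemeι = (Set.range j)ᶜ := by
    rw [Scheme.IdealSheafData.range_subschemeι, Scheme.IdealSheafData.coe_support_vanishingIdeal]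
    rfl
  have hc : Topology.IsConstructible (Set.range j) := by
    have hU : CompactSpace U := QuasiCompact.compactSpace_of_compactSpace j
    refine IsRetrocompact.isConstructible j.isOpenEmbedding.isOpen_range ?_
    intro V hV1 hV2
    have h3 : Set.range j ∩ V = j '' (j ⁻¹' V) := by
      rw [Set.image_preimage_eq_inter_range, Set.inter_comm]
    rw [h3]
    exact (QuasiCompact.isCompact_preimage (f := j) V hV2 hV1).image j.continuous
  let T : ULift.{u} Bool → Scheme.{u} := fun b => match b with
      | ⟨true⟩ => U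
      | ⟨false⟩ => I.subscheme
  let g : ∀ b : ULift.{u} Bool, T b ⟶ X := fun b => match b with
      | ⟨true⟩ => j
      | ⟨false⟩ => I.subschemeι
  have hb : ∀ b : ULift.{u} Bool, EtCoh.BCCont (g b) := fun b => EtCoh.bcCont (g b)
  have : ∀ b : ULift.{u} Bool, IsImmersion (g b) := by
    rintro ⟨_ | _⟩
    · exact (inferInstance : IsImmersion I.subschemeι)
    · exact (inferInstance : IsImmersion j)
  refine Groth.Agent.S0130.result X _ (ι := ULift.{u} Bool) T g ?_ ?_ ?_
  · rintro ⟨_ | _⟩
    · change Topology.IsConstructible (Set.range I.subschemeι)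
      rw [hI]
      exact hc.compl
    · exact hc
  · rw [Set.eq_univ_iff_forall]
    intro x
    rw [Set.mem_iUnion]
    by_cases hx : x ∈ Set.range j
    · exact ⟨⟨true⟩, hx⟩
    · refine ⟨⟨false⟩, ?_⟩
      change x ∈ Set.range I.subschemeι
      rw [hI]
      exact hx
  · rintro ⟨_ | _⟩
    · refine isConstructible_of_isZero _ (isZero_pull_extZero j I.subschemeι ?_ F)
      rw [hI]
      exact disjoint_compl_left
    · exact EtpbcA.StrataGlob.isConstructible_of_iso (pullExtZeroIso j F).symm hF

end Groth.Agent.Etrest.ConsClass
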