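import Groth.Agent.Etrest.DComp

/-!
# The total right derived functor on an acyclic object in degree zero

`nonempty_RF_single`: if `X` is `F`-acyclic then `RF (X[0]) ≅ (F X)[0]`.
-/

set_option autoImplicit false
universe w₁ w₂ v₁ v₂ u₁ u₂

open CategoryTheory CategoryTheory.Limits Opposite

namespace Groth.Agent.Etrest.DSingle

open Groth.Agent.Etrest.DComp Groth.Agent.Dcoh.DerHo Groth.Agent.Etrest.RDer2

variable {A : Type u₁} [Category.{v₁} A] [Abelian A] [HasDerivedCategory.{w₁} A]
  {B : Type u₂} [Category.{v₂} B] [Abelian B] [HasDerivedCategory.{w₂} B]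

theorem computes_single [EnoughInjectives A] (hA : HasKInj A) (F : A ⥤ B) [F.Additive]
    [PreservesFiniteLimits F]
    [(Kh F).HasRightDerivedFunctor (HomotopyCategory.quasiIso A (ComplexShape.up ℤ))]
    (X : A) (hX : IsAcyc F X) :
    Computes F ((HomologicalComplex.single A (ComplexShape.up ℤ) 0).obj X) := by
  refine computes_of_isAcyc hA F _ 0 (fun i => ?_)
  by_cases hi : i = 0
  · subst hi
    exact isAcyc_of_iso F (HomologicalComplex.singleObjXSelf (ComplexShape.up ℤ) 0 X).symm hX
  · exact isAcyc_of_isZero F (HomologicalComplex.isZero_single_obj_X (ComplexShape.up ℤ) 0 X i hi)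

theorem nonempty_RF_single [EnoughInjectives A] (hA : HasKInj A) (F : A ⥤ B) [F.Additive]
    [PreservesFiniteLimits F]
    [(Kh F).HasRightDerivedFunctor (HomotopyCategory.quasiIso A (ComplexShape.up ℤ))]
    (X : A) (hX : IsAcyc F X) :
    Nonempty ((RF F).obj ((DerivedCategory.singleFunctor A 0).obj X) ≅
      (DerivedCategory.singleFunctor B 0).obj (F.obj X)) :=
  ⟨(RF F).mapIso ((DerivedCategory.singleFunctorIsoCompQ A 0).app X) ≪≫
    (computes_single hA F X hX).iso ≪≫
    DerivedCategory.Q.mapIso
      ((HomologicalComplex.singleMapHomologicalComplex F (ComplexShape.up ℤ) 0).app X) ≪≫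
    ((DerivedCategory.singleFunctorIsoCompQ B 0).app (F.obj X)).symm⟩

end Groth.Agent.Etrest.DSingle
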