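import Groth.Agent.Etrest.LCMod
import Mathlib.CategoryTheory.Limits.Preserves.Shapes.Over

/-!
# Inverse image of sheaves of modules from the etale to the pro-etale site, and localization
-/

set_option autoImplicit false
universe v₁ u₁ u
open CategoryTheory CategoryTheory.Limits Opposite AlgebraicGeometry

namespace Groth.Agent.Etrest.EpsLoc

open LCMod LocSite

variable (Λ : Type (u + 1)) [CommRing Λ] (X : Scheme.{u})

/-- The slice of the comparison functor of sites. -/
noncomputable abbrev epsV (V : X.Etale) : Over V ⥤ Over ((ProEtS.eps X).obj V) := Over.post (ProEtS.eps X)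

theorem preservesFiniteLimits_epsV (V : X.Etale) : PreservesFiniteLimits (epsV X V) := by
  have := Proet.Cont.preservesFiniteLimits_eps X
  infer_instance

theorem cont_epsV (V : X.Etale) : (epsV X V).IsContinuous (X.smallEtaleTopology.over V)
    ((Scheme.ProEt.topology X).over ((ProEtS.eps X).obj V)) := by
  have := preservesFiniteLimits_epsV X V
  have : RepresentablyFlat (epsV X V) := flat_of_preservesFiniteLimits _
  exact Functor.isContinuous_of_coverPreserving (compatiblePreservingOfFlat _ _)
    (CoverPreserving.overPost V (Proet.Cont.coverPreserving_eps X))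

attribute [local instance] cont_epsV

variable {X}

noncomputable def isTerminalPost (V : X.Etale) : IsTerminal ((epsV X V).obj (Over.mk (𝟙 V))) :=
  have := preservesFiniteLimits_epsV X V
  IsTerminal.isTerminalObj (epsV X V) _ Over.mkIdTerminal

/-- Locally constant functions on the slice of the etale site. -/
noncomputable abbrev LCE (V : X.Etale) (M : Type (u + 1)) [AddCommGroup M] [Module Λ M] :
    Sheaf (X.smallEtaleTopology.over V) (ModuleCat.{u + 1} Λ) := ((goodE X).over V).LC Λ M

/-- Locally constant functions on the slice of the pro-etale site. -/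
noncomputable abbrev LCP (V : X.ProEt) (M : Type (u + 1)) [AddCommGroup M] [Module Λ M] :
    Sheaf ((Scheme.ProEt.topology X).over V) (ModuleCat.{u + 1} Λ) := ((goodP X).over V).LC Λ M

variable (V : X.Etale) (M : Type (u + 1)) [AddCommGroup M] [Module Λ M]

/-- Direct image on slices. -/
noncomputable abbrev pushV : Sheaf ((Scheme.ProEt.topology X).over ((ProEtS.eps X).obj V)) (ModuleCat.{u + 1} Λ) ⥤
    Sheaf (X.smallEtaleTopology.over V) (ModuleCat.{u + 1} Λ) :=
  (epsV X V).sheafPushforwardContinuous (ModuleCat.{u + 1} Λ) (X.smallEtaleTopology.over V)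
    ((Scheme.ProEt.topology X).over ((ProEtS.eps X).obj V))

theorem bijective_map_pushV (G : Sheaf ((Scheme.ProEt.topology X).over ((ProEtS.eps X).obj V)) (ModuleCat.{u + 1} Λ)) :
    Function.Bijective (fun φ : LCP Λ ((ProEtS.eps X).obj V) M ⟶ G => (pushV Λ V).map φ) := by
  have h1 := ((goodP X).over ((ProEtS.eps X).obj V)).bijective_app Λ M G (isTerminalPost V)
  have h2 := ((goodE X).over V).bijective_app Λ M ((pushV Λ V).obj G) (Over.mkIdTerminal (X := V))
  exact (Function.Bijective.of_comp_iff' h2 _).1 h1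

/-- The counit on the slice is an isomorphism at the sheaf of locally constant functions. -/
theorem isIso_counit_LCP : IsIso (((epsV X V).sheafAdjunctionContinuous (ModuleCat.{u + 1} Λ)
    (X.smallEtaleTopology.over V) ((Scheme.ProEt.topology X).over ((ProEtS.eps X).obj V))).counit.app
      (LCP Λ ((ProEtS.eps X).obj V) M)) :=
  isIso_counit_of_bijective _ _ (bijective_map_pushV Λ V M)

/-- The inverse image of the constant sheaf on a slice. -/
noncomputable def pullConstIso : ((epsV X V).sheafPullback (ModuleCat.{u + 1} Λ)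
    (X.smallEtaleTopology.over V) ((Scheme.ProEt.topology X).over ((ProEtS.eps X).obj V))).obj
      (LCE Λ V M) ≅ LCP Λ ((ProEtS.eps X).obj V) M :=
  @asIso _ _ _ _ _ (isIso_counit_LCP Λ V M)

noncomputable def constPIso (V : X.ProEt) :
    (constantSheaf ((Scheme.ProEt.topology X).over V) (ModuleCat.{u + 1} Λ)).obj (ModuleCat.of Λ M) ≅
      LCP Λ V M :=
  ((goodP X).over V).constIso Λ M

noncomputable def constEIso (V : X.Etale) :
    (constantSheaf (X.smallEtaleTopology.over V) (ModuleCat.{u + 1} Λ)).obj (ModuleCat.of Λ M) ≅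
      LCE Λ V M :=
  ((goodE X).over V).constIso Λ M

/-- Restriction to slices commutes with inverse image. -/
noncomputable def pullOverIso [ProEtS.EpsCont X] (F : EtModW.Mod Λ X) :
    ((epsV X V).sheafPullback (ModuleCat.{u + 1} Λ) (X.smallEtaleTopology.over V)
      ((Scheme.ProEt.topology X).over ((ProEtS.eps X).obj V))).obj (F.over V) ≅
    ((EtModW.epsPullMod Λ X).obj F).over ((ProEtS.eps X).obj V) :=
  have := Proet.Cont.preservesFiniteLimits_eps X
  have := isIso_bcMap X.smallEtaleTopology (Scheme.ProEt.topology X) (ProEtS.eps X) V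
    (ModuleCat.{u + 1} Λ)
  asIso ((bcMap X.smallEtaleTopology (Scheme.ProEt.topology X) (ProEtS.eps X) V
    (ModuleCat.{u + 1} Λ)).app F)

variable {Λ V M} in
/-- If `F` is constant on `V` then so is its inverse image. -/
theorem nonempty_iso_of_restr [ProEtS.EpsCont X] {F : EtModW.Mod Λ X}
    (h : Nonempty (EtModW.restr Λ F V ≅
      (constantSheaf (X.smallEtaleTopology.over V) (ModuleCat.{u + 1} Λ)).obj (ModuleCat.of Λ M))) :
    Nonempty (((EtModW.epsPullMod Λ X).obj F).over ((ProEtS.eps X).obj V) ≅
      (constantSheaf ((Scheme.ProEt.topology X).over ((ProEtS.eps X).obj V))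
        (ModuleCat.{u + 1} Λ)).obj (ModuleCat.of Λ M)) := by
  obtain ⟨e⟩ := h
  exact ⟨(pullOverIso Λ V F).symm ≪≫ ((epsV X V).sheafPullback (ModuleCat.{u + 1} Λ)
    (X.smallEtaleTopology.over V) _).mapIso (e ≪≫ constEIso Λ M V) ≪≫ pullConstIso Λ V M ≪≫
      (constPIso Λ M _).symm⟩

/-- The counit of `eps⁻¹ ⊣ eps_*` on sheaves of modules. -/
noncomputable abbrev adjMod (X : Scheme.{u}) [ProEtS.EpsCont X] :
    EtModW.epsPullMod Λ X ⊣ (ProEtS.eps X).sheafPushforwardContinuous (ModuleCat.{u + 1} Λ)
      X.smallEtaleTopology (Scheme.ProEt.topology X) :=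
  (ProEtS.eps X).sheafAdjunctionContinuous (ModuleCat.{u + 1} Λ) X.smallEtaleTopology
    (Scheme.ProEt.topology X)

variable {Λ V M} in
/-- If `G` is constant on `eps V` then its direct image is constant on `V`. -/
theorem nonempty_iso_of_over [ProEtS.EpsCont X] {G : EtModW.ModP Λ X}
    (h : Nonempty (G.over ((ProEtS.eps X).obj V) ≅
      (constantSheaf ((Scheme.ProEt.topology X).over ((ProEtS.eps X).obj V))
        (ModuleCat.{u + 1} Λ)).obj (ModuleCat.of Λ M))) :
    Nonempty (EtModW.restr Λ (((ProEtS.eps X).sheafPushforwardContinuous (ModuleCat.{u + 1} Λ)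
      X.smallEtaleTopology (Scheme.ProEt.topology X)).obj G) V ≅
      (constantSheaf (X.smallEtaleTopology.over V) (ModuleCat.{u + 1} Λ)).obj (ModuleCat.of Λ M)) := by
  obtain ⟨e⟩ := h
  exact ⟨(pushV Λ V).mapIso (e ≪≫ constPIso Λ M _) ≪≫ (constEIso Λ M V).symm⟩

variable {Λ V M} in
/-- If `G` is constant on `eps V` then the counit restricts to an isomorphism over `eps V`. -/
theorem isIso_over_counit_of_over [ProEtS.EpsCont X] {G : EtModW.ModP Λ X}
    (h : Nonempty (G.over ((ProEtS.eps X).obj V) ≅
      (constantSheaf ((Scheme.ProEt.topology X).over ((ProEtS.eps X).obj V))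
        (ModuleCat.{u + 1} Λ)).obj (ModuleCat.of Λ M))) :
    IsIso (((Scheme.ProEt.topology X).overPullback (ModuleCat.{u + 1} Λ)
      ((ProEtS.eps X).obj V)).map ((adjMod Λ X).counit.app G)) := by
  obtain ⟨e⟩ := h
  have := Proet.Cont.preservesFiniteLimits_eps X
  apply isIso_over_counit
  have h1 := isIso_counit_LCP Λ V M
  have e' : G.over ((ProEtS.eps X).obj V) ≅ LCP Λ ((ProEtS.eps X).obj V) M := e ≪≫ constPIso Λ M _
  exact (NatTrans.isIso_app_iff_of_iso _ e').2 h1

/-- A family of etale schemes covering `X` gives a covering family of the pro-etale site. -/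
theorem coversP_of_covers {ι : Type u} {U : ι → X.Etale} (hU : EtCoh.Covers U) :
    EtModW.CoversP (fun i => (ProEtS.eps X).obj (U i)) := by
  have h1 : Sieve.ofArrows U (fun i => (MorphismProperty.Over.homMk (U i).hom : U i ⟶ EtCoh.top X)) ∈
      X.smallEtaleTopology (EtCoh.top X) := by
    rw [Site0.mem_iff]
    intro x
    obtain ⟨i, y, hy⟩ := hU x
    exact ⟨U i, _, Sieve.ofArrows_mk _ _ i, y, hy⟩
  have h2 := (Proet.Cont.coverPreserving_eps X).cover_preserve h1
  rw [Sieve.functorPushforward_ofArrows] at h2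
  exact h2

/-- First half of S0758. -/
theorem isFPLocConstP_epsPull [ProEtS.EpsCont X] (F : EtModW.Mod Λ X) (hF : EtModW.IsFPLocConst Λ F) :
    EtModW.IsFPLocConstP Λ ((EtModW.epsPullMod Λ X).obj F) := by
  obtain ⟨ι, U, hU, h⟩ := hF
  refine ⟨ι, fun i => (ProEtS.eps X).obj (U i), coversP_of_covers hU, fun i => ?_⟩
  obtain ⟨M, h1, h2, h3, h4⟩ := h i
  exact ⟨M, h1, h2, h3, nonempty_iso_of_restr h4⟩

/-- A sheaf of modules on the pro-etale site which is constant with finitely presented values on an etale
covering is the inverse image of an etale sheaf which is locally constant with finitely presented values. -/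
theorem exists_of_etale_covers [ProEtS.EpsCont X] (G : EtModW.ModP Λ X) {ι : Type u}
    (U : ι → X.Etale) (hU : EtCoh.Covers U) (h : ∀ i, ∃ (M : Type (u + 1)) (_ : AddCommGroup M)
      (_ : Module Λ M) (_ : Module.FinitePresentation Λ M),
      Nonempty (G.over ((ProEtS.eps X).obj (U i)) ≅
        (constantSheaf ((Scheme.ProEt.topology X).over ((ProEtS.eps X).obj (U i)))
          (ModuleCat.{u + 1} Λ)).obj (ModuleCat.of Λ M))) :
    ∃ F : EtModW.Mod Λ X, EtModW.IsFPLocConst Λ F ∧ Nonempty ((EtModW.epsPullMod Λ X).obj F ≅ G) := by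
  refine ⟨((ProEtS.eps X).sheafPushforwardContinuous (ModuleCat.{u + 1} Λ)
      X.smallEtaleTopology (Scheme.ProEt.topology X)).obj G, ⟨ι, U, hU, fun i => ?_⟩, ?_⟩
  · obtain ⟨M, h1, h2, h3, h4⟩ := h i
    exact ⟨M, h1, h2, h3, nonempty_iso_of_over h4⟩
  · have : IsIso ((adjMod Λ X).counit.app G) := by
      refine isIso_of_over _ (MorphismProperty.Over.mkIdTerminal (X := X) (@WeaklyEtale))
        (fun i => (ProEtS.eps X).obj (U i)) _ (coversP_of_covers hU) fun i => ?_
      obtain ⟨M, h1, h2, h3, h4⟩ := h i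
      exact isIso_over_counit_of_over h4
    exact ⟨asIso ((adjMod Λ X).counit.app G)⟩

end Groth.Agent.Etrest.EpsLoc
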