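import Groth.Agent.Etrest.FinSubGen
import Groth.Agent.Dix.NormalLoc
import Mathlib.AlgebraicGeometry.Noetherian

/-!
# Smooth schemes over fields are geometrically unibranch
-/

set_option autoImplicit false
universe u

open CategoryTheory CategoryTheory.Limits AlgebraicGeometry Opposite

namespace Groth.Agent.Etrest.EtDomSmooth

open Groth.Agent.Etrest.FinSubGen

/-- All local rings of etale schemes over a smooth scheme over a field are domains. -/
theorem etDom_of_smooth {k : Type u} [Field k] {Y : Scheme.{u}} (p : Y ⟶ Spec (CommRingCat.of k)) [Smooth p] :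
    EtDom Y := by
  intro U x
  have hU : Etale U.hom := U.prop
  have hS : Smooth (U.hom ≫ p) := inferInstance
  exact (Groth.Agent.Dix.NormalLoc.stalk_of_smooth (R := k) (U.hom ≫ p) x).1

/-- Schemes locally of finite type over a field are locally Noetherian. -/
theorem isLocallyNoetherian_of_field {k : Type u} [Field k] {Y : Scheme.{u}} (p : Y ⟶ Spec (CommRingCat.of k))
    [LocallyOfFiniteType p] : IsLocallyNoetherian Y :=
  LocallyOfFiniteType.isLocallyNoetherian p

end Groth.Agent.Etrest.EtDomSmooth
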