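import Groth.Prelude.Def_EtTens2
import Groth.Agent.Etbase.PointBasics

set_option autoImplicit false
set_option linter.unusedSectionVars false
universe w w' v₁ u₁ u

open CategoryTheory CategoryTheory.Limits AlgebraicGeometry Opposite TensorProduct

namespace Groth.Agent.Etrest.EtTensStalk

section General

variable {C : Type u₁} [Category.{v₁} C] {J : GrothendieckTopology C}
  (Φ : GrothendieckTopology.Point.{w} J)

/-- Two objects with points of the fibre have a common refinement. -/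
theorem exists_refine (U V : C) (x : Φ.fiber.obj U) (y : Φ.fiber.obj V) :
    ∃ (W : C) (w : Φ.fiber.obj W) (a : W ⟶ U) (b : W ⟶ V), Φ.fiber.map a w = x ∧
      Φ.fiber.map b w = y := by
  obtain ⟨⟨W, w⟩, ⟨a, ha⟩, ⟨b, hb⟩, -⟩ := IsCofilteredOrEmpty.cone_objs
    (Functor.elementsMk Φ.fiber U x) (Functor.elementsMk Φ.fiber V y)
  exact ⟨W, w, a, b, ha, hb⟩

/-- Two parallel morphisms compatible with points are equalized by a compatible morphism. -/
theorem exists_equalize {U V : C} (f g : V ⟶ U) (y : Φ.fiber.obj V)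
    (h : Φ.fiber.map f y = Φ.fiber.map g y) :
    ∃ (W : C) (w : Φ.fiber.obj W) (a : W ⟶ V), Φ.fiber.map a w = y ∧ a ≫ f = a ≫ g := by
  let f' : Functor.elementsMk Φ.fiber V y ⟶ Functor.elementsMk Φ.fiber U (Φ.fiber.map f y) :=
    CategoryOfElements.homMk _ _ f rfl
  let g' : Functor.elementsMk Φ.fiber V y ⟶ Functor.elementsMk Φ.fiber U (Φ.fiber.map f y) :=
    CategoryOfElements.homMk _ _ g h.symm
  obtain ⟨⟨W, w⟩, ⟨a, ha⟩, hfg⟩ := IsCofilteredOrEmpty.cone_maps f' g'
  exact ⟨W, w, a, ha, congrArg Subtype.val hfg⟩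

variable [LocallySmall.{w} C]
  [HasColimitsOfSize.{w, w} AddCommGrpCat.{w'}]
  [PreservesFilteredColimitsOfSize.{w, w} (forget AddCommGrpCat.{w'})]

variable (P Q : Cᵒᵖ ⥤ AddCommGrpCat.{w'})

/-- The group of germs. -/
noncomputable abbrev stk : AddCommGrpCat.{w'} := Φ.presheafFiber.obj P

/-- The germ map. -/
noncomputable abbrev germ {U : C} (x : Φ.fiber.obj U) : P.obj (op U) ⟶ stk Φ P :=
  Φ.toPresheafFiber U x P

/-- Two germs (of different presheaves) have common representatives. -/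
theorem exists_common (a : stk Φ P) (b : stk Φ Q) :
    ∃ (U : C) (x : Φ.fiber.obj U) (p : P.obj (op U)) (q : Q.obj (op U)),
      germ Φ P x p = a ∧ germ Φ Q x q = b := by
  obtain ⟨U, x, p, hp⟩ := Φ.toPresheafFiber_jointly_surjective (A := AddCommGrpCat.{w'}) (P := P) a
  obtain ⟨V, y, q, hq⟩ := Φ.toPresheafFiber_jointly_surjective (A := AddCommGrpCat.{w'}) (P := Q) b
  obtain ⟨W, w, f, g, rfl, rfl⟩ := exists_refine Φ U V x y
  refine ⟨W, w, P.map f.op p, Q.map g.op q, ?_, ?_⟩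
  · rw [← hp]; exact Φ.toPresheafFiber_w_apply f w P p
  · rw [← hq]; exact Φ.toPresheafFiber_w_apply g w Q q

/-- Equality of germs at two different objects. -/
theorem germ_eq_germ {U V : C} (x : Φ.fiber.obj U) (y : Φ.fiber.obj V) (p : P.obj (op U))
    (q : P.obj (op V)) (h : germ Φ P x p = germ Φ P y q) :
    ∃ (W : C) (w : Φ.fiber.obj W) (f : W ⟶ U) (g : W ⟶ V), Φ.fiber.map f w = x ∧
      Φ.fiber.map g w = y ∧ P.map f.op p = P.map g.op q := by
  obtain ⟨W, w, f, g, rfl, rfl⟩ := exists_refine Φ U V x y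
  have h' : germ Φ P w (P.map f.op p) = germ Φ P w (P.map g.op q) :=
    (Φ.toPresheafFiber_w_apply f w P p).trans (h.trans (Φ.toPresheafFiber_w_apply g w P q).symm)
  obtain ⟨W', k, w', rfl, hw⟩ := (Φ.toPresheafFiber_eq_iff' W w _ _).1 h'
  refine ⟨W', w', k ≫ f, k ≫ g, by simp, by simp, ?_⟩
  rw [op_comp, op_comp, P.map_comp, P.map_comp]
  exact hw

theorem germ_tmul_eq {U V : C} (x : Φ.fiber.obj U) (y : Φ.fiber.obj V) (p : P.obj (op U))
    (p' : P.obj (op V)) (q : Q.obj (op U)) (q' : Q.obj (op V))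
    (hp : germ Φ P x p = germ Φ P y p') (hq : germ Φ Q x q = germ Φ Q y q') :
    germ Φ (EtTens.tensorObj P Q) x (p ⊗ₜ q) = germ Φ (EtTens.tensorObj P Q) y (p' ⊗ₜ q') := by
  obtain ⟨W, w, f, g, rfl, rfl, h1⟩ := germ_eq_germ Φ P x y p p' hp
  have hq' : germ Φ Q w (Q.map f.op q) = germ Φ Q w (Q.map g.op q') :=
    (Φ.toPresheafFiber_w_apply f w Q q).trans (hq.trans (Φ.toPresheafFiber_w_apply g w Q q').symm)
  obtain ⟨W', k, w', rfl, hw⟩ := (Φ.toPresheafFiber_eq_iff' W w _ _).1 hq'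
  have e1 : Φ.fiber.map f (Φ.fiber.map k w') = Φ.fiber.map (k ≫ f) w' := by simp
  have e2 : Φ.fiber.map g (Φ.fiber.map k w') = Φ.fiber.map (k ≫ g) w' := by simp
  rw [e1, e2]
  refine (Φ.toPresheafFiber_w_apply (k ≫ f) w' (EtTens.tensorObj P Q) (p ⊗ₜ q)).symm.trans
    (Eq.trans ?_ (Φ.toPresheafFiber_w_apply (k ≫ g) w' (EtTens.tensorObj P Q) (p' ⊗ₜ q')))
  congr 1
  rw [EtTens.tensorObj_map_tmul, EtTens.tensorObj_map_tmul]
  have e3 : P.map (k ≫ f).op p = P.map (k ≫ g).op p' := by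
    rw [op_comp, op_comp, P.map_comp, P.map_comp]
    exact congrArg (P.map k.op) h1
  have e4 : Q.map (k ≫ f).op q = Q.map (k ≫ g).op q' := by
    rw [op_comp, op_comp, Q.map_comp, Q.map_comp]
    exact hw
  rw [e3, e4]

/-- The pairing of germs. -/
noncomputable def pair (a : stk Φ P) (b : stk Φ Q) : stk Φ (EtTens.tensorObj P Q) :=
  germ Φ (EtTens.tensorObj P Q) (exists_common Φ P Q a b).choose_spec.choose
    ((exists_common Φ P Q a b).choose_spec.choose_spec.choose ⊗ₜ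
      (exists_common Φ P Q a b).choose_spec.choose_spec.choose_spec.choose)

theorem pair_germ {U : C} (x : Φ.fiber.obj U) (p : P.obj (op U)) (q : Q.obj (op U)) :
    pair Φ P Q (germ Φ P x p) (germ Φ Q x q) = germ Φ (EtTens.tensorObj P Q) x (p ⊗ₜ q) :=
  germ_tmul_eq Φ P Q _ _ _ _ _ _
    (exists_common Φ P Q (germ Φ P x p) (germ Φ Q x q)).choose_spec.choose_spec.choose_spec.choose_spec.1
    (exists_common Φ P Q (germ Φ P x p) (germ Φ Q x q)).choose_spec.choose_spec.choose_spec.choose_spec.2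

/-- Three germs have common representatives. -/
theorem exists_common₃ (a a' : stk Φ P) (b : stk Φ Q) :
    ∃ (U : C) (x : Φ.fiber.obj U) (p p' : P.obj (op U)) (q : Q.obj (op U)),
      germ Φ P x p = a ∧ germ Φ P x p' = a' ∧ germ Φ Q x q = b := by
  obtain ⟨U, x, p, p', hp, hp'⟩ := Φ.toPresheafFiber_jointly_surjective₂ (P := P) a a'
  obtain ⟨V, y, q, hq⟩ := Φ.toPresheafFiber_jointly_surjective (A := AddCommGrpCat.{w'}) (P := Q) b
  obtain ⟨W, w, f, g, rfl, rfl⟩ := exists_refine Φ U V x y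
  refine ⟨W, w, P.map f.op p, P.map f.op p', Q.map g.op q, ?_, ?_, ?_⟩
  · rw [← hp]; exact Φ.toPresheafFiber_w_apply f w P p
  · rw [← hp']; exact Φ.toPresheafFiber_w_apply f w P p'
  · rw [← hq]; exact Φ.toPresheafFiber_w_apply g w Q q

theorem pair_add_left (a a' : stk Φ P) (b : stk Φ Q) :
    pair Φ P Q (a + a') b = pair Φ P Q a b + pair Φ P Q a' b := by
  obtain ⟨U, x, p, p', q, rfl, rfl, rfl⟩ := exists_common₃ Φ P Q a a' b
  rw [← map_add, pair_germ, pair_germ, pair_germ, TensorProduct.add_tmul]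
  exact map_add (germ Φ (EtTens.tensorObj P Q) x).hom (p ⊗ₜ q) (p' ⊗ₜ q)

theorem pair_add_right (a : stk Φ P) (b b' : stk Φ Q) :
    pair Φ P Q a (b + b') = pair Φ P Q a b + pair Φ P Q a b' := by
  obtain ⟨U, x, q, q', p, rfl, rfl, rfl⟩ := exists_common₃ Φ Q P b b' a
  rw [← map_add, pair_germ, pair_germ, pair_germ, TensorProduct.tmul_add]
  exact map_add (germ Φ (EtTens.tensorObj P Q) x).hom (p ⊗ₜ q) (p ⊗ₜ q')

/-- `P_Φ ⊗ Q_Φ → (P ⊗ Q)_Φ`. -/
noncomputable def tensorStk : (stk Φ P : Type w') ⊗[ℤ] (stk Φ Q : Type w') →+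
    (stk Φ (EtTens.tensorObj P Q) : Type w') :=
  (TensorProduct.lift (LinearMap.mk₂ ℤ (pair Φ P Q) (pair_add_left Φ P Q)
    (fun c m n => map_zsmul (AddMonoidHom.mk' (fun a => pair Φ P Q a n)
      (fun a a' => pair_add_left Φ P Q a a' n)) c m)
    (pair_add_right Φ P Q)
    (fun c m n => map_zsmul (AddMonoidHom.mk' (fun b => pair Φ P Q m b)
      (fun b b' => pair_add_right Φ P Q m b b')) c n))).toAddMonoidHom

theorem tensorStk_tmul (a : stk Φ P) (b : stk Φ Q) :
    tensorStk Φ P Q (a ⊗ₜ b) = pair Φ P Q a b := rfl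

theorem tensorStk_germ {U : C} (x : Φ.fiber.obj U) (p : P.obj (op U)) (q : Q.obj (op U)) :
    tensorStk Φ P Q (germ Φ P x p ⊗ₜ germ Φ Q x q) =
      germ Φ (EtTens.tensorObj P Q) x (p ⊗ₜ q) := pair_germ Φ P Q x p q

/-- `(P ⊗ Q)_Φ → P_Φ ⊗ Q_Φ`. -/
noncomputable def stkTensor : stk Φ (EtTens.tensorObj P Q) ⟶
    AddCommGrpCat.of ((stk Φ P : Type w') ⊗[ℤ] (stk Φ Q : Type w')) :=
  Φ.presheafFiberDesc (fun U x => AddCommGrpCat.ofHom
    (TensorProduct.map (germ Φ P x).hom.toIntLinearMap (germ Φ Q x).hom.toIntLinearMap).toAddMonoidHom)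
    (fun U V f x => EtTens.hom_ext_tmul fun p q => by
      have e1 := Φ.toPresheafFiber_w_apply f x P p
      have e2 := Φ.toPresheafFiber_w_apply f x Q q
      change (germ Φ P x (P.map f.op p)) ⊗ₜ (germ Φ Q x (Q.map f.op q)) =
        (germ Φ P (Φ.fiber.map f x) p) ⊗ₜ (germ Φ Q (Φ.fiber.map f x) q)
      exact congrArg₂ _ e1 e2)

theorem stkTensor_germ {U : C} (x : Φ.fiber.obj U) (p : P.obj (op U)) (q : Q.obj (op U)) :
    stkTensor Φ P Q (germ Φ (EtTens.tensorObj P Q) x (p ⊗ₜ q)) =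
      germ Φ P x p ⊗ₜ germ Φ Q x q := by
  have := Φ.toPresheafFiber_presheafFiberDesc (P := EtTens.tensorObj P Q)
    (T := AddCommGrpCat.of ((stk Φ P : Type w') ⊗[ℤ] (stk Φ Q : Type w')))
    (fun U x => AddCommGrpCat.ofHom
    (TensorProduct.map (germ Φ P x).hom.toIntLinearMap (germ Φ Q x).hom.toIntLinearMap).toAddMonoidHom)
    (fun U V f x => EtTens.hom_ext_tmul fun p q => by
      have e1 := Φ.toPresheafFiber_w_apply f x P p
      have e2 := Φ.toPresheafFiber_w_apply f x Q q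
      change (germ Φ P x (P.map f.op p)) ⊗ₜ (germ Φ Q x (Q.map f.op q)) =
        (germ Φ P (Φ.fiber.map f x) p) ⊗ₜ (germ Φ Q (Φ.fiber.map f x) q)
      exact congrArg₂ _ e1 e2) U x
  exact congr($this (p ⊗ₜ q))

theorem stkTensor_tensorStk (t : (stk Φ P : Type w') ⊗[ℤ] (stk Φ Q : Type w')) :
    stkTensor Φ P Q (tensorStk Φ P Q t) = t := by
  induction t with
  | zero => rw [map_zero, map_zero]
  | add a b ha hb => rw [map_add, map_add, ha, hb]
  | tmul a b =>
    obtain ⟨U, x, p, q, rfl, rfl⟩ := exists_common Φ P Q a b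
    rw [tensorStk_germ, stkTensor_germ]

theorem tensorStk_stkTensor (t : stk Φ (EtTens.tensorObj P Q)) :
    tensorStk Φ P Q (stkTensor Φ P Q t) = t := by
  obtain ⟨U, x, z, rfl⟩ := Φ.toPresheafFiber_jointly_surjective (A := AddCommGrpCat.{w'})
    (P := EtTens.tensorObj P Q) t
  change (P.obj (op U) : Type w') ⊗[ℤ] (Q.obj (op U) : Type w') at z
  induction z with
  | zero =>
    have : germ Φ (EtTens.tensorObj P Q) x
      (0 : (P.obj (op U) : Type w') ⊗[ℤ] (Q.obj (op U) : Type w')) = 0 :=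
        map_zero (germ Φ (EtTens.tensorObj P Q) x).hom
    change tensorStk Φ P Q (stkTensor Φ P Q (germ Φ (EtTens.tensorObj P Q) x
      (0 : (P.obj (op U) : Type w') ⊗[ℤ] (Q.obj (op U) : Type w')))) = germ Φ (EtTens.tensorObj P Q) x
      (0 : (P.obj (op U) : Type w') ⊗[ℤ] (Q.obj (op U) : Type w'))
    rw [this, map_zero, map_zero]
  | add a b ha hb =>
    have : germ Φ (EtTens.tensorObj P Q) x
      (a + b : (P.obj (op U) : Type w') ⊗[ℤ] (Q.obj (op U) : Type w')) =
      germ Φ (EtTens.tensorObj P Q) x a + germ Φ (EtTens.tensorObj P Q) x b :=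
        map_add (germ Φ (EtTens.tensorObj P Q) x).hom a b
    change tensorStk Φ P Q (stkTensor Φ P Q (germ Φ (EtTens.tensorObj P Q) x a)) =
      germ Φ (EtTens.tensorObj P Q) x a at ha
    change tensorStk Φ P Q (stkTensor Φ P Q (germ Φ (EtTens.tensorObj P Q) x b)) =
      germ Φ (EtTens.tensorObj P Q) x b at hb
    change tensorStk Φ P Q (stkTensor Φ P Q (germ Φ (EtTens.tensorObj P Q) x
      (a + b : (P.obj (op U) : Type w') ⊗[ℤ] (Q.obj (op U) : Type w')))) =
      germ Φ (EtTens.tensorObj P Q) x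
      (a + b : (P.obj (op U) : Type w') ⊗[ℤ] (Q.obj (op U) : Type w'))
    rw [this, map_add, map_add, ha, hb]
  | tmul p q =>
    exact (congrArg (tensorStk Φ P Q) (stkTensor_germ Φ P Q x p q)).trans (tensorStk_germ Φ P Q x p q)

/-- The stalk of the presheaf tensor product is the tensor product of the stalks. -/
noncomputable def stkTensorEquiv : (stk Φ (EtTens.tensorObj P Q) : Type w') ≃+
    (stk Φ P : Type w') ⊗[ℤ] (stk Φ Q : Type w') where
  toFun := stkTensor Φ P Q
  invFun := tensorStk Φ P Q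
  left_inv := tensorStk_stkTensor Φ P Q
  right_inv := stkTensor_tensorStk Φ P Q
  map_add' := map_add (stkTensor Φ P Q).hom

theorem stkTensorEquiv_apply (t : stk Φ (EtTens.tensorObj P Q)) :
    stkTensorEquiv Φ P Q t = stkTensor Φ P Q t := rfl

theorem stkTensorEquiv_symm_apply (t : (stk Φ P : Type w') ⊗[ℤ] (stk Φ Q : Type w')) :
    (stkTensorEquiv Φ P Q).symm t = tensorStk Φ P Q t := rfl

variable {P Q} {P' Q' : Cᵒᵖ ⥤ AddCommGrpCat.{w'}}

/-- Naturality. -/
theorem stkTensor_naturality (α : P ⟶ P') (β : Q ⟶ Q') (t : stk Φ (EtTens.tensorObj P Q)) :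
    stkTensor Φ P' Q' (Φ.presheafFiber.map (EtTens.tensorHom α β) t) =
      TensorProduct.map (Φ.presheafFiber.map α).hom.toIntLinearMap
        (Φ.presheafFiber.map β).hom.toIntLinearMap (stkTensor Φ P Q t) := by
  obtain ⟨t, rfl⟩ := (stkTensorEquiv Φ P Q).symm.surjective t
  rw [stkTensorEquiv_symm_apply, stkTensor_tensorStk]
  induction t with
  | zero => simp only [map_zero]
  | add a b ha hb => rw [map_add, map_add, map_add, map_add, ha, hb]
  | tmul a b =>
    obtain ⟨U, x, p, q, rfl, rfl⟩ := exists_common Φ P Q a b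
    rw [tensorStk_germ]
    have e1 := Φ.toPresheafFiber_naturality_apply (EtTens.tensorHom α β) U x (p ⊗ₜ q)
    have e2 := Φ.toPresheafFiber_naturality_apply α U x p
    have e3 := Φ.toPresheafFiber_naturality_apply β U x q
    refine (congrArg (stkTensor Φ P' Q') e1).trans ?_
    refine (stkTensor_germ Φ P' Q' x (α.app _ p) (β.app _ q)).trans ?_
    exact congrArg₂ _ e2.symm e3.symm

/-- If `α` and `β` induce isomorphisms on germs, so does `α ⊗ β`. -/
theorem bijective_tensorHom (α : P ⟶ P') (β : Q ⟶ Q')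
    (hα : Function.Bijective (Φ.presheafFiber.map α)) (hβ : Function.Bijective (Φ.presheafFiber.map β)) :
    Function.Bijective (Φ.presheafFiber.map (EtTens.tensorHom α β)) := by
  let eα : (stk Φ P : Type w') ≃ₗ[ℤ] (stk Φ P' : Type w') :=
    LinearEquiv.ofBijective (Φ.presheafFiber.map α).hom.toIntLinearMap hα
  let eβ : (stk Φ Q : Type w') ≃ₗ[ℤ] (stk Φ Q' : Type w') :=
    LinearEquiv.ofBijective (Φ.presheafFiber.map β).hom.toIntLinearMap hβ
  have h : Function.Bijective (stkTensor Φ P' Q' ∘ Φ.presheafFiber.map (EtTens.tensorHom α β)) := by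
    have : (stkTensor Φ P' Q' ∘ Φ.presheafFiber.map (EtTens.tensorHom α β)) =
        (TensorProduct.congr eα eβ) ∘ stkTensorEquiv Φ P Q :=
      funext fun t => stkTensor_naturality Φ α β t
    rw [this]
    exact (TensorProduct.congr eα eβ).bijective.comp (stkTensorEquiv Φ P Q).bijective
  exact (Function.Bijective.of_comp_iff' (stkTensorEquiv Φ P' Q').bijective _).1 h

end General

end Groth.Agent.Etrest.EtTensStalk
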