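import Groth.Agent.EtpbcA.ConsLocus
import Groth.Agent.EtpbcA.ConsSpread
import Groth.Agent.EtpbcA.EqLocus
import Groth.Agent.Ega43.OpenAt
import Mathlib.AlgebraicGeometry.Morphisms.UniversallyOpen
import Mathlib.AlgebraicGeometry.Morphisms.Etale

/-!
# Finite local constancy of constructible sheaves can be checked after flat surjective base change

`isFLC_of_flat_cover`: `G` constructible on `S` and for every `s : S` there is a flat morphism `g : Z ⟶ S` (no
finiteness condition, for instance the spectrum of a strict henselization) with `s` in the image such that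
`g⁻¹ G` is finite locally constant; then `G` is finite locally constant.
-/

set_option autoImplicit false
universe u

open CategoryTheory CategoryTheory.Limits AlgebraicGeometry Opposite Topology

namespace Groth.Agent.Etrest.FLCFlat

open Groth.Agent.Etbase Groth.Agent.Etcore Groth.Agent.EtpbcA.ConsVan
open Groth.Agent.EtpbcA.ConsPull Groth.Agent.EtpbcA

theorem isLocallyConstructible_compl {X : Type*} [TopologicalSpace X] {s : Set X}
    (hs : IsLocallyConstructible s) : IsLocallyConstructible sᶜ := by
  intro x
  obtain ⟨U, hxU, hU, h⟩ := hs x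
  exact ⟨U, hxU, hU, by rw [Set.preimage_compl]; exact h.compl⟩

/-- A locally constructible set containing all generizations of a point is a neighbourhood. -/
theorem exists_open_of_generizations {X : Scheme.{u}} {E : Set X} (hE : IsLocallyConstructible E)
    (x : X) (h : ∀ y, y ⤳ x → y ∈ E) : ∃ O : X.Opens, x ∈ O ∧ (O : Set X) ⊆ E := by
  have hx : x ∉ closure Eᶜ := by
    intro hx
    obtain ⟨z, hz, hzx⟩ := Ega43.OpenAt.exists_specializes_of_isLocallyConstructible
      (isLocallyConstructible_compl hE) hx
    exact hz (h z hzx)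
  refine ⟨⟨(closure Eᶜ)ᶜ, isClosed_closure.isOpen_compl⟩, hx, ?_⟩
  intro y hy
  by_contra hyE
  exact hy (subset_closure hyE)

theorem isFLC_of_flat_cover {S : Scheme.{u}} (G : EtCoh.Ab S) (hG : EtPBC.IsConstructible G)
    (h : ∀ s : S, ∃ (Z : Scheme.{u}) (g : Z ⟶ S) (_ : Flat g) (z : Z), g z = s ∧
      EtCoh.IsFiniteLocallyConstant ((EtCoh.pull g).obj G)) :
    EtCoh.IsFiniteLocallyConstant G := by
  rw [ConsFLC.isFLC_iff]
  intro s
  obtain ⟨Z, g, hg, z, rfl, hF⟩ := h s
  obtain ⟨V, v, hv, M, i1, i2, φ, hφ⟩ := (ConsFLC.isFLC_iff _).1 hF z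
  obtain ⟨U, φ', W, a, b, w, haw, hab⟩ := ConsSpread.exists_spread g G v φ
  let k : W.left ⟶ U.left := b.left ≫ fstBc g U
  have hE := ConsLocus.isLocallyConstructible_good hG U φ'
  have hgood : ∀ w', InjAt G φ' (k w') ∧ SurjAt G φ' (k w') := by
    intro w'
    have e : resHom b ((eta g G U).comp φ') = resHom a φ := by
      ext m
      exact (hab m).symm
    have h1 : InjAt ((EtCoh.pull g).obj G) (resHom b ((eta g G U).comp φ')) w' ∧
        SurjAt ((EtCoh.pull g).obj G) (resHom b ((eta g G U).comp φ')) w' := by
      rw [e, injAt_res_iff, surjAt_res_iff]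
      exact hφ _
    rw [injAt_res_iff, surjAt_res_iff, injAt_eta_iff, surjAt_eta_iff] at h1
    exact h1
  have hkf : Flat k := by
    have h1 : Etale b.left := inferInstance
    have h2 : Flat (fstBc g U) := inferInstanceAs (Flat (pullback.fst U.hom g))
    exact inferInstanceAs (Flat (b.left ≫ fstBc g U))
  obtain ⟨O, hO, hOE⟩ := exists_open_of_generizations hE (k w) (by
    intro y hy
    obtain ⟨w', -, rfl⟩ := Flat.generalizingMap k hy
    exact hgood w')
  refine ⟨EqLocus.openSub U O, ⟨k w, hO⟩, ?_, M, i1, i2, resHom (EqLocus.openι U O) φ', fun y => ?_⟩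
  · have h1 : U.hom (k w) = g z := by
      have e1 : fstBc g U ≫ U.hom = ((EtCoh.bc g).obj U).hom ≫ g := pullback.condition
      have e2 : b.left ≫ ((EtCoh.bc g).obj U).hom = W.hom := MorphismProperty.Over.w b
      have e3 : a.left ≫ V.hom = W.hom := MorphismProperty.Over.w a
      have e4 : k ≫ U.hom = a.left ≫ V.hom ≫ g := by
        rw [← Category.assoc, e3, ← e2, Category.assoc, Category.assoc, e1]
      have e5 := congrArg (fun (q : W.left ⟶ S) => q w) e4
      have e6 : U.hom (k w) = g (V.hom (a.left w)) := e5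
      rw [e6, haw, hv]
    exact h1
  · rw [injAt_res_iff, surjAt_res_iff]
    exact hOE (by
      have := EqLocus.range_openι U O
      rw [← this]
      exact ⟨y, rfl⟩)

end Groth.Agent.Etrest.FLCFlat
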