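import Groth.Agent.Etrest.FLCTors
import Groth.Agent.Etrest.Supp
import Groth.Prelude.Def_EtCore

/-! Torsion orders of finite locally constant sheaves near a fibre of a proper morphism. -/

set_option autoImplicit false

universe u

open CategoryTheory CategoryTheory.Limits AlgebraicGeometry Opposite

namespace Groth.Agent.Etrest.FLCTors2

open Groth.Agent.EtpbcA Groth.Agent.Etrest.FLCTors

theorem isUnit_natCast_of_le {S : Scheme.{u}} (V : S.Opens) (N : ℕ)
    (hV : V ≤ S.basicOpen ((N : ℕ) : Γ(S, ⊤))) : IsUnit ((N : ℕ) : Γ(V.toScheme, ⊤)) := by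
  have h1 : IsUnit ((S.presheaf.map (homOfLE (S.basicOpen_le ((N : ℕ) : Γ(S, ⊤)))).op).hom
      ((N : ℕ) : Γ(S, ⊤))) := RingedSpace.isUnit_res_basicOpen S.toRingedSpace _
  have h2 := h1.map (S.presheaf.map (homOfLE hV).op).hom
  have h3 := h2.map (V.topIso.inv).hom
  simpa using h3

variable {X S : Scheme.{u}} (f : X ⟶ S)

/-- `F|_{f⁻¹ V}` is killed by an integer invertible on `V`, for a small neighbourhood `V` of a given point. -/
theorem exists_killed_nhd [UniversallyClosed f] (F : EtCoh.Ab X) (hF : EtCoh.IsFiniteLocallyConstant F)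
    (htor : ∀ (Ω : Type u) [Field Ω] [IsSepClosed Ω] (ξ : Spec (CommRingCat.of Ω) ⟶ X),
      ∃ n : ℕ, 0 < n ∧ (n : Ω) ≠ 0 ∧ ∀ s : (EtCoh.stalk ξ).obj F, n • s = 0) (s : S) :
    ∃ (V : S.Opens) (N : ℕ), s ∈ V ∧ IsUnit ((N : ℕ) : Γ(V.toScheme, ⊤)) ∧
      EtCoh.KilledBy N ((EtCoh.pull (f ⁻¹ᵁ V).ι).obj F) := by
  classical
  have h1 := exists_killed_at F hF htor
  choose U n hu hn hk using h1
  have hopen : ∀ x, IsOpen (Set.range (OverSite.str (U x)).base) := fun x =>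
    (Scheme.Hom.isOpenMap (OverSite.str (U x))).isOpen_range
  obtain ⟨t, ht⟩ := (f.isCompact_preimage_singleton s).elim_finite_subcover
    (fun x : (f ⁻¹' {s} : Set X) => Set.range (OverSite.str (U x.1)).base) (fun x => hopen x.1)
    (fun x hx => Set.mem_iUnion.2 ⟨⟨x, hx⟩, hu x⟩)
  let W : Set X := ⋃ i ∈ t, Set.range (OverSite.str (U i.1)).base
  have hW : IsOpen W := isOpen_biUnion fun i _ => hopen i.1
  let N := ∏ i ∈ t, n i.1
  let V₀ : S.Opens := ⟨(f '' Wᶜ)ᶜ, (f.isClosedMap _ hW.isClosed_compl).isOpen_compl⟩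
  have hV₀ : ∀ x : X, f x ∈ V₀ → x ∈ W := by
    intro x hx
    by_contra h
    exact hx ⟨x, h, rfl⟩
  have hs : s ∈ V₀ := by
    rintro ⟨x, hx, hxs⟩
    exact hx (ht hxs)
  have hsN : s ∈ S.basicOpen ((N : ℕ) : Γ(S, ⊤)) := by
    rw [← Scheme.evaluation_ne_zero_iff_mem_basicOpen S s (TopologicalSpace.Opens.mem_top s)]
    rw [map_natCast]
    simp only [N, Nat.cast_prod, Finset.prod_ne_zero_iff]
    intro i _ h0
    have hi : f i.1 = s := i.2
    apply hn i.1
    let φ : S.residueField s ⟶ X.residueField i.1 :=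
      (S.residueFieldCongr hi.symm).hom ≫ f.residueFieldMap i.1
    have := congrArg (fun t => φ.hom t) h0
    simpa using this
  refine ⟨V₀ ⊓ S.basicOpen ((N : ℕ) : Γ(S, ⊤)), N, ⟨hs, hsN⟩, isUnit_natCast_of_le _ _ inf_le_right, ?_⟩
  set V := V₀ ⊓ S.basicOpen ((N : ℕ) : Γ(S, ⊤))
  refine killedBy_of_iso ((OverSite.pullIsoRestr (f ⁻¹ᵁ V).ι).app F).symm ?_
  intro V' a
  apply Site0.eq_zero_of_local
  intro v
  have hv : f ((f ⁻¹ᵁ V).ι (V'.hom v)) ∈ V := ((OverSite.str V').base v).2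
  obtain ⟨i, hi, u, hu⟩ := Set.mem_iUnion₂.1 (hV₀ _ hv.1)
  let V'' : X.Etale := (EtShriek.compEtale (f ⁻¹ᵁ V).ι).obj V'
  obtain ⟨T, α, β, z, hαβ, hα, hβ⟩ := Supp.exists_common_refinement
    ((EtCore.topIsTerminal X).from V'') ((EtCore.topIsTerminal X).from (U i.1)) v u (by
      have e1 : ((EtCore.topIsTerminal X).from V'').left = V''.hom :=
        (Category.comp_id _).symm.trans (MorphismProperty.Over.w ((EtCore.topIsTerminal X).from V''))
      have e2 : ((EtCore.topIsTerminal X).from (U i.1)).left = (U i.1).hom :=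
        (Category.comp_id _).symm.trans (MorphismProperty.Over.w ((EtCore.topIsTerminal X).from (U i.1)))
      rw [e1, e2]
      exact hu.symm)
  obtain ⟨T', δ⟩ := EtShriek.compEtaleLift (f ⁻¹ᵁ V).ι α
  let c : T' ⟶ V' := (EtShriek.compEtale (f ⁻¹ᵁ V).ι).preimage (δ.hom ≫ α)
  have hc : (EtShriek.compEtale (f ⁻¹ᵁ V).ι).map c = δ.hom ≫ α := Functor.map_preimage _ _
  refine ⟨T', c, ⟨δ.inv.left.base z, ?_⟩, ?_⟩
  · have h7 : ((EtShriek.compEtale (f ⁻¹ᵁ V).ι).map c).left.base (δ.inv.left.base z) = v := by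
      rw [hc]
      change α.left.base (δ.hom.left.base (δ.inv.left.base z)) = v
      have h8 : δ.hom.left.base (δ.inv.left.base z) = z := by
        have := congrArg (fun q => q.left.base z) δ.inv_hom_id
        exact this
      rw [h8]
      exact hα
    exact h7
  have h5 := hk i.1 ((EtShriek.compEtale (f ⁻¹ᵁ V).ι).obj T') (δ.hom ≫ β)
    ((((EtShriek.restrAlong (f ⁻¹ᵁ V).ι).obj F).obj.map c.op a))
  rw [map_nsmul]
  have h6 : N = (∏ j ∈ t.erase i, n j.1) * n i.1 := by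
    rw [mul_comm]
    exact (Finset.mul_prod_erase t (fun j => n j.1) hi).symm
  rw [h6, mul_smul]
  exact (congrArg (fun q => (∏ j ∈ t.erase i, n j.1) • q) h5).trans (smul_zero _)

end Groth.Agent.Etrest.FLCTors2
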