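import Groth.Agent.S0384
import Groth.Agent.FlatA.CompactifApprox

/-!
# Nagata compactification in the finitely presented case: the compactification can be chosen of finite
presentation
-/

set_option autoImplicit false
universe u

open CategoryTheory CategoryTheory.Limits AlgebraicGeometry

namespace Groth.Agent.Etrest.FPCompact

open Groth.Agent.FlatA.CompactifApprox Groth.Agent.Ega43.LimitDescend

variable {X S : Scheme.{u}}

/-- `f : X ⟶ S` factors as a quasi-compact open immersion followed by a proper morphism of finite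
presentation. -/
def HasFPC (f : X ⟶ S) : Prop :=
  ∃ (Y : Scheme.{u}) (j : X ⟶ Y) (p : Y ⟶ S), IsOpenImmersion j ∧ QuasiCompact j ∧ IsProper p ∧
    LocallyOfFinitePresentation p ∧ j ≫ p = f

theorem HasFPC.of_isPullback {X' S' : Scheme.{u}} {f : X ⟶ S} {f' : X' ⟶ S'}
    {u : X' ⟶ X} {v : S' ⟶ S} (h : IsPullback u f' f v) (hf : HasFPC f) :
    HasFPC f' := by
  obtain ⟨Z, j, p, hj, hj', hp, hfp, rfl⟩ := hf
  have hP : IsPullback (pullback.fst p v) (pullback.snd p v) p v := IsPullback.of_hasPullback p v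
  let j' : X' ⟶ pullback p v := hP.lift (u ≫ j) f' (by
    rw [Category.assoc]; exact h.w)
  have h1 : j' ≫ pullback.fst p v = u ≫ j := hP.lift_fst _ _ _
  have h2 : j' ≫ pullback.snd p v = f' := hP.lift_snd _ _ _
  have hsq : IsPullback u j' j (pullback.fst p v) :=
    IsPullback.of_bot (by rw [h2]; exact h) h1.symm hP
  refine ⟨pullback p v, j', pullback.snd p v, ?_, ?_, inferInstance, inferInstance, h2⟩
  · exact MorphismProperty.of_isPullback (P := @IsOpenImmersion) hsq hj
  · exact MorphismProperty.of_isPullback (P := @QuasiCompact) hsq hj'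

theorem HasFPC.of_isNoetherian (f : X ⟶ S) [IsNoetherian S] [IsSeparated f] [QuasiCompact f]
    [LocallyOfFiniteType f] : HasFPC f := by
  obtain ⟨Y, j, p, h1, h2, h3, h4⟩ := Groth.Agent.S0384.result f
  exact ⟨Y, j, p, h1, h2, h3, inferInstance, h4⟩

theorem hasFPC (f : X ⟶ S) [CompactSpace S] [QuasiSeparatedSpace S] [IsSeparated f]
    [QuasiCompact f] [LocallyOfFinitePresentation f] : HasFPC f := by
  obtain ⟨I, _, _, _, D, c, hc, haff, hD, ⟨e⟩⟩ := S0590.result S
  have hnoeth (i : Iᵒᵖ) : IsNoetherian (D.obj i) := by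
    obtain ⟨h5, h6⟩ := hD i
    have : IsNoetherianRing (ULift.{u} ℤ) :=
      isNoetherianRing_of_ringEquiv ℤ ULift.ringEquiv.symm
    have : IsLocallyNoetherian (D.obj i) :=
      LocallyOfFiniteType.isLocallyNoetherian (Limits.IsTerminal.from specULiftZIsTerminal (D.obj i))
    exact {}
  have hcomp (i : Iᵒᵖ) : CompactSpace (D.obj i) := (hD i).1
  have hqs (i : Iᵒᵖ) : QuasiSeparatedSpace (D.obj i) := inferInstance
  have := haff
  obtain ⟨i, Xi, fi, g, h5, h6, h7, hpb⟩ := S0591.result D c hc X (f ≫ e.inv)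
  let E := Over.forget i ⋙ D
  let t : ∀ j : Over i, E.obj j ⟶ D.obj i := fun j ↦ D.map j.hom
  have ht : ∀ {i' j : Over i} (φ : i' ⟶ j), E.map φ ≫ t j = t i' :=
    fun φ ↦ overT_w D i φ
  have hp : ∀ j, (overCone c i).π.app j ≫ t j = c.π.app i := fun j ↦ c.w j.hom
  have hcompE (j : Over i) : CompactSpace (E.obj j) := hcomp j.left
  have hqsE (j : Over i) : QuasiSeparatedSpace (E.obj j) := hqs j.left
  have haffE {j k : Over i} (φ : j ⟶ k) : IsAffineHom (E.map φ) := haff _ _ _
  obtain ⟨k, hk⟩ := descendsLim_isSeparated E (overCone c i) (isLimitOverCone c hc i) t ht fi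
    (c.π.app i) hp g (f ≫ e.inv) hpb (inferInstanceAs (IsSeparated (f ≫ e.inv)))
  have hpb2 := isPullback_pbCone t ht fi (overCone c i) (c.π.app i) hp g (f ≫ e.inv) hpb k
  have hNoe : IsNoetherian (E.obj k) := hnoeth k.left
  have h8 : HasFPC (pullback.snd fi (t k)) := .of_isNoetherian _
  have h9 : HasFPC (f ≫ e.inv) := h8.of_isPullback hpb2
  refine HasFPC.of_isPullback (f := f ≫ e.inv) (u := 𝟙 X) (v := e.inv) ?_ h9
  exact IsPullback.of_horiz_isIso ⟨by simp⟩

end Groth.Agent.Etrest.FPCompact
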