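import Groth.Agent.Etrest.ModLoc

/-!
# Finite locally constant subsets of a locally constant sheaf of modules

`IsFinSub F O`: `O` assigns to every geometric point a subset of the stalk of `F`, which locally is the image of a
finite subset `A` of a module `M` such that `F|U` is constant with value `M`.
-/

set_option autoImplicit false
universe u

open CategoryTheory CategoryTheory.Limits AlgebraicGeometry Opposite

namespace Groth.Agent.Etrest.FinSub

open Groth.Agent.EtpbcA.Germ (Fib fmap pt)
open Groth.Agent.Etrest.ModGerm Groth.Agent.Etrest.ModLoc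

variable {Λ : Type (u + 1)} [CommRing Λ] {X : Scheme.{u}}

/-- A family of subsets of the geometric stalks. -/
abbrev Fam (F : EtModW.Mod Λ X) : Type (u + 1) :=
  ∀ (Ω : Type u) [Field Ω] [IsSepClosed Ω] (ξ : Spec (CommRingCat.of Ω) ⟶ X),
    Set ((EtModW.stalk Λ ξ).obj F : Type (u + 1))

/-- `O` is a finite locally constant subset of `F`: locally `F` is constant with value `M` and `O` is the image of a
finite subset of `M`. -/
def IsFinSub (F : EtModW.Mod Λ X) (O : Fam F) : Prop :=
  ∀ x : X, ∃ (U : X.Etale) (u : U.left) (M : Type (u + 1)) (_ : AddCommGroup M) (_ : Module Λ M)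
    (φ : M →ₗ[Λ] EtModW.sect Λ F U) (A : Set M), U.hom u = x ∧ IsConstVia Λ F U φ ∧ A.Finite ∧
      ∀ (Ω : Type u) [Field Ω] [IsSepClosed Ω] (ξ : Spec (CommRingCat.of Ω) ⟶ X) (t : Fib ξ U),
        O Ω ξ = (fun m => germ Λ ξ F t (φ m)) '' A

end Groth.Agent.Etrest.FinSub
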