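import Groth.Agent.EtpbcA.FLC
import Groth.Agent.CurvesA.SubSheafEt
import Groth.Agent.Etbase.EtSite
import Mathlib.GroupTheory.FiniteAbelian.Basic
import Mathlib.GroupTheory.Finiteness
import Mathlib.Algebra.Group.Shrink

/-!
# The abelian subsheaf generated by a finite locally constant subset

`IsAbFinSub G O` is the abelian version of `FinSub.IsFinSub`.  If `G` is killed by `n > 0`, the subsheaf
`gen G O` of sections all of whose germs are in the subgroup generated by `O` is finite locally constant, and its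
stalks are these subgroups.
-/

set_option autoImplicit false
universe u

open CategoryTheory CategoryTheory.Limits AlgebraicGeometry Opposite

namespace Groth.Agent.Etrest.FinSubAb

open Groth.Agent.EtpbcA.Germ Groth.Agent.EtpbcA.FLC

variable {X : Scheme.{u}}

/-- A family of subsets of the geometric stalks. -/
abbrev Fam (G : EtCoh.Ab X) : Type (u + 1) :=
  ∀ (Ω : Type u) [Field Ω] [IsSepClosed Ω] (ξ : Spec (CommRingCat.of Ω) ⟶ X),
    Set ((EtCoh.stalk ξ).obj G : Type (u + 1))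

/-- `O` is a finite locally constant subset of `G`: locally `G` is constant with value `M` and `O` is the image of a
finite subset of `M`. -/
def IsAbFinSub (G : EtCoh.Ab X) (O : Fam G) : Prop :=
  ∀ x : X, ∃ (U : X.Etale) (u : U.left) (M : Type (u + 1)) (_ : AddCommGroup M)
    (φ : M →+ EtCoh.sect G U) (A : Set M), U.hom u = x ∧ IsConstVia G U φ ∧ A.Finite ∧
      ∀ (Ω : Type u) [Field Ω] [IsSepClosed Ω] (ξ : Spec (CommRingCat.of Ω) ⟶ X) (t : Fib ξ U),
        O Ω ξ = (fun m => germ ξ G t (φ m)) '' A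

/-- The subgroups of sections whose germs lie in the subgroup generated by `O`. -/
noncomputable def data (G : EtCoh.Ab X) (O : Fam G) : Groth.Agent.CurvesA.SubSheafEt.SubData G where
  P U :=
    { carrier := {s | ∀ (Ω : Type u) [Field Ω] [IsSepClosed Ω] (ξ : Spec (CommRingCat.of Ω) ⟶ X) (t : Fib ξ U),
        germ ξ G t s ∈ AddSubgroup.closure (O Ω ξ)}
      zero_mem' := fun Ω _ _ ξ t => by
        rw [map_zero]
        exact zero_mem _
      add_mem' := fun {a b} ha hb Ω _ _ ξ t => by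
        rw [map_add]
        exact add_mem (ha Ω ξ t) (hb Ω ξ t)
      neg_mem' := fun {a} ha Ω _ _ ξ t => by
        rw [map_neg]
        exact neg_mem (ha Ω ξ t) }
  res {U V} f s hs Ω _ _ ξ t := by
    change germ ξ G t (res G f s) ∈ _
    rw [germ_res']
    exact hs Ω ξ _
  loc U s h Ω _ _ ξ t := by
    obtain ⟨V, f, v, hv, hs⟩ := h (pt ξ t)
    obtain ⟨t', ht', -⟩ := exists_lift ξ f t v hv
    have h1 : germ ξ G t' (res G f s) ∈ AddSubgroup.closure (O Ω ξ) := hs Ω ξ t'
    rw [germ_res', ht'] at h1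
    exact h1

/-- The subsheaf generated by `O`. -/
noncomputable abbrev gen (G : EtCoh.Ab X) (O : Fam G) : EtCoh.Ab X := Groth.Agent.CurvesA.SubSheafEt.sub (data G O)

/-- The inclusion. -/
noncomputable abbrev genι (G : EtCoh.Ab X) (O : Fam G) : gen G O ⟶ G := Groth.Agent.CurvesA.SubSheafEt.ι (data G O)

/-- The map on stalks induced by the inclusion is injective. -/
theorem stalkMap_genι_injective (G : EtCoh.Ab X) (O : Fam G) {Ω : Type u} [Field Ω] [IsSepClosed Ω]
    (ξ : Spec (CommRingCat.of Ω) ⟶ X) : Function.Injective (stalkMap (genι G O) ξ) := by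
  rw [injective_iff_map_eq_zero]
  intro a ha
  obtain ⟨U, t, s, rfl⟩ := germ_surj ξ _ a
  rw [stalkMap_germ, ← map_zero (germ ξ G t), germ_eq_iff] at ha
  obtain ⟨V, g, v, hv, e⟩ := ha
  rw [← map_zero (germ ξ (gen G O) t), germ_eq_iff]
  refine ⟨V, g, v, hv, ?_⟩
  apply Subtype.ext
  exact e

/-- Stalks of the subsheaf lie in the subgroup generated by `O`. -/
theorem stalkMap_genι_mem (G : EtCoh.Ab X) (O : Fam G) {Ω : Type u} [Field Ω] [IsSepClosed Ω]
    (ξ : Spec (CommRingCat.of Ω) ⟶ X) (a : ((EtCoh.stalk ξ).obj (gen G O) : Type (u + 1))) :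
    stalkMap (genι G O) ξ a ∈ AddSubgroup.closure (O Ω ξ) := by
  obtain ⟨U, t, s, rfl⟩ := germ_surj ξ _ a
  rw [stalkMap_germ]
  exact s.2 Ω ξ t

theorem closure_image_eq {G : EtCoh.Ab X} {O : Fam G} {U : X.Etale} {M : Type (u + 1)} [AddCommGroup M]
    (φ : M →+ EtCoh.sect G U) (A : Set M)
    (h : ∀ (Ω : Type u) [Field Ω] [IsSepClosed Ω] (ξ : Spec (CommRingCat.of Ω) ⟶ X) (t : Fib ξ U),
        O Ω ξ = (fun m => germ ξ G t (φ m)) '' A)
    {Ω : Type u} [Field Ω] [IsSepClosed Ω] (ξ : Spec (CommRingCat.of Ω) ⟶ X) (t : Fib ξ U) :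
    AddSubgroup.closure (O Ω ξ) = (AddSubgroup.closure A).map ((germ ξ G t).comp φ) := by
  rw [h Ω ξ t, AddMonoidHom.map_closure]
  rfl

/-- Every element of the subgroup generated by `O` is in the stalk of the subsheaf. -/
theorem exists_stalkMap_genι {G : EtCoh.Ab X} {O : Fam G} (hO : IsAbFinSub G O) {Ω : Type u} [Field Ω]
    [IsSepClosed Ω] (ξ : Spec (CommRingCat.of Ω) ⟶ X) (b : ((EtCoh.stalk ξ).obj G : Type (u + 1)))
    (hb : b ∈ AddSubgroup.closure (O Ω ξ)) : ∃ a, stalkMap (genι G O) ξ a = b := by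
  obtain ⟨U, u, M, _, φ, A, hu, hφ, hA, h⟩ := hO (ξ default)
  obtain ⟨t, -⟩ := Scheme.pointSmallEtaleFiberObjToPreimage_surjective ξ rfl U ⟨u, hu⟩
  rw [closure_image_eq φ A h ξ t] at hb
  obtain ⟨m, hm, rfl⟩ := hb
  let s : EtCoh.sect (gen G O) U := ⟨φ m, fun Ω' _ _ ξ' t' => by
    rw [closure_image_eq φ A h ξ' t']
    exact ⟨m, hm, rfl⟩⟩
  refine ⟨germ ξ _ t s, ?_⟩
  rw [stalkMap_germ]
  rfl

theorem finite_closure {M : Type*} [AddCommGroup M] (n : ℕ) (hn : 0 < n) (hM : ∀ m : M, n • m = 0)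
    (A : Set M) (hA : A.Finite) : Finite (AddSubgroup.closure A) := by
  have h1 : AddGroup.FG (AddSubgroup.closure A) := by
    have := hA.to_subtype
    exact AddGroup.closure_finite_fg A
  exact AddCommGroup.finite_of_fg_isAddTorsion _ (fun m => by
    rw [isOfFinAddOrder_iff_nsmul_eq_zero]
    exact ⟨n, hn, Subtype.ext (hM m.1)⟩)

/-- **The subsheaf generated by a finite locally constant subset of an `n`-torsion sheaf is finite locally
constant.** -/
theorem isFLC_gen {G : EtCoh.Ab X} {O : Fam G} (hO : IsAbFinSub G O) (n : ℕ) (hn : 0 < n)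
    (hG : EtCoh.KilledBy n G) : EtCoh.IsFiniteLocallyConstant (gen G O) := by
  rw [flc_iff]
  intro x
  obtain ⟨U, u, M, _, φ, A, hu, hφ, hA, h⟩ := hO x
  have hM : ∀ m : M, n • m = 0 := by
    intro m
    obtain ⟨Ω, _, _, ξ, t, -⟩ := exists_geomPt u
    apply (hφ Ω ξ t).1
    change germ ξ G t (φ (n • m)) = germ ξ G t (φ 0)
    rw [map_nsmul, hG U (φ m), map_zero φ]
  have hfin : Finite (AddSubgroup.closure A) := finite_closure n hn hM A hA
  let M₀ : Type := Shrink.{0} (AddSubgroup.closure A)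
  let e : M₀ ≃+ AddSubgroup.closure A := Shrink.addEquiv
  have hM₀ : Finite M₀ := Finite.of_equiv _ e.symm.toEquiv
  have hmem : ∀ m ∈ AddSubgroup.closure A, φ m ∈ (data G O).P U := by
    intro m hm Ω _ _ ξ t
    rw [closure_image_eq φ A h ξ t]
    exact ⟨m, hm, rfl⟩
  let ψ₀ : AddSubgroup.closure A →+ (data G O).P U :=
    (φ.comp (AddSubgroup.closure A).subtype).codRestrict ((data G O).P U) (fun m => hmem m.1 m.2)
  let ψ : M₀ →+ EtCoh.sect (gen G O) U := ψ₀.comp e.toAddMonoidHom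
  refine ⟨U, u, M₀, inferInstance, hM₀, ψ, hu, ?_⟩
  intro Ω _ _ ξ t
  have hcomp : ∀ m, stalkMap (genι G O) ξ (germ ξ _ t (ψ m)) = germ ξ G t (φ (e m).1) := by
    intro m
    rw [stalkMap_germ]
    rfl
  constructor
  · intro m m' hmm'
    have h1 : germ ξ G t (φ (e m).1) = germ ξ G t (φ (e m').1) := by
      rw [← hcomp, ← hcomp]
      exact congrArg _ hmm'
    exact e.injective (Subtype.ext ((hφ Ω ξ t).1 h1))
  · intro a
    have h1 := stalkMap_genι_mem G O ξ a
    rw [closure_image_eq φ A h ξ t] at h1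
    obtain ⟨m, hm, hm'⟩ := h1
    refine ⟨e.symm ⟨m, hm⟩, ?_⟩
    apply stalkMap_genι_injective G O ξ
    refine (hcomp _).trans ?_
    rw [e.apply_symm_apply]
    exact hm'

end Groth.Agent.Etrest.FinSubAb
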