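import Groth.Agent.Etrest.FinSub
import Groth.Agent.Etrest.ModSpec
import Groth.Agent.Sga4B.ExtendLC
import Groth.Agent.Sga4B.SpecConstr

/-!
# Existence of finite locally constant generating subsets on geometrically unibranch schemes

`exists_isFinSub`: `Y` locally Noetherian, all local rings of all etale `Y`-schemes are domains, `F` a finite type
locally constant sheaf of `Λ`-modules: there is a finite locally constant subset of `F` generating `F`.
-/

set_option autoImplicit false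
universe u

open CategoryTheory CategoryTheory.Limits AlgebraicGeometry Opposite

namespace Groth.Agent.Etrest.FinSubGen

open Groth.Agent.EtpbcA.Germ (Fib fmap pt mem_iff exists_common exists_geomPt exists_geomPt_aux exists_lift
  fmap_comp pt_fmap hom_pt)
open Groth.Agent.Etrest.ModGerm Groth.Agent.Etrest.ModLoc Groth.Agent.Etrest.ModSpec Groth.Agent.Etrest.FinSub
open Groth.Agent.Sga4B.SpecLocConst (exists_open_common_generization exists_arrow restrictOpen restrictOpenHom
  isLocallyNoetherian_etale restrictOpen_hom_apply pt_restrictOpen_mem)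
open Groth.Agent.Sga4B.NoethStrata (eq_of_specializes_of_etale)

section GenPoint

variable {V : Scheme.{u}}

/-- The generic point of the spectrum of a local ring which is a domain. -/
noncomputable def gen (v : V) (_ : IsDomain (V.presheaf.stalk v)) : V :=
  V.fromSpecStalk v (⟨⊥, Ideal.isPrime_bot⟩ : PrimeSpectrum (V.presheaf.stalk v))

theorem gen_specializes_of_specializes (v : V) (hv : IsDomain (V.presheaf.stalk v)) {z : V} (h : z ⤳ v) :
    gen v hv ⤳ z := by
  have hr := Scheme.range_fromSpecStalk (X := V) (x := v)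
  obtain ⟨z', rfl⟩ : z ∈ Set.range (V.fromSpecStalk v) := by rw [hr]; exact h
  have h1 : (show Spec (V.presheaf.stalk v) from
      (⟨⊥, Ideal.isPrime_bot⟩ : PrimeSpectrum (V.presheaf.stalk v))) ⤳ z' :=
    (PrimeSpectrum.le_iff_specializes _ z').1 (fun x hx => by
      have : x = 0 := hx
      rw [this]
      exact Ideal.zero_mem _)
  exact h1.map (V.fromSpecStalk v).continuous

theorem gen_specializes (v : V) (hv : IsDomain (V.presheaf.stalk v)) : gen v hv ⤳ v :=
  gen_specializes_of_specializes v hv specializes_rfl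

theorem eq_gen_of_specializes (v : V) (hv : IsDomain (V.presheaf.stalk v)) {z : V} (h : z ⤳ gen v hv) :
    z = gen v hv :=
  (h.antisymm (gen_specializes_of_specializes v hv (h.trans (gen_specializes v hv)))).eq

theorem gen_eq_of_specializes {v w : V} (hv : IsDomain (V.presheaf.stalk v))
    (hw : IsDomain (V.presheaf.stalk w)) (h : gen w hw ⤳ v) : gen v hv = gen w hw :=
  eq_gen_of_specializes w hw (gen_specializes_of_specializes v hv h)

/-- Flat morphisms send generic points of local rings to generic points. -/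
theorem hom_gen {W : Scheme.{u}} (f : W ⟶ V) [Flat f] (w : W) (hw : IsDomain (W.presheaf.stalk w))
    (hv : IsDomain (V.presheaf.stalk (f w))) : f (gen w hw) = gen (f w) hv := by
  obtain ⟨z, hz1, hz2⟩ := Flat.generalizingMap f (gen_specializes (f w) hv)
  have h1 : gen w hw ⤳ z := gen_specializes_of_specializes w hw hz1
  have h2 : f (gen w hw) ⤳ gen (f w) hv := by
    rw [← hz2]
    exact h1.map f.continuous
  exact eq_gen_of_specializes _ _ h2

end GenPoint

/-- All local rings of all etale `Y`-schemes are domains. -/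
def EtDom (Y : Scheme.{u}) : Prop :=
  ∀ (U : Y.Etale) (x : U.left), IsDomain ((show Scheme.{u} from U.left).presheaf.stalk x)

variable {Y : Scheme.{u}}

theorem EtDom.isDomain (h : EtDom Y) (y : Y) : IsDomain (Y.presheaf.stalk y) :=
  h (EtCoh.top Y) y

/-- The generic point of an etale neighbourhood. -/
noncomputable def EtDom.genE (h : EtDom Y) (U : Y.Etale) (x : U.left) : U.left :=
  gen (V := (show Scheme.{u} from U.left)) x (h U x)

/-- The generic point of the base. -/
noncomputable def EtDom.genY (h : EtDom Y) (y : Y) : Y := gen y (h.isDomain y)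

theorem EtDom.hom_genE (h : EtDom Y) (U : Y.Etale) (x : U.left) : U.hom (h.genE U x) = h.genY (U.hom x) := by
  have hU : Etale U.hom := U.prop
  have hfl : Flat U.hom := inferInstance
  exact hom_gen (show (show Scheme.{u} from U.left) ⟶ Y from U.hom) x (h U x) (h.isDomain _)

/-- Arrows of geometric points and the underlying points of etale neighbourhoods. -/
theorem pt_specializes {Ω Ω' : Type u} [Field Ω] [IsSepClosed Ω] [Field Ω'] [IsSepClosed Ω']
    {ξ : Spec (CommRingCat.of Ω) ⟶ Y} {ξ' : Spec (CommRingCat.of Ω') ⟶ Y}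
    (a : Scheme.pointSmallEtale ξ' ⟶ Scheme.pointSmallEtale ξ)
    (U : Y.Etale) (t : Fib ξ U) : pt ξ' (a.hom.app U t) ⤳ pt ξ t := by
  rw [specializes_iff_forall_open]
  intro V hV hm
  obtain ⟨s, hs, -⟩ := exists_lift ξ (restrictOpenHom U ⟨V, hV⟩) t (show (restrictOpen U ⟨V, hV⟩).left from
    (⟨pt ξ t, hm⟩ : (⟨V, hV⟩ : U.left.Opens))) rfl
  rw [← hs]
  have : a.hom.app U (fmap ξ (restrictOpenHom U ⟨V, hV⟩) s) =
      fmap ξ' (restrictOpenHom U ⟨V, hV⟩) (a.hom.app _ s) :=
    congrArg (fun φ => φ s) (a.hom.naturality (restrictOpenHom U ⟨V, hV⟩))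
  rw [this]
  exact pt_restrictOpen_mem U ⟨V, hV⟩ ξ' _

theorem pt_eq_gen (h : EtDom Y) {Ω Ω' : Type u} [Field Ω] [IsSepClosed Ω] [Field Ω'] [IsSepClosed Ω']
    {ξ : Spec (CommRingCat.of Ω) ⟶ Y} {ξ' : Spec (CommRingCat.of Ω') ⟶ Y}
    (hξ' : ξ' default = h.genY (ξ default))
    (a : Scheme.pointSmallEtale ξ' ⟶ Scheme.pointSmallEtale ξ)
    (U : Y.Etale) (t : Fib ξ U) : pt ξ' (a.hom.app U t) = h.genE U (pt ξ t) := by
  have hU : Etale U.hom := U.prop
  have h1 : h.genE U (pt ξ t) ⤳ pt ξ' (a.hom.app U t) :=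
    gen_specializes_of_specializes _ _ (pt_specializes a U t)
  refine (eq_of_specializes_of_etale (show U.left ⟶ Y from U.hom) h1 ?_).symm
  have h2 := h.hom_genE U (pt ξ t)
  have h3 : U.hom (pt ξ t) = ξ default := hom_pt ξ t
  have h4 : U.hom (pt ξ' (a.hom.app U t)) = ξ' default := hom_pt ξ' _
  refine h2.trans ?_
  rw [h3, ← hξ']
  exact h4.symm

section Orbits

variable {Λ : Type (u + 1)} [CommRing Λ]

theorem spMap_comp {Ω Ω' Ω'' : Type u} [Field Ω] [IsSepClosed Ω] [Field Ω'] [IsSepClosed Ω']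
    [Field Ω''] [IsSepClosed Ω'']
    {ξ : Spec (CommRingCat.of Ω) ⟶ Y} {ξ' : Spec (CommRingCat.of Ω') ⟶ Y} {ξ'' : Spec (CommRingCat.of Ω'') ⟶ Y}
    (a : Scheme.pointSmallEtale ξ'' ⟶ Scheme.pointSmallEtale ξ')
    (b : Scheme.pointSmallEtale ξ' ⟶ Scheme.pointSmallEtale ξ) (F : EtModW.Mod Λ Y)
    (m : ((EtModW.stalk Λ ξ).obj F : Type (u + 1))) :
    spMap Λ (a ≫ b) F m = spMap Λ a F (spMap Λ b F m) := by
  obtain ⟨U, t, s, rfl⟩ := germ_surj Λ ξ F m
  rw [spMap_germ, spMap_germ, spMap_germ]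
  rfl

/-- Orbits of stalk elements under the endomorphisms of a geometric point are finite. -/
theorem finite_orbit {Ω : Type u} [Field Ω] [IsSepClosed Ω] (ξ : Spec (CommRingCat.of Ω) ⟶ Y)
    (F : EtModW.Mod Λ Y) (m : ((EtModW.stalk Λ ξ).obj F : Type (u + 1))) :
    {m' | ∃ σ : Scheme.pointSmallEtale ξ ⟶ Scheme.pointSmallEtale ξ, m' = spMap Λ σ F m}.Finite := by
  obtain ⟨U, t, s, rfl⟩ := germ_surj Λ ξ F m
  obtain ⟨R, S, j, hj, φ, hφ, y, f, hf⟩ := Groth.Agent.Sga4B.SpecArrow.exists_affine_refinement ξ U t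
  have hfin := Groth.Agent.Sga4B.SpecArrow.finite_fiber_affine j φ ξ
  refine (Set.finite_range (fun y' : Fib ξ (Scheme.Etale.mk (φ ≫ j)) => germ Λ ξ F y' (res Λ F f s))).subset ?_
  rintro _ ⟨σ, rfl⟩
  refine ⟨σ.hom.app _ y, ?_⟩
  change germ Λ ξ F _ (res Λ F f s) = _
  have : germ Λ ξ F t s = germ Λ ξ F y (res Λ F f s) := by
    rw [germ_res]
    exact congrArg (fun τ => germ Λ ξ F τ s) hf.symm
  rw [this, spMap_germ]

/-- Two arrows from a geometric point over the generic point differ by an endomorphism, on a given element. -/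
theorem exists_endo (h : EtDom Y) {Ω Ω' : Type u} [Field Ω] [IsSepClosed Ω] [Field Ω'] [IsSepClosed Ω']
    {ξ : Spec (CommRingCat.of Ω) ⟶ Y} {ξ' : Spec (CommRingCat.of Ω') ⟶ Y}
    (hξ' : ξ' default = h.genY (ξ default))
    (a b : Scheme.pointSmallEtale ξ' ⟶ Scheme.pointSmallEtale ξ)
    (F : EtModW.Mod Λ Y) (m : ((EtModW.stalk Λ ξ).obj F : Type (u + 1))) :
    ∃ σ : Scheme.pointSmallEtale ξ' ⟶ Scheme.pointSmallEtale ξ', spMap Λ b F m = spMap Λ σ F (spMap Λ a F m) := by
  obtain ⟨U, t, s, rfl⟩ := germ_surj Λ ξ F m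
  obtain ⟨σ, hσ⟩ := exists_arrow (X := Y) (a.hom.app U t) (b.hom.app U t) (by
    rw [pt_eq_gen h hξ' a, pt_eq_gen h hξ' b])
  exact ⟨σ, by rw [spMap_germ, spMap_germ, spMap_germ, hσ]⟩

end Orbits

section Main

variable {Λ : Type (u + 1)} [CommRing Λ]

/-- In a scheme whose local rings are domains, every point has an open neighbourhood of specializations of its
generic point. -/
theorem exists_open_gen [IsLocallyNoetherian Y] (h : EtDom Y) (U : Y.Etale) (x : U.left) :
    ∃ V : U.left.Opens, x ∈ V ∧ ∀ y ∈ V, h.genE U y = h.genE U x := by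
  have hN := isLocallyNoetherian_etale U
  obtain ⟨V, hxV, hV⟩ := exists_open_common_generization U.left x
  refine ⟨V, hxV, ?_⟩
  intro y hy
  obtain ⟨η, h1, h2⟩ := hV y hy
  refine gen_eq_of_specializes (V := (show Scheme.{u} from U.left)) (h U y) (h U x) ?_
  exact (gen_specializes_of_specializes (V := (show Scheme.{u} from U.left)) x (h U x) h2).trans h1

/-- **Existence of finite locally constant generating subsets** -/
theorem exists_isFinSub [IsNoetherianRing Λ] [IsLocallyNoetherian Y] (h : EtDom Y) (F : EtModW.Mod Λ Y)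
    (hF : EtModW.IsFTLocConst Λ F) :
    ∃ O : Fam F, IsFinSub F O ∧
      ∀ (Ω : Type u) [Field Ω] [IsSepClosed Ω] (ξ : Spec (CommRingCat.of Ω) ⟶ Y),
        Submodule.span Λ (O Ω ξ) = ⊤ := by
  classical
  -- geometric points
  choose Ωg iF iS ξg hξg using fun y : Y => exists_geomPt_aux Y y
  -- generators
  have hfin : ∀ y : Y, ∃ S : Set ((EtModW.stalk Λ (ξg y)).obj F : Type (u + 1)), S.Finite ∧
      Submodule.span Λ S = ⊤ := by
    intro y
    have := finite_stalk_of_ftlc Λ hF (ξg y)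
    obtain ⟨S, hS⟩ := this.fg_top
    exact ⟨S, S.finite_toSet, hS⟩
  choose S hS1 hS2 using hfin
  let B : ∀ y : Y, Set ((EtModW.stalk Λ (ξg y)).obj F : Type (u + 1)) := fun y =>
    {m | ∃ m₀ ∈ S y, ∃ σ : Scheme.pointSmallEtale (ξg y) ⟶ Scheme.pointSmallEtale (ξg y),
      m = spMap Λ σ F m₀}
  have hB1 : ∀ y, (B y).Finite := by
    intro y
    have : B y = ⋃ m₀ ∈ S y, {m | ∃ σ : Scheme.pointSmallEtale (ξg y) ⟶ Scheme.pointSmallEtale (ξg y),
        m = spMap Λ σ F m₀} := by
      ext m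
      simp [B]
    rw [this]
    exact (hS1 y).biUnion (fun m₀ _ => finite_orbit (ξg y) F m₀)
  have hB2 : ∀ y (m) (σ : Scheme.pointSmallEtale (ξg y) ⟶ Scheme.pointSmallEtale (ξg y)), m ∈ B y →
      spMap Λ σ F m ∈ B y := by
    rintro y _ σ ⟨m₀, hm₀, τ, rfl⟩
    exact ⟨m₀, hm₀, σ ≫ τ, (spMap_comp σ τ F m₀).symm⟩
  have hB3 : ∀ y, Submodule.span Λ (B y) = ⊤ := by
    intro y
    rw [eq_top_iff, ← hS2 y]
    apply Submodule.span_mono
    intro m hm
    refine ⟨m, hm, 𝟙 _, ?_⟩
    obtain ⟨U, t, s, rfl⟩ := germ_surj Λ (ξg y) F m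
    rw [spMap_germ]
    rfl
  let O : Fam F := fun Ω _ _ ξ =>
    {m | ∃ a : Scheme.pointSmallEtale (ξg (h.genY (ξ default))) ⟶ Scheme.pointSmallEtale ξ,
      spMap Λ a F m ∈ B _}
  have hO : ∀ (Ω : Type u) [Field Ω] [IsSepClosed Ω] (ξ : Spec (CommRingCat.of Ω) ⟶ Y)
      (a : Scheme.pointSmallEtale (ξg (h.genY (ξ default))) ⟶ Scheme.pointSmallEtale ξ)
      (m : ((EtModW.stalk Λ ξ).obj F : Type (u + 1))), m ∈ O Ω ξ ↔ spMap Λ a F m ∈ B _ := by
    intro Ω _ _ ξ a m
    refine ⟨?_, fun h => ⟨a, h⟩⟩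
    rintro ⟨b, hb⟩
    obtain ⟨σ, hσ⟩ := exists_endo h (hξg _) b a F m
    rw [hσ]
    exact hB2 _ _ σ hb
  have hO' : ∀ (Ω : Type u) [Field Ω] [IsSepClosed Ω] (ξ : Spec (CommRingCat.of Ω) ⟶ Y) (y : Y)
      (_ : y = h.genY (ξ default)) (a : Scheme.pointSmallEtale (ξg y) ⟶ Scheme.pointSmallEtale ξ)
      (m : ((EtModW.stalk Λ ξ).obj F : Type (u + 1))), m ∈ O Ω ξ ↔ spMap Λ a F m ∈ B y := by
    intro Ω _ _ ξ y hy a m
    subst hy
    exact hO Ω ξ a m
  refine ⟨O, ?_, ?_⟩
  · intro x
    obtain ⟨U, u, M, _, _, _, φ, hu, hφ⟩ := (ftlc_iff F).1 hF x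
    obtain ⟨V, huV, hV⟩ := exists_open_gen h U u
    let γ : U.left := h.genE U u
    obtain ⟨t₀, ht₀⟩ : ∃ t₀ : Fib (ξg (h.genY x)) U, pt _ t₀ = γ := by
      have h1 : U.hom γ = (ξg (h.genY x)) default := by
        rw [hξg, h.hom_genE U u, hu]
      have hU : Etale U.hom := U.prop
      obtain ⟨l, hl, hl'⟩ := Scheme.exists_fac_of_etale_of_isSepClosed U.hom (ξg (h.genY x)) γ h1
      exact ⟨Over.homMk l hl, hl'⟩
    let A : Set M := {m | germ Λ (ξg (h.genY x)) F t₀ (φ m) ∈ B _}
    have hinj : Function.Injective (fun m => germ Λ (ξg (h.genY x)) F t₀ (φ m)) := (hφ _ _ t₀).1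
    refine ⟨restrictOpen U V, ⟨u, huV⟩, M, inferInstance, inferInstance,
      (res Λ F (restrictOpenHom U V)).comp φ, A, ?_, hφ.res _, ?_, ?_⟩
    · exact (restrictOpen_hom_apply U V ⟨u, huV⟩).trans hu
    · exact (hB1 _).preimage hinj.injOn
    · intro Ω _ _ ξ t
      -- the image point in `U`
      let t' : Fib ξ U := fmap ξ (restrictOpenHom U V) t
      have ht' : pt ξ t' ∈ V := pt_restrictOpen_mem U V ξ t
      have hg' : h.genE U (pt ξ t') = γ := hV _ ht'
      have hy : h.genY (ξ default) = h.genY x := by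
        have h1 := h.hom_genE U (pt ξ t')
        have h2 := h.hom_genE U u
        rw [hg', hom_pt] at h1
        rw [hu] at h2
        exact h1.symm.trans h2
      have hkey : ∀ m : M, germ Λ ξ F t' (φ m) ∈ O Ω ξ ↔ m ∈ A := by
        intro m
        obtain ⟨a⟩ := Groth.Agent.Sga4B.SpecArrow.nonempty_pointHom ξ (ξg (h.genY x)) (by
          rw [hξg, ← hy]
          exact gen_specializes _ _)
        rw [hO' Ω ξ _ hy.symm a, spMap_germ]
        have hpt : pt _ (a.hom.app U t') = γ := by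
          rw [pt_eq_gen h (by rw [hξg, hy]) a, hg']
        obtain ⟨σ, hσ⟩ := exists_arrow (X := Y) t₀ (a.hom.app U t') (by rw [ht₀, hpt])
        obtain ⟨τ, hτ⟩ := exists_arrow (X := Y) (a.hom.app U t') t₀ (by rw [ht₀, hpt])
        constructor
        · intro h1
          have h2 := hB2 _ _ τ h1
          rw [spMap_germ, hτ] at h2
          exact h2
        · intro h1
          have h2 := hB2 _ _ σ h1
          rw [spMap_germ, hσ] at h2
          exact h2
      ext m
      constructor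
      · intro hm
        obtain ⟨m', rfl⟩ := (hφ Ω ξ t').2 m
        refine ⟨m', (hkey m').1 hm, ?_⟩
        exact germ_res Λ ξ F _ t (φ m')
      · rintro ⟨m', hm', rfl⟩
        have h1 := (hkey m').2 hm'
        have h2 : germ Λ ξ F t (((res Λ F (restrictOpenHom U V)).comp φ) m') = germ Λ ξ F t' (φ m') :=
          germ_res Λ ξ F _ t (φ m')
        change germ Λ ξ F t (((res Λ F (restrictOpenHom U V)).comp φ) m') ∈ O Ω ξ
        rw [h2]
        exact h1
  · intro Ω _ _ ξ
    obtain ⟨a⟩ := Groth.Agent.Sga4B.SpecArrow.nonempty_pointHom ξ (ξg (h.genY (ξ default))) (by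
      rw [hξg]
      exact gen_specializes _ _)
    have hbij := spMap_bijective_of_ftlc Λ hF a
    have h1 : O Ω ξ = (spMap Λ a F) ⁻¹' (B _) := by
      ext m
      exact hO Ω ξ a m
    rw [h1]
    let e : ((EtModW.stalk Λ ξ).obj F : Type (u + 1)) ≃ₗ[Λ]
        ((EtModW.stalk Λ (ξg (h.genY (ξ default)))).obj F : Type (u + 1)) :=
      LinearEquiv.ofBijective (spMap Λ a F) hbij
    have h2 : (spMap Λ a F) ⁻¹' (B _) = e.symm '' (B (h.genY (ξ default))) := by
      ext m
      constructor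
      · intro hm
        exact ⟨_, hm, e.symm_apply_apply m⟩
      · rintro ⟨b, hb, rfl⟩
        change e (e.symm b) ∈ B _
        rw [e.apply_symm_apply]
        exact hb
    rw [h2, ← LinearEquiv.coe_coe, Submodule.span_image, hB3, Submodule.map_top, LinearEquiv.range]

end Main

end Groth.Agent.Etrest.FinSubGen
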