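import Groth.Agent.Etrest.ModAb
import Groth.Agent.Etrest.ModGerm
import Groth.Agent.Etrest.ModLoc
import Groth.Agent.EtpbcA.FLC

/-!
# Stalks of a sheaf of modules and of the underlying abelian sheaf

`stalkEquiv ξ F : stalk ξ (ab F) ≃+ stalk Λ ξ F`, compatible with germs.
-/

set_option autoImplicit false
universe u

open CategoryTheory CategoryTheory.Limits AlgebraicGeometry Opposite

namespace Groth.Agent.Etrest.ModStalk

open Groth.Agent.EtpbcA.Germ (Fib fmap pt)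
open Groth.Agent.Etrest.ModAb

variable (Λ : Type (u + 1)) [CommRing Λ] {X : Scheme.{u}}
  {Ω : Type u} [Field Ω] [IsSepClosed Ω] (ξ : Spec (CommRingCat.of Ω) ⟶ X)

/-- The comparison map between the stalk of the underlying abelian sheaf and the stalk. -/
noncomputable def toMod (F : EtModW.Mod Λ X) :
    ((EtCoh.stalk ξ).obj ((ab Λ X).obj F) : Type (u + 1)) →+ ((EtModW.stalk Λ ξ).obj F : Type (u + 1)) :=
  ((Scheme.pointSmallEtale ξ).presheafFiberDesc (P := ((ab Λ X).obj F).obj)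
    (T := AddCommGrpCat.of ((EtModW.stalk Λ ξ).obj F : Type (u + 1)))
    (fun U t => AddCommGrpCat.ofHom (ModGerm.germ Λ ξ F t).toAddMonoidHom)
    (fun U V g t => by
      ext s
      exact ModGerm.germ_res Λ ξ F g t s)).hom

/-- The comparison map on germs. -/
theorem toMod_germ (F : EtModW.Mod Λ X) {U : X.Etale} (t : Fib ξ U) (s : EtModW.sect Λ F U) :
    toMod Λ ξ F (EtpbcA.Germ.germ ξ ((ab Λ X).obj F) t s) = ModGerm.germ Λ ξ F t s :=
  congrArg (fun φ => φ.hom s) ((Scheme.pointSmallEtale ξ).toPresheafFiber_presheafFiberDesc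
    (P := ((ab Λ X).obj F).obj)
    (T := AddCommGrpCat.of ((EtModW.stalk Λ ξ).obj F : Type (u + 1)))
    (fun U t => AddCommGrpCat.ofHom (ModGerm.germ Λ ξ F t).toAddMonoidHom)
    (fun U V g t => by
      ext s
      exact ModGerm.germ_res Λ ξ F g t s) U t)

theorem toMod_bijective (F : EtModW.Mod Λ X) : Function.Bijective (toMod Λ ξ F) := by
  constructor
  · rw [injective_iff_map_eq_zero]
    intro a ha
    obtain ⟨U, t, s, rfl⟩ := EtpbcA.Germ.germ_surj ξ _ a
    have h1 : ModGerm.germ Λ ξ F t s = 0 := (toMod_germ Λ ξ F t s).symm.trans ha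
    obtain ⟨V, g, v, hv, e⟩ := (ModGerm.germ_eq_zero_iff Λ ξ F t s).1 h1
    rw [← map_zero (EtpbcA.Germ.germ ξ ((ab Λ X).obj F) t), EtpbcA.Germ.germ_eq_iff]
    exact ⟨V, g, v, hv, e.trans (map_zero (((ab Λ X).obj F).obj.map g.op).hom).symm⟩
  · intro b
    obtain ⟨U, t, s, rfl⟩ := ModGerm.germ_surj Λ ξ F b
    exact ⟨_, toMod_germ Λ ξ F t s⟩

/-- The comparison isomorphism. -/
noncomputable def stalkEquiv (F : EtModW.Mod Λ X) :
    ((EtCoh.stalk ξ).obj ((ab Λ X).obj F) : Type (u + 1)) ≃+ ((EtModW.stalk Λ ξ).obj F : Type (u + 1)) :=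
  AddEquiv.ofBijective (toMod Λ ξ F) (toMod_bijective Λ ξ F)

theorem stalkEquiv_germ (F : EtModW.Mod Λ X) {U : X.Etale} (t : Fib ξ U) (s : EtModW.sect Λ F U) :
    stalkEquiv Λ ξ F (EtpbcA.Germ.germ ξ ((ab Λ X).obj F) t s) = ModGerm.germ Λ ξ F t s :=
  toMod_germ Λ ξ F t s

/-- Naturality of the comparison. -/
theorem stalkEquiv_map {F G : EtModW.Mod Λ X} (φ : F ⟶ G)
    (a : ((EtCoh.stalk ξ).obj ((ab Λ X).obj F) : Type (u + 1))) :
    stalkEquiv Λ ξ G (EtpbcA.Germ.stalkMap ((ab Λ X).map φ) ξ a) = ModGerm.stalkMap Λ ξ φ (stalkEquiv Λ ξ F a) := by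
  obtain ⟨U, t, s, rfl⟩ := EtpbcA.Germ.germ_surj ξ _ a
  rw [EtpbcA.Germ.stalkMap_germ]
  exact (stalkEquiv_germ Λ ξ G t (ModGerm.ev Λ φ U s)).trans
    ((ModGerm.stalkMap_germ Λ ξ φ t s).symm.trans (congrArg _ (stalkEquiv_germ Λ ξ F t s).symm))

variable {Λ}

/-- `IsConstVia` for a sheaf of modules and for the underlying abelian sheaf. -/
theorem isConstVia_iff {M : Type (u + 1)} [AddCommGroup M] [Module Λ M] (F : EtModW.Mod Λ X) (U : X.Etale)
    (φ : M →ₗ[Λ] EtModW.sect Λ F U) :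
    ModLoc.IsConstVia Λ F U φ ↔
      EtpbcA.FLC.IsConstVia ((ab Λ X).obj F) U (show M →+ EtCoh.sect ((ab Λ X).obj F) U from φ.toAddMonoidHom) := by
  unfold ModLoc.IsConstVia EtpbcA.FLC.IsConstVia
  refine forall_congr' fun Ω => forall_congr' fun _ => forall_congr' fun _ => forall_congr' fun ξ =>
    forall_congr' fun t => ?_
  have : (fun m => ModGerm.germ Λ ξ F t (φ m)) = (stalkEquiv Λ ξ F) ∘
      (fun m => EtpbcA.Germ.germ ξ ((ab Λ X).obj F) t (φ m)) := by
    funext m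
    exact (stalkEquiv_germ Λ ξ F t (φ m)).symm
  rw [this, Function.Bijective.of_comp_iff' (stalkEquiv Λ ξ F).bijective]
  rfl

end Groth.Agent.Etrest.ModStalk
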