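import Groth.Agent.Etrest.FinSub
import Groth.Agent.Etrest.FinSubAb
import Groth.Agent.Etrest.ModStalk

/-!
# From a finite locally constant spanning subset to a finite locally constant generating abelian subsheaf

`exists_flc_of_isFinSub`: `F` a sheaf of `Λ`-modules killed by `n > 0`, `O` a finite locally constant subset of `F`
spanning all geometric stalks over `Λ`; then there is a finite locally constant abelian sheaf `F₀` killed by `n` with
a monomorphism `i : F₀ ⟶ F^ab` whose image spans all geometric stalks over `Λ`.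
-/

set_option autoImplicit false
universe u

open CategoryTheory CategoryTheory.Limits AlgebraicGeometry Opposite

namespace Groth.Agent.Etrest.FinSubMod

open Groth.Agent.EtpbcA.Germ (Fib fmap pt)
open Groth.Agent.Etrest.ModAb Groth.Agent.Etrest.ModStalk

variable {Λ : Type (u + 1)} [CommRing Λ] {X : Scheme.{u}}

/-- The family of subsets of the stalks of the underlying abelian sheaf. -/
noncomputable def toAb {F : EtModW.Mod Λ X} (O : FinSub.Fam F) : FinSubAb.Fam ((ab Λ X).obj F) :=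
  fun Ω _ _ ξ => (stalkEquiv Λ ξ F) ⁻¹' (O Ω ξ)

theorem isAbFinSub {F : EtModW.Mod Λ X} {O : FinSub.Fam F} (hO : FinSub.IsFinSub F O) :
    FinSubAb.IsAbFinSub ((ab Λ X).obj F) (toAb O) := by
  intro x
  obtain ⟨U, u, M, _, _, φ, A, hu, hφ, hA, h⟩ := hO x
  refine ⟨U, u, M, inferInstance, φ.toAddMonoidHom, A, hu, (isConstVia_iff F U φ).1 hφ, hA, ?_⟩
  intro Ω _ _ ξ t
  change (stalkEquiv Λ ξ F) ⁻¹' (O Ω ξ) = _
  rw [h Ω ξ t]
  ext a
  constructor
  · rintro ⟨m, hm, e⟩
    refine ⟨m, hm, (stalkEquiv Λ ξ F).injective ?_⟩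
    exact (stalkEquiv_germ Λ ξ F t (φ m)).trans e
  · rintro ⟨m, hm, rfl⟩
    exact ⟨m, hm, (stalkEquiv_germ Λ ξ F t (φ m)).symm⟩

/-- A finite locally constant spanning subset gives a finite locally constant generating abelian subsheaf. -/
theorem exists_flc_of_isFinSub (F : EtModW.Mod Λ X) (n : ℕ) (hn : 0 < n)
    (hFn : EtCoh.KilledBy n ((ab Λ X).obj F)) (O : FinSub.Fam F) (hO : FinSub.IsFinSub F O)
    (hspan : ∀ (Ω : Type u) [Field Ω] [IsSepClosed Ω] (ξ : Spec (CommRingCat.of Ω) ⟶ X),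
      Submodule.span Λ (O Ω ξ) = ⊤) :
    ∃ (F₀ : EtCoh.Ab X) (i : F₀ ⟶ (ab Λ X).obj F), Mono i ∧ EtCoh.IsFiniteLocallyConstant F₀ ∧
      EtCoh.KilledBy n F₀ ∧
      ∀ (Ω : Type u) [Field Ω] [IsSepClosed Ω] (ξ : Spec (CommRingCat.of Ω) ⟶ X),
        Submodule.span Λ (Set.range (fun a => stalkEquiv Λ ξ F (EtpbcA.Germ.stalkMap i ξ a))) = ⊤ := by
  have hO' := isAbFinSub hO
  refine ⟨FinSubAb.gen _ (toAb O), FinSubAb.genι _ (toAb O), inferInstance,
    FinSubAb.isFLC_gen hO' n hn hFn, ?_, ?_⟩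
  · intro U s
    apply Subtype.ext
    exact hFn U s.1
  · intro Ω _ _ ξ
    rw [eq_top_iff, ← hspan Ω ξ]
    apply Submodule.span_mono
    intro b hb
    obtain ⟨b', rfl⟩ := (stalkEquiv Λ ξ F).surjective b
    obtain ⟨a, ha⟩ := FinSubAb.exists_stalkMap_genι hO' ξ b' (AddSubgroup.subset_closure hb)
    exact ⟨a, congrArg _ ha⟩

end Groth.Agent.Etrest.FinSubMod
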