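import Groth.Agent.Etrest.FppfMain3

/-!
# Étale-local Čech acyclicity of inverse images of small étale sheaves
-/

set_option autoImplicit false
universe u

open CategoryTheory CategoryTheory.Limits AlgebraicGeometry Opposite

namespace Groth.Agent.Etrest.FppfCA

open BigEtSite FppfCoch FppfLoc FppfMain

variable {S : Scheme.{u}} (F : EtCoh.Ab S) {Ω : Type u} [Field Ω] [IsAlgClosed Ω]

/-- Sections of `a⁻¹ F` over a geometric point. -/
theorem exists_sec_geom (ω : Spec (.of Ω) ⟶ S) (s : GE F (Over.mk ω)) :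
    ∃ (U : S.Etale) (h : Over.mk ω ⟶ (EtFppf.a S).obj U) (t : EtCoh.sect F U), s = sec F h t := by
  obtain ⟨T', g, U, h, t, he, ⟨z, hz⟩, e⟩ := exists_sec F s (default : Spec (.of Ω))
  obtain ⟨w, hw, -⟩ := Scheme.exists_fac_of_etale_of_isSepClosed g.left (𝟙 (Spec (.of Ω))) z hz
  let w' : Over.mk ω ⟶ T' := Over.homMk w (by
    rw [← Over.w g, ← Category.assoc, hw]
    exact Category.id_comp _)
  have hw' : w' ≫ g = 𝟙 _ := by
    ext
    exact hw
  refine ⟨U, w' ≫ h, t, ?_⟩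
  rw [← res_sec, ← e, res_res, hw']
  change s = ((aPullE S).obj F).obj.map (𝟙 (op (Over.mk ω))) s
  rw [CategoryTheory.Functor.map_id]
  rfl

/-- A section which vanishes at a geometric point vanishes étale-locally around it. -/
theorem exists_van {ω₀ : Spec (.of Ω) ⟶ S} {T : Over S} (ν : Over.mk ω₀ ⟶ T) (s : GE F T) (h0 : res F ν s = 0) :
    ∃ (T' : Over S) (g : T' ⟶ T), Etale g.left ∧ ν.left (default : Spec (.of Ω)) ∈ Set.range g.left ∧
      res F g s = 0 := by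
  obtain ⟨T', g, U, h, t, he, ⟨z, hz⟩, e⟩ := exists_sec F s (ν.left (default : Spec (.of Ω)))
  obtain ⟨w, hw, hwz⟩ := Scheme.exists_fac_of_etale_of_isSepClosed g.left (ν.left : Spec (.of Ω) ⟶ T.left) z hz
  let w' : Over.mk ω₀ ⟶ T' := Over.homMk w (by
    rw [← Over.w g, ← Category.assoc, hw]
    exact Over.w ν)
  have hw' : w' ≫ g = ν := by
    ext
    exact hw
  have h1 : sec F (w' ≫ h) t = 0 := by rw [← res_sec, ← e, res_res, hw', h0]
  rw [sec_eq_zero_iff] at h1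
  obtain ⟨W, k, ⟨x, hx⟩, hk⟩ := h1 (default : Spec (.of Ω))
  obtain ⟨P, p, q, e1, hpb, hP⟩ := exists_pb h ((EtFppf.a S).map k)
  obtain ⟨y, hy, -⟩ := hP (w default) x hx.symm
  have hp : Etale p.left := by
    have : Etale ((EtFppf.a S).map k).left := inferInstanceAs (Etale k.left)
    exact MorphismProperty.of_isPullback (P := @Etale) hpb.flip this
  refine ⟨P, p ≫ g, ?_, ⟨y, ?_⟩, ?_⟩
  · rw [Over.comp_left]
    infer_instance
  · rw [Over.comp_left, Scheme.Hom.comp_apply, hy, ← Scheme.Hom.comp_apply, hw]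
  · rw [← res_res, e, res_sec, e1, sec_map, hk, sec_zero]

/-- A section over a finite `Y ⟶ V` which vanishes over a geometric point of `V` vanishes over an open neighbourhood
of it. -/
theorem exists_van_finite {ω₀ : Spec (.of Ω) ⟶ S} {V Y : Over S} (ν : Over.mk ω₀ ⟶ V) (f : Y ⟶ V)
    (hf : IsFinite f.left) (s : GE F Y)
    (h0 : ∀ (y : Over.mk ω₀ ⟶ Y), y ≫ f = ν → res F y s = 0) :
    ∃ (V' : Over S) (g : V' ⟶ V), Etale g.left ∧ ν.left (default : Spec (.of Ω)) ∈ Set.range g.left ∧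
      ∀ (W : Over S) (a : W ⟶ Y) (b : W ⟶ V'), a ≫ f = b ≫ g → res F a s = 0 := by
  let O : Set Y.left := {z | ∃ (T' : Over S) (g : T' ⟶ Y), Etale g.left ∧ z ∈ Set.range g.left ∧ res F g s = 0}
  have hO : IsOpen O := by
    rw [isOpen_iff_forall_mem_open]
    rintro z ⟨T', g, hg, hz, e⟩
    exact ⟨Set.range g.left, fun z' hz' => ⟨T', g, hg, hz', e⟩, g.left.isOpenMap.isOpen_range, hz⟩
  let K : Set V.left := f.left '' Oᶜ
  have hK : IsClosed K := f.left.isClosedMap _ hO.isClosed_compl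
  have hν : ν.left (default : Spec (.of Ω)) ∉ K := by
    rintro ⟨z, hz, hzν⟩
    obtain ⟨l, hl, rfl⟩ := LqfPts.exists_fac f.left (ν.left : Spec (.of Ω) ⟶ V.left) z hzν
    let l' : Over.mk ω₀ ⟶ Y := Over.homMk l (by
      rw [← Over.w f, ← Category.assoc, hl]
      exact Over.w ν)
    have hl' : l' ≫ f = ν := by
      ext
      exact hl
    obtain ⟨T', g, hg, hz', e⟩ := exists_van F l' s (h0 l' hl')
    exact hz ⟨T', g, hg, hz', e⟩
  let V₀ : V.left.Opens := ⟨Kᶜ, hK.isOpen_compl⟩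
  let V' : Over S := Over.mk (V₀.ι ≫ V.hom)
  let i : V' ⟶ V := Over.homMk V₀.ι rfl
  refine ⟨V', i, inferInstanceAs (Etale V₀.ι), ?_, ?_⟩
  · change _ ∈ Set.range V₀.ι
    rw [Scheme.Opens.range_ι]
    exact hν
  · intro W a b hab
    apply eq_of_etale_local
    intro x
    have hx : a.left x ∈ O := by
      by_contra hx
      have h1 : f.left (a.left x) = V₀.ι (b.left x) := by
        rw [← Scheme.Hom.comp_apply, ← Over.comp_left, hab, Over.comp_left, Scheme.Hom.comp_apply]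
        rfl
      have h2 : V₀.ι (b.left x) ∈ V₀ := by
        have : V₀.ι (b.left x) ∈ Set.range V₀.ι := ⟨_, rfl⟩
        rwa [Scheme.Opens.range_ι] at this
      rw [← h1] at h2
      exact h2 ⟨_, hx, rfl⟩
    obtain ⟨T', g, hg, ⟨z, hz⟩, e⟩ := hx
    obtain ⟨P, p, q, e1, hpb, hP⟩ := exists_pb a g
    obtain ⟨y, hy, -⟩ := hP x z hz.symm
    refine ⟨P, p, MorphismProperty.of_isPullback (P := @Etale) hpb.flip hg, ⟨y, hy⟩, ?_⟩
    rw [res_res, e1, ← res_res, e, res_zero, res_zero]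

/-- Two sections over a scheme finite over an algebraically closed field agree if they agree at all points. -/
theorem eq_of_points {ω₀ : Spec (.of Ω) ⟶ S} {Y : Over S} (f : Y ⟶ Over.mk ω₀) (hf : IsFinite f.left)
    (s s' : GE F Y) (h : ∀ y : Over.mk ω₀ ⟶ Y, y ≫ f = 𝟙 _ → res F y s = res F y s') : s = s' := by
  apply eq_of_jointly_surjective
  intro z
  obtain ⟨l, hl, rfl⟩ := LqfPts.exists_fac (f.left : Y.left ⟶ Spec (.of Ω)) (𝟙 _) z
    (Subsingleton.elim (α := (Spec (CommRingCat.of Ω) : Scheme.{u})) _ _)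
  let l' : Over.mk ω₀ ⟶ Y := Over.homMk l (by
    rw [← Over.w f, ← Category.assoc, hl]
    exact Category.id_comp _)
  exact ⟨_, l', ⟨_, rfl⟩, h l' (by ext; exact hl)⟩

/-- Extension of a section from the geometric fibre of a finite morphism to an étale neighbourhood. -/
theorem exists_extend_fibre {ω₀ : Spec (.of Ω) ⟶ S} {U Y Yb : Over S} (ν : Over.mk ω₀ ⟶ U) (f : Y ⟶ U)
    (hf : IsFinite f.left) (a₀ : Yb ⟶ Y) (b₀ : Yb ⟶ Over.mk ω₀) (hpb : IsPullback a₀ b₀ f ν) (β : GE F Yb) :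
    ∃ (V : Over S) (g : V ⟶ U) (_ : Etale g.left) (ν₁ : Over.mk ω₀ ⟶ V) (hν : ν₁ ≫ g = ν) (Y₁ : Over S)
      (a₁ : Y₁ ⟶ Y) (b₁ : Y₁ ⟶ V) (hpb₁ : IsPullback a₁ b₁ f g) (δ : GE F Y₁),
      res F (hpb₁.lift a₀ (b₀ ≫ ν₁) (by rw [hpb.w, Category.assoc, hν])) δ = β := by
  let ι : Type u := {y : Spec (CommRingCat.of Ω) ⟶ Y.left // y ≫ f.left = ν.left}
  have hyS : ∀ y : ι, y.1 ≫ Y.hom = ω₀ := fun y => by
    rw [← Over.w f, ← Category.assoc, y.2]
    exact Over.w ν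
  let yo : ∀ y : ι, Over.mk ω₀ ⟶ Y := fun y => Over.homMk y.1 (hyS y)
  have hyo : ∀ y : ι, yo y ≫ f = ν := fun y => by
    ext
    exact y.2
  let yb : ∀ y : ι, Over.mk ω₀ ⟶ Yb := fun y => hpb.lift (yo y) (𝟙 _) (by rw [hyo, Category.id_comp])
  have H := fun y : ι => exists_sec_geom F ω₀ (res F (yb y) β)
  choose A h t ht using H
  let W : ι → Over S := fun y => Over.mk (pullback.snd (A y).hom Y.hom ≫ Y.hom)
  let pY : ∀ y, W y ⟶ Y := fun y => Over.homMk (pullback.snd (A y).hom Y.hom) rfl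
  let pA : ∀ y, W y ⟶ (EtFppf.a S).obj (A y) := fun y =>
    Over.homMk (pullback.fst (A y).hom Y.hom) pullback.condition
  let w : ∀ y, Over.mk ω₀ ⟶ W y := fun y =>
    Over.homMk (pullback.lift (h y).left (yo y).left ((Over.w (h y)).trans (Over.w (yo y)).symm))
    (((Category.assoc _ _ _).symm.trans (congrArg (· ≫ Y.hom) (pullback.lift_snd _ _ _))).trans
      (Over.w (yo y)))
  have hwY : ∀ y, w y ≫ pY y = yo y := fun y => by
    ext
    exact pullback.lift_snd _ _ _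
  have hwA : ∀ y, w y ≫ pA y = h y := fun y => by
    ext
    exact pullback.lift_fst _ _ _
  have hpY : ∀ y, Etale (pY y).left := fun y => inferInstanceAs (Etale (pullback.snd (A y).hom Y.hom))
  obtain ⟨Z, j, h1, h2, h3, h4⟩ := exists_coprod W
  obtain ⟨k, hk, hke⟩ := h4 Y pY
  have hke := hke hpY
  obtain ⟨γ, hγ⟩ := exists_glue ((aPullE S).obj F).property j h1 h2 h3 (fun y => sec F (pA y) (t y))
  obtain ⟨U₁, g₁, hg₁, η₁, hη₁, τ, hτ, hτ'⟩ := FppfPL.exists_pointed_lift f.left k.left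
    (ν.left : Spec (.of Ω) ⟶ U.left)
    (fun y hy => (w ⟨y, hy⟩).left ≫ (j ⟨y, hy⟩).left) (fun y hy => by
      rw [Category.assoc, ← Over.comp_left, ← Over.comp_left, hk, hwY]
      rfl)
  let V : Over S := Over.mk (g₁ ≫ U.hom)
  let g' : V ⟶ U := Over.homMk g₁ rfl
  let Y₁ : Over S := Over.mk (pullback.fst f.left g₁ ≫ Y.hom)
  let a₁ : Y₁ ⟶ Y := Over.homMk (pullback.fst f.left g₁) rfl
  let b₁ : Y₁ ⟶ V := Over.homMk (pullback.snd f.left g₁) (by
    dsimp [V, Y₁]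
    rw [← Category.assoc, ← pullback.condition, Category.assoc, Over.w f])
  have hpb₁ : IsPullback a₁ b₁ f g' := by
    have h0 : IsPullback ((Over.forget S).map a₁) ((Over.forget S).map b₁) ((Over.forget S).map f)
        ((Over.forget S).map g') := IsPullback.of_hasPullback f.left g₁
    exact IsPullback.of_map (Over.forget S) (by ext; exact pullback.condition) h0
  let τ' : Y₁ ⟶ Z := Over.homMk τ (by
    dsimp [Y₁]
    rw [← Over.w k, ← Category.assoc, hτ])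
  let ν₁ : Over.mk ω₀ ⟶ V := Over.homMk η₁ (by
    dsimp [V]
    rw [← Category.assoc, hη₁]
    exact Over.w ν)
  have hν₁ : ν₁ ≫ g' = ν := by
    ext
    exact hη₁
  refine ⟨V, g', hg₁, ν₁, hν₁, Y₁, a₁, b₁, hpb₁, res F τ' γ, ?_⟩
  have hb₀ : IsFinite b₀.left := MorphismProperty.of_isPullback (P := @IsFinite) (hpb.map (Over.forget S)) hf
  refine eq_of_points F b₀ hb₀ _ _ fun l hl => ?_
  let y : ι := ⟨(l ≫ a₀).left, by
    rw [← Over.comp_left, Category.assoc, hpb.w, ← Category.assoc, hl, Category.id_comp]⟩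
  have hly : l = yb y := by
    apply hpb.hom_ext
    · rw [hpb.lift_fst]
      rfl
    · rw [hl, hpb.lift_snd]
  let φ : Yb ⟶ Y₁ := hpb₁.lift a₀ (b₀ ≫ ν₁) (by rw [hpb.w, Category.assoc, hν₁])
  have hφ1 : φ ≫ a₁ = a₀ := hpb₁.lift_fst _ _ _
  have hφ2 : φ ≫ b₁ = b₀ ≫ ν₁ := hpb₁.lift_snd _ _ _
  have e1 : (l ≫ φ) ≫ τ' = w y ≫ j y := by
    have e2 := hτ' y.1 y.2
    ext
    rw [Over.comp_left _ _ _ (w y) (j y)]
    refine Eq.trans ?_ e2
    rw [Over.comp_left]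
    change (l ≫ φ).left ≫ τ = _ ≫ τ
    congr 1
    apply pullback.hom_ext
    · rw [pullback.lift_fst]
      have := congrArg (fun k => k.left) (show (l ≫ φ) ≫ a₁ = l ≫ a₀ by rw [Category.assoc, hφ1])
      exact this
    · rw [pullback.lift_snd]
      have := congrArg (fun k => k.left) (show (l ≫ φ) ≫ b₁ = ν₁ by
        rw [Category.assoc, hφ2, ← Category.assoc, hl, Category.id_comp])
      exact this
  rw [res_res, res_res]
  change res F ((l ≫ φ) ≫ τ') γ = _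
  have hγ' : ∀ i, res F (j i) γ = sec F (pA i) (t i) := hγ
  rw [e1, ← res_res, hγ', res_sec, hwA, ← ht, hly]

/-- Inverse images of small étale sheaves are étale-locally Čech acyclic. -/
theorem ca_aPullE : CA ((aPullE S).obj F).obj := by
  intro T T' U p e hp n c hc hz u
  have hpf := hp.fin
  have hps := hp.surj
  obtain ⟨Ω, _, _, ω, rfl⟩ := exists_geomPt U.left u
  let ω₀ : Spec (CommRingCat.of Ω) ⟶ S := ω ≫ U.hom
  let ν : Over.mk ω₀ ⟶ U := Over.homMk ω rfl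
  -- a section of `p` over the geometric point
  obtain ⟨x, hx⟩ := hps.surj ((ω ≫ e.left) default)
  obtain ⟨l, hl, -⟩ := LqfPts.exists_fac p.left (ω ≫ e.left) x hx
  let s : Over.mk ω₀ ⟶ T' := Over.homMk l (by
    rw [← Over.w p, ← Category.assoc, hl, Category.assoc, Over.w e]
    rfl)
  have hs : s ≫ p = ν ≫ e := by
    ext
    exact hl
  obtain ⟨bb, hbb, hbbc⟩ := exists_cob_of_section s hs (resF ν c) (hc.res ν) (hz.res ν)
  -- extension of the cochain to an étale neighbourhood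
  obtain ⟨R, hR⟩ := exists_rep (MorphismProperty.inverseImage @IsFinite (Over.forget S)) p e hp.fin n
  let Yb := pullback R.π ν
  let a₀ : Yb ⟶ R.Y := pullback.fst R.π ν
  let b₀ : Yb ⟶ Over.mk ω₀ := pullback.snd R.π ν
  have hpb : IsPullback a₀ b₀ R.π ν := IsPullback.of_hasPullback _ _
  let Rb := R.baseChange ν a₀ b₀ hpb
  obtain ⟨V, g, hg, ν₁, hν, Y₁, a₁, b₁, hpb₁, δ, hδ⟩ :=
    exists_extend_fibre F ν R.π hR a₀ b₀ hpb (bb Yb b₀ Rb.y)
  let R₁ := R.baseChange g a₁ b₁ hpb₁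
  let b : Fam ((aPullE S).obj F).obj V T' n := ofSec R₁ δ
  have hb : IsCoch p (g ≫ e) b := isCoch_ofSec R₁ δ
  have hbbb : ∀ {W : Over S} (a : W ⟶ Over.mk ω₀) (x : Fin (n + 1) → (W ⟶ T')), Compat p (ν ≫ e) a x →
      b W (a ≫ ν₁) x = bb W a x := by
    intro W a x hx
    have hx1 : Compat p (g ≫ e) (a ≫ ν₁) x := fun i => by
      rw [hx i, ← hν]
      simp only [Category.assoc]
    let q₁ : W ⟶ Y₁ := R₁.lift (a ≫ ν₁) x hx1
    let qb : W ⟶ Yb := Rb.lift a x hx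
    let φ : Yb ⟶ Y₁ := hpb₁.lift a₀ (b₀ ≫ ν₁) (by rw [hpb.w, Category.assoc, hν])
    have hφ1 : φ ≫ a₁ = a₀ := hpb₁.lift_fst _ _ _
    have hφ2 : φ ≫ b₁ = b₀ ≫ ν₁ := hpb₁.lift_snd _ _ _
    have h1 : b W (a ≫ ν₁) x = res F q₁ δ := ofSec_apply R₁ δ (a ≫ ν₁) x hx1
    have h2 : bb W a x = res F qb (bb Yb b₀ Rb.y) :=
      (ofSec_eq Rb bb hbb a x hx).symm.trans (ofSec_apply Rb (bb Yb b₀ Rb.y) a x hx)
    have h3 : bb Yb b₀ Rb.y = res F φ δ := hδ.symm
    have h4 : q₁ = qb ≫ φ := by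
      have e1 : q₁ ≫ b₁ = a ≫ ν₁ := R₁.lift_π _ _ _
      have e2 : ∀ i, q₁ ≫ a₁ ≫ R.y i = x i := fun i => R₁.lift_y _ _ _ i
      have e3 : qb ≫ b₀ = a := Rb.lift_π _ _ _
      have e4 : ∀ i, qb ≫ a₀ ≫ R.y i = x i := fun i => Rb.lift_y _ _ _ i
      apply hpb₁.hom_ext
      · apply R.hom_ext
        · rw [Category.assoc, Category.assoc, Category.assoc, hpb₁.w, ← Category.assoc, e1, ← Category.assoc φ,
            hφ2, Category.assoc b₀, ← Category.assoc qb, e3, Category.assoc]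
        · intro i
          rw [Category.assoc, e2, Category.assoc, Category.assoc, ← Category.assoc φ, hφ1, e4]
      · rw [e1, Category.assoc, hφ2, ← Category.assoc, e3]
    rw [h1, h2, h3, res_res, h4]
  -- the difference vanishes on the geometric fibre
  let c' : Fam ((aPullE S).obj F).obj V T' (n + 1) := subF (resF g c) (dF b)
  have hc' : IsCoch p (g ≫ e) c' := (hc.res g).sub hb.dF
  obtain ⟨R', hR'⟩ := exists_rep (MorphismProperty.inverseImage @IsFinite (Over.forget S)) p (g ≫ e) hp.fin (n + 1)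
  have hvan : ∀ (y : Over.mk ω₀ ⟶ R'.Y), y ≫ R'.π = ν₁ → res F y (c' R'.Y R'.π R'.y) = 0 := by
    intro y hy
    have e1 : res F y (c' R'.Y R'.π R'.y) = c' _ (y ≫ R'.π) (fun i => y ≫ R'.y i) := hc' y R'.π R'.y R'.compat
    have e2 : y ≫ R'.π = 𝟙 _ ≫ ν₁ := by rw [hy, Category.id_comp]
    have e3 : Compat p (ν ≫ e) (𝟙 (Over.mk ω₀)) (fun i => y ≫ R'.y i) := fun i => by
      rw [Category.assoc, R'.compat i, ← Category.assoc, hy, ← Category.assoc, hν, Category.id_comp]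
    rw [e1, e2]
    change c _ ((𝟙 _ ≫ ν₁) ≫ g) _ - dS (b _ (𝟙 _ ≫ ν₁)) _ = 0
    have e4 : dS (b _ (𝟙 (Over.mk ω₀) ≫ ν₁)) (fun i => y ≫ R'.y i) = dS (bb _ (𝟙 (Over.mk ω₀)))
        (fun i => y ≫ R'.y i) := dS_congr fun i => hbbb (𝟙 _) _ (e3.face i)
    have e5 : dS (bb _ (𝟙 (Over.mk ω₀))) (fun i => y ≫ R'.y i) = c _ (𝟙 _ ≫ ν) (fun i => y ≫ R'.y i) :=
      hbbc (𝟙 _) _ e3
    rw [e4, e5, Category.assoc, hν, sub_self]
  obtain ⟨V', g', hg', ⟨v', hv'⟩, H⟩ := exists_van_finite F ν₁ R'.π hR' _ hvan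
  refine ⟨V', g' ≫ g, ?_, ⟨v', ?_⟩, resF g' b, ?_, ?_⟩
  · rw [Over.comp_left]
    infer_instance
  · rw [Over.comp_left, Scheme.Hom.comp_apply, hv', ← Scheme.Hom.comp_apply, ← Over.comp_left, hν]
    rfl
  · have := hb.res g'
    rwa [← Category.assoc] at this
  · intro W a x hx
    have hx' : Compat p (g' ≫ g ≫ e) a x := by
      rwa [Category.assoc] at hx
    have hx2 : Compat p (g ≫ e) (a ≫ g') x := hx'.res
    have e1 : res F (R'.lift (a ≫ g') x hx2) (c' R'.Y R'.π R'.y) = 0 :=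
      H W (R'.lift (a ≫ g') x hx2) a (R'.lift_π _ _ _)
    have e2 : c' W (a ≫ g') x = res F (R'.lift (a ≫ g') x hx2) (c' R'.Y R'.π R'.y) :=
      (ofSec_eq R' c' hc' (a ≫ g') x hx2).symm.trans (ofSec_apply R' _ (a ≫ g') x hx2)
    rw [e1] at e2
    have e3 : c W ((a ≫ g') ≫ g) x - dS (b W (a ≫ g')) x = 0 := e2
    change dS (b W (a ≫ g')) x = c W (a ≫ g' ≫ g) x
    rw [← Category.assoc, sub_eq_zero.1 e3]

end Groth.Agent.Etrest.FppfCA
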