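import Mathlib.Algebra.Category.Grp.Basic
import Mathlib.Algebra.Category.Grp.Preadditive
import Mathlib.Algebra.Category.Grp.EpiMono
import Mathlib.Algebra.BigOperators.Fin
import Mathlib.Algebra.BigOperators.GroupWithZero.Action
import Mathlib.Algebra.Module.BigOperators
import Mathlib.CategoryTheory.Preadditive.Injective.Basic
import Mathlib.CategoryTheory.Limits.Shapes.Pullback.HasPullback
import Mathlib.CategoryTheory.MorphismProperty.Limits
import Mathlib.Tactic.Ring

/-!
# Elementwise Čech cochains of a presheaf of abelian groups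

`p : T' ⟶ T` a morphism, `e : U ⟶ T`, `P` a presheaf of abelian groups.  An `n`-cochain over `U` is a natural
family `c (W, a : W ⟶ U, x₀, …, xₙ : W ⟶ T') ∈ P W` (all `xᵢ` over `a ≫ e`), that is an element of
`P (U ×_T T' ×_T … ×_T T')` (`n + 1` factors).  We use total functions (`Fam`) and the predicates `Compat`, `IsCoch`,
`IsCocycle`, `IsCob`.

* `dS`, `dS_dS`, `dS_cons`: alternating sums.
* `exists_cob_of_section`: a cocycle is a coboundary if `p` has a section over `U`.
* `exists_cob_of_injective`: cocycles of injective presheaves are coboundaries.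
* `Rep`, `exists_rep`: representability of tuples.
-/

set_option autoImplicit false

universe w v u

open CategoryTheory CategoryTheory.Limits Opposite

namespace Groth.Agent.Etrest.FppfCoch

section SetLevel

variable {S A : Type*} [AddCommGroup A]

/-- Alternating sum of the values of `φ` on the faces of `x`. -/
def dS {n : ℕ} (φ : (Fin (n + 1) → S) → A) (x : Fin (n + 2) → S) : A :=
  ∑ i : Fin (n + 2), (-1 : ℤ) ^ (i : ℕ) • φ (fun k => x (i.succAbove k))

theorem val_add_val {n : ℕ} (i : Fin (n + 3)) (j : Fin (n + 2)) :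
    (-1 : ℤ) ^ ((i.succAbove j : Fin (n + 3)) : ℕ) * (-1 : ℤ) ^ ((j.predAbove i : Fin (n + 2)) : ℕ) =
      - ((-1 : ℤ) ^ (i : ℕ) * (-1 : ℤ) ^ (j : ℕ)) := by
  rw [← pow_add, ← pow_add]
  rcases lt_or_ge j.castSucc i with h | h
  · have h1 : ((i.succAbove j : Fin (n + 3)) : ℕ) = j := by
      rw [Fin.succAbove_of_castSucc_lt _ _ h]; rfl
    have h2 : ((j.predAbove i : Fin (n + 2)) : ℕ) = i - 1 := by
      rw [Fin.predAbove_of_castSucc_lt _ _ h]; rfl
    have h3 : (j : ℕ) < i := h
    rw [h1, h2, show (i : ℕ) + j = (j + (i - 1)) + 1 by omega, pow_succ, mul_neg_one, neg_neg]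
  · have h1 : ((i.succAbove j : Fin (n + 3)) : ℕ) = j + 1 := by
      rw [Fin.succAbove_of_le_castSucc _ _ h]; rfl
    have h2 : ((j.predAbove i : Fin (n + 2)) : ℕ) = i := by
      rw [Fin.predAbove_of_le_castSucc _ _ h]; rfl
    rw [h1, h2, show (j : ℕ) + 1 + i = (i + j) + 1 by omega, pow_succ, mul_neg_one]

theorem dS_dS {n : ℕ} (φ : (Fin (n + 1) → S) → A) (x : Fin (n + 3) → S) : dS (dS φ) x = 0 := by
  simp only [dS, Finset.smul_sum, smul_smul]
  rw [← Finset.sum_product']
  refine Finset.sum_involution (fun ij _ => (ij.1.succAbove ij.2, ij.2.predAbove ij.1)) ?_ ?_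
    (fun _ _ => Finset.mem_univ _) ?_
  · rintro ⟨i, j⟩ -
    have hx : (fun k => x ((i.succAbove j).succAbove ((j.predAbove i).succAbove k))) =
        fun k => x (i.succAbove (j.succAbove k)) := by
      funext k
      rw [Fin.succAbove_succAbove_succAbove_predAbove]
    dsimp only
    rw [hx, val_add_val, ← add_smul]
    simp
  · rintro ⟨i, j⟩ - - h
    have h1 : i.succAbove j = i := congrArg Prod.fst h
    exact Fin.succAbove_ne _ _ h1
  · rintro ⟨i, j⟩ -
    exact Prod.ext (Fin.succAbove_succAbove_predAbove i j) (Fin.predAbove_predAbove_succAbove i j)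

theorem dS_cons {n : ℕ} (φ : (Fin (n + 2) → S) → A) (s : S) (x : Fin (n + 2) → S) :
    dS φ (Fin.cons s x : Fin (n + 3) → S) = φ x - dS (fun y => φ (Fin.cons s y : Fin (n + 2) → S)) x := by
  rw [dS, Fin.sum_univ_succ]
  have h0 : (fun k => (Fin.cons s x : Fin (n + 3) → S) ((0 : Fin (n + 3)).succAbove k)) = x := by
    funext k
    rw [Fin.succAbove_zero, Fin.cons_succ]
  rw [h0, Fin.val_zero, pow_zero, one_smul, sub_eq_add_neg, dS, ← Finset.sum_neg_distrib]
  congr 1
  refine Finset.sum_congr rfl fun i _ => ?_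
  have h1 : (fun k => (Fin.cons s x : Fin (n + 3) → S) (i.succ.succAbove k)) =
      (Fin.cons s (fun k => x (i.succAbove k)) : Fin (n + 2) → S) := by
    funext k
    refine Fin.cases ?_ (fun k => ?_) k
    · rw [Fin.succ_succAbove_zero, Fin.cons_zero, Fin.cons_zero]
    · rw [Fin.succ_succAbove_succ, Fin.cons_succ, Fin.cons_succ]
  rw [h1, Fin.val_succ, pow_succ, mul_neg_one, neg_smul]

theorem dS_sub {n : ℕ} (φ ψ : (Fin (n + 1) → S) → A) (x : Fin (n + 2) → S) :
    dS (fun y => φ y - ψ y) x = dS φ x - dS ψ x := by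
  simp only [dS, smul_sub, Finset.sum_sub_distrib]

theorem map_dS {B : Type*} [AddCommGroup B] (f : A →+ B) {n : ℕ} (φ : (Fin (n + 1) → S) → A)
    (x : Fin (n + 2) → S) : f (dS φ x) = dS (fun y => f (φ y)) x := by
  simp only [dS, map_sum, map_zsmul]

theorem dS_comp {S' : Type*} (g : S' → S) {n : ℕ} (φ : (Fin (n + 1) → S) → A) (x : Fin (n + 2) → S') :
    dS φ (fun i => g (x i)) = dS (fun y => φ (fun i => g (y i))) x := rfl

theorem dS_congr {n : ℕ} {φ ψ : (Fin (n + 1) → S) → A} {x : Fin (n + 2) → S}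
    (h : ∀ i : Fin (n + 2), φ (fun k => x (i.succAbove k)) = ψ (fun k => x (i.succAbove k))) : dS φ x = dS ψ x :=
  Finset.sum_congr rfl fun i _ => by rw [h i]

theorem dS_zero_eq {A : Type*} [AddCommGroup A] (φ : (Fin 1 → S) → A) (x : Fin 2 → S) :
    dS φ x = φ (fun _ => x 1) - φ (fun _ => x 0) := by
  have h1 : (fun k => x ((0 : Fin 2).succAbove k)) = fun _ => x 1 := by
    funext k
    rw [Subsingleton.elim k 0]
    rfl
  have h2 : (fun k => x ((1 : Fin 2).succAbove k)) = fun _ => x 0 := by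
    funext k
    rw [Subsingleton.elim k 0]
    rfl
  rw [dS, Fin.sum_univ_two, h1, h2, Fin.val_zero, Fin.val_one, pow_zero, pow_one, one_smul, neg_smul, one_smul,
    sub_eq_add_neg]

end SetLevel

section Cochains

variable {C : Type u} [Category.{v} C] (P Q : Cᵒᵖ ⥤ AddCommGrpCat.{w}) {T' T U : C} (p : T' ⟶ T) (e : U ⟶ T)

/-- Families of elements of `P`. -/
abbrev Fam (U T' : C) (n : ℕ) : Type _ :=
  ∀ (W : C) (_ : W ⟶ U) (_ : Fin (n + 1) → (W ⟶ T')), P.obj (op W)

/-- All the `x i` lie over `a`. -/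
def Compat {W : C} (a : W ⟶ U) {n : ℕ} (x : Fin n → (W ⟶ T')) : Prop := ∀ i, x i ≫ p = a ≫ e

variable {p e} in
theorem Compat.comp {W W' : C} (f : W' ⟶ W) {a : W ⟶ U} {n : ℕ} {x : Fin n → (W ⟶ T')}
    (h : Compat p e a x) : Compat p e (f ≫ a) (fun i => f ≫ x i) := fun i => by
  rw [Category.assoc, h i, Category.assoc]

variable {p e} in
theorem Compat.face {W : C} {a : W ⟶ U} {n : ℕ} {x : Fin (n + 1) → (W ⟶ T')}
    (h : Compat p e a x) (i : Fin (n + 1)) : Compat p e a (fun k => x (i.succAbove k)) := fun _ => h _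

variable {p e} in
theorem Compat.res {U' : C} {g : U' ⟶ U} {W : C} {a : W ⟶ U'} {n : ℕ} {x : Fin n → (W ⟶ T')}
    (h : Compat p (g ≫ e) a x) : Compat p e (a ≫ g) x := fun i => by rw [h i, Category.assoc]

variable {p e} in
theorem Compat.cons {W : C} {a : W ⟶ U} {n : ℕ} {x : Fin n → (W ⟶ T')}
    (h : Compat p e a x) {s : W ⟶ T'} (hs : s ≫ p = a ≫ e) :
    Compat p e a (Fin.cons s x : Fin (n + 1) → (W ⟶ T')) := fun i => by
  refine Fin.cases ?_ (fun k => ?_) i
  · exact hs
  · exact h k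

variable {P Q}

/-- Naturality. -/
def IsCoch {n : ℕ} (c : Fam P U T' n) : Prop :=
  ∀ ⦃W W' : C⦄ (f : W' ⟶ W) (a : W ⟶ U) (x : Fin (n + 1) → (W ⟶ T')), Compat p e a x →
    P.map f.op (c W a x) = c W' (f ≫ a) (fun i => f ≫ x i)

/-- Cocycle condition. -/
def IsCocycle {n : ℕ} (c : Fam P U T' n) : Prop :=
  ∀ ⦃W : C⦄ (a : W ⟶ U) (x : Fin (n + 2) → (W ⟶ T')), Compat p e a x → dS (c W a) x = 0

/-- `d b = c`. -/
def IsCob {n : ℕ} (b : Fam P U T' n) (c : Fam P U T' (n + 1)) : Prop :=
  ∀ ⦃W : C⦄ (a : W ⟶ U) (x : Fin (n + 2) → (W ⟶ T')), Compat p e a x → dS (b W a) x = c W a x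

/-- The differential. -/
def dF {n : ℕ} (c : Fam P U T' n) : Fam P U T' (n + 1) := fun W a x => dS (c W a) x

/-- Restriction. -/
def resF {U' : C} (g : U' ⟶ U) {n : ℕ} (c : Fam P U T' n) : Fam P U' T' n := fun W a x => c W (a ≫ g) x

/-- Functoriality. -/
def mapF (α : P ⟶ Q) {n : ℕ} (c : Fam P U T' n) : Fam Q U T' n := fun W a x => α.app (op W) (c W a x)

/-- Difference. -/
def subF {n : ℕ} (c c' : Fam P U T' n) : Fam P U T' n := fun W a x => c W a x - c' W a x

variable {p e}

theorem IsCoch.dF {n : ℕ} {c : Fam P U T' n} (hc : IsCoch p e c) : IsCoch p e (dF c) := fun W W' f a x hx => by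
  rw [FppfCoch.dF, FppfCoch.dF]
  refine (map_dS (P.map f.op).hom (c W a) x).trans ?_
  exact (dS_congr fun i => hc f a _ (hx.face i)).trans
    (dS_comp (fun g : W ⟶ T' => f ≫ g) (c W' (f ≫ a)) x).symm

theorem IsCoch.res {U' : C} (g : U' ⟶ U) {n : ℕ} {c : Fam P U T' n} (hc : IsCoch p e c) :
    IsCoch p (g ≫ e) (resF g c) := fun W W' f a x hx => by
  rw [resF, resF, hc f (a ≫ g) x hx.res, Category.assoc]

theorem IsCocycle.res {U' : C} (g : U' ⟶ U) {n : ℕ} {c : Fam P U T' n} (hc : IsCocycle p e c) :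
    IsCocycle p (g ≫ e) (resF g c) := fun _ a x hx => hc (a ≫ g) x hx.res

theorem IsCob.res {U' : C} (g : U' ⟶ U) {n : ℕ} {b : Fam P U T' n} {c : Fam P U T' (n + 1)} (hc : IsCob p e b c) :
    IsCob p (g ≫ e) (resF g b) (resF g c) := fun _ a x hx => hc (a ≫ g) x hx.res

theorem IsCoch.map (α : P ⟶ Q) {n : ℕ} {c : Fam P U T' n} (hc : IsCoch p e c) :
    IsCoch p e (mapF α c) := fun W W' f a x hx => by
  have h := ConcreteCategory.congr_hom (α.naturality f.op) (c W a x)
  rw [ConcreteCategory.comp_apply, ConcreteCategory.comp_apply] at h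
  rw [mapF, mapF, ← h, hc f a x hx]

theorem dS_mapF (α : P ⟶ Q) {n : ℕ} (c : Fam P U T' n) (W : C) (a : W ⟶ U) (x : Fin (n + 2) → (W ⟶ T')) :
    dS (mapF α c W a) x = α.app (op W) (dS (c W a) x) :=
  (map_dS (α.app (op W)).hom (c W a) x).symm

theorem IsCocycle.map (α : P ⟶ Q) {n : ℕ} {c : Fam P U T' n} (hc : IsCocycle p e c) :
    IsCocycle p e (mapF α c) := fun W a x hx => by
  rw [dS_mapF, hc a x hx, map_zero]

theorem IsCob.map (α : P ⟶ Q) {n : ℕ} {b : Fam P U T' n} {c : Fam P U T' (n + 1)} (hc : IsCob p e b c) :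
    IsCob p e (mapF α b) (mapF α c) := fun W a x hx => by
  rw [dS_mapF, hc a x hx, mapF]

theorem IsCoch.sub {n : ℕ} {c c' : Fam P U T' n} (hc : IsCoch p e c) (hc' : IsCoch p e c') :
    IsCoch p e (subF c c') := fun W W' f a x hx => by
  rw [subF, subF, map_sub, hc f a x hx, hc' f a x hx]

theorem dS_subF {n : ℕ} (c c' : Fam P U T' n) (W : C) (a : W ⟶ U) (x : Fin (n + 2) → (W ⟶ T')) :
    dS (subF c c' W a) x = dS (c W a) x - dS (c' W a) x := dS_sub _ _ _

/-- If `p` has a section over `U` every cocycle of positive degree is a coboundary. -/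
theorem exists_cob_of_section (s : U ⟶ T') (hs : s ≫ p = e) {n : ℕ} (c : Fam P U T' (n + 1)) (hc : IsCoch p e c)
    (hz : IsCocycle p e c) : ∃ b : Fam P U T' n, IsCoch p e b ∧ IsCob p e b c := by
  have hs' : ∀ ⦃W : C⦄ (a : W ⟶ U), (a ≫ s) ≫ p = a ≫ e := fun W a => by rw [Category.assoc, hs]
  refine ⟨fun W a x => c W a (Fin.cons (a ≫ s) x : Fin (n + 2) → (W ⟶ T')), ?_, ?_⟩
  · intro W W' f a x hx
    dsimp only
    rw [hc f a _ (hx.cons (hs' a))]
    congr 1
    funext i
    refine Fin.cases ?_ (fun k => ?_) i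
    · simp only [Fin.cons_zero, Category.assoc]
    · simp only [Fin.cons_succ]
  · intro W a x hx
    have h := dS_cons (c W a) (a ≫ s) x
    rw [hz a _ (hx.cons (hs' a))] at h
    exact (sub_eq_zero.1 h.symm).symm

end Cochains

section Injective

variable {C : Type (u + 1)} [Category.{u} C] (P : Cᵒᵖ ⥤ AddCommGrpCat.{u + 1})

/-- The cofree presheaf: `V ↦ ∏ (W, φ : W ⟶ V), P W`. -/
def cofree : Cᵒᵖ ⥤ AddCommGrpCat.{u + 1} where
  obj V := AddCommGrpCat.of (∀ (W : C) (_ : W ⟶ V.unop), P.obj (op W))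
  map f := AddCommGrpCat.ofHom
    { toFun := fun s W φ => s W (φ ≫ f.unop)
      map_zero' := rfl
      map_add' := fun _ _ => rfl }
  map_id V := by
    ext s W φ
    exact congrArg (s W) (Category.comp_id φ)
  map_comp f g := by
    ext s W φ
    exact congrArg (s W) (Category.assoc φ g.unop f.unop).symm

/-- The embedding in the cofree presheaf. -/
def toCofree : P ⟶ cofree P where
  app V := AddCommGrpCat.ofHom
    { toFun := fun s W φ => P.map φ.op s
      map_zero' := by
        funext W φ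
        exact map_zero _
      map_add' := fun s t => by
        funext W φ
        exact map_add _ _ _ }
  naturality V V' f := by
    ext s
    funext W φ
    change P.map φ.op (P.map f s) = P.map (φ ≫ f.unop).op s
    rw [op_comp, P.map_comp]
    rfl

instance mono_toCofree : Mono (toCofree P) := by
  have : ∀ V, Mono ((toCofree P).app V) := fun V => by
    rw [AddCommGrpCat.mono_iff_injective]
    intro s t h
    have h1 := congrFun (congrFun h V.unop) (𝟙 _)
    change P.map (𝟙 _) s = P.map (𝟙 _) t at h1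
    rw [P.map_id] at h1
    exact h1
  exact NatTrans.mono_of_mono_app _

variable {P} {T' T U : C} {p : T' ⟶ T} {e : U ⟶ T}

open Classical in
/-- A chosen point over `a`. -/
noncomputable def sel (p : T' ⟶ T) (e : U ⟶ T) {W : C} (a : W ⟶ U) (dflt : W ⟶ T') : W ⟶ T' :=
  if h : ∃ s : W ⟶ T', s ≫ p = a ≫ e then h.choose else dflt

theorem sel_comp {W : C} (a : W ⟶ U) (dflt : W ⟶ T') (h : ∃ s : W ⟶ T', s ≫ p = a ≫ e) :
    sel p e a dflt ≫ p = a ≫ e := by
  rw [sel, dif_pos h]
  exact h.choose_spec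

theorem sel_eq {W : C} (a : W ⟶ U) (dflt dflt' : W ⟶ T') (h : ∃ s : W ⟶ T', s ≫ p = a ≫ e) :
    sel p e a dflt = sel p e a dflt' := by
  rw [sel, sel, dif_pos h, dif_pos h]

/-- Cocycles of positive degree of an injective presheaf are coboundaries. -/
theorem exists_cob_of_injective [Injective P] {n : ℕ} (c : Fam P U T' (n + 1)) (hc : IsCoch p e c)
    (hz : IsCocycle p e c) : ∃ b : Fam P U T' n, IsCoch p e b ∧ IsCob p e b c := by
  let r : cofree P ⟶ P := Injective.factorThru (𝟙 P) (toCofree P)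
  have hr : toCofree P ≫ r = 𝟙 P := Injective.comp_factorThru _ _
  let b' : Fam (cofree P) U T' n := fun V v y =>
    (show (∀ (W : C) (_ : W ⟶ V), P.obj (op W)) from fun W φ =>
      c W (φ ≫ v) (Fin.cons (sel p e (φ ≫ v) (φ ≫ y 0)) (fun i => φ ≫ y i) : Fin (n + 2) → (W ⟶ T')))
  have hb' : IsCoch p e b' := by
    intro V V' f v y hy
    change (fun W φ => c W ((φ ≫ f) ≫ v) (Fin.cons (sel p e ((φ ≫ f) ≫ v) ((φ ≫ f) ≫ y 0))
      (fun i => (φ ≫ f) ≫ y i) : Fin (n + 2) → (W ⟶ T'))) = (fun W φ => c W (φ ≫ f ≫ v)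
        (Fin.cons (sel p e (φ ≫ f ≫ v) (φ ≫ f ≫ y 0)) (fun i => φ ≫ f ≫ y i) : Fin (n + 2) → (W ⟶ T')))
    funext W φ
    simp only [Category.assoc]
  have hcob : IsCob p e b' (mapF (toCofree P) c) := by
    intro V v x hx
    have key : ∀ (W : C) (φ : W ⟶ V), (show (∀ (W : C) (_ : W ⟶ V), P.obj (op W)) from dS (b' V v) x) W φ =
        P.map φ.op (c V v x) := by
      intro W φ
      have hex : ∃ s : W ⟶ T', s ≫ p = (φ ≫ v) ≫ e := ⟨φ ≫ x 0, (hx.comp φ) 0⟩
      let ev : (∀ (W : C) (_ : W ⟶ V), P.obj (op W)) →+ P.obj (op W) :=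
        { toFun := fun s => s W φ
          map_zero' := rfl
          map_add' := fun _ _ => rfl }
      have h1 : (show (∀ (W : C) (_ : W ⟶ V), P.obj (op W)) from dS (b' V v) x) W φ =
          dS (fun y => ev (b' V v y)) x := map_dS ev (b' V v) x
      rw [h1]
      let s := sel p e (φ ≫ v) (φ ≫ x 0)
      have h2 : dS (fun y => ev (b' V v y)) x =
          dS (fun y => c W (φ ≫ v) (Fin.cons s y : Fin (n + 2) → (W ⟶ T'))) (fun i => φ ≫ x i) := by
        refine Eq.trans ?_ (dS_comp (fun g : V ⟶ T' => φ ≫ g)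
          (fun y => c W (φ ≫ v) (Fin.cons s y : Fin (n + 2) → (W ⟶ T'))) x).symm
        refine dS_congr fun i => ?_
        change c W (φ ≫ v) (Fin.cons (sel p e (φ ≫ v) (φ ≫ x (i.succAbove 0))) _ : Fin (n + 2) → (W ⟶ T')) = _
        rw [sel_eq (φ ≫ v) (φ ≫ x (i.succAbove 0)) (φ ≫ x 0) hex]
      have h3 := dS_cons (c W (φ ≫ v)) s (fun i => φ ≫ x i)
      rw [hz (φ ≫ v) _ ((hx.comp φ).cons (sel_comp _ _ hex))] at h3
      rw [h2, hc φ v x hx]
      exact (sub_eq_zero.1 h3.symm).symm
    funext W φ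
    exact key W φ
  refine ⟨mapF r b', hb'.map r, ?_⟩
  intro W a x hx
  rw [hcob.map r a x hx]
  change (toCofree P ≫ r).app (op W) (c W a x) = _
  rw [hr]
  rfl

end Injective

section Rep

variable {C : Type u} [Category.{v} C] {T' T U : C}

/-- An object representing tuples `(a, x₀, …, xₙ)`. -/
structure Rep (p : T' ⟶ T) (e : U ⟶ T) (n : ℕ) where
  /-- the object -/
  Y : C
  /-- the projection -/
  π : Y ⟶ U
  /-- the coordinates -/
  y : Fin (n + 1) → (Y ⟶ T')
  compat : Compat p e π y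
  /-- lifts -/
  lift : ∀ {W : C} (a : W ⟶ U) (x : Fin (n + 1) → (W ⟶ T')), Compat p e a x → (W ⟶ Y)
  lift_π : ∀ {W : C} (a : W ⟶ U) (x : Fin (n + 1) → (W ⟶ T')) (h : Compat p e a x), lift a x h ≫ π = a
  lift_y : ∀ {W : C} (a : W ⟶ U) (x : Fin (n + 1) → (W ⟶ T')) (h : Compat p e a x) (i : Fin (n + 1)),
    lift a x h ≫ y i = x i
  hom_ext : ∀ {W : C} (f g : W ⟶ Y), f ≫ π = g ≫ π → (∀ i, f ≫ y i = g ≫ y i) → f = g

/-- Existence of representing objects. -/
theorem exists_rep [HasPullbacks C] (Φ : MorphismProperty C) [Φ.IsStableUnderBaseChange]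
    [Φ.IsStableUnderComposition] (p : T' ⟶ T) (e : U ⟶ T) (hp : Φ p) (n : ℕ) :
    ∃ R : Rep p e n, Φ R.π := by
  induction n with
  | zero =>
    refine ⟨{ Y := pullback e p
              π := pullback.fst e p
              y := fun _ => pullback.snd e p
              compat := fun _ => pullback.condition.symm
              lift := fun a x h => pullback.lift a (x 0) (h 0).symm
              lift_π := fun a x h => pullback.lift_fst _ _ _
              lift_y := fun a x h i => by rw [Fin.fin_one_eq_zero i, pullback.lift_snd]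
              hom_ext := fun f g h1 h2 => pullback.hom_ext h1 (h2 0) }, ?_⟩
    exact MorphismProperty.pullback_fst _ _ hp
  | succ n ih =>
    obtain ⟨R, hR⟩ := ih
    refine ⟨{ Y := pullback (R.π ≫ e) p
              π := pullback.fst (R.π ≫ e) p ≫ R.π
              y := (Fin.cons (pullback.snd (R.π ≫ e) p) (fun i => pullback.fst (R.π ≫ e) p ≫ R.y i) :
                Fin (n + 2) → (pullback (R.π ≫ e) p ⟶ T'))
              compat := (R.compat.comp (pullback.fst (R.π ≫ e) p)).cons (by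
                rw [← pullback.condition, Category.assoc])
              lift := fun a x h => pullback.lift (R.lift a (fun i => x i.succ) (fun i => h i.succ)) (x 0) (by
                rw [← Category.assoc, R.lift_π, h 0])
              lift_π := fun a x h => by rw [← Category.assoc, pullback.lift_fst, R.lift_π]
              lift_y := fun a x h i => by
                refine Fin.cases ?_ (fun k => ?_) i
                · rw [Fin.cons_zero, pullback.lift_snd]
                · rw [Fin.cons_succ, ← Category.assoc, pullback.lift_fst, R.lift_y]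
              hom_ext := fun f g h1 h2 => by
                refine pullback.hom_ext (R.hom_ext _ _ ?_ fun i => ?_) (h2 0)
                · simpa only [Category.assoc] using h1
                · simpa only [Category.assoc, Fin.cons_succ] using h2 i.succ }, ?_⟩
    exact Φ.comp_mem _ _ (MorphismProperty.pullback_fst _ _ hp) hR

variable {p : T' ⟶ T} {e : U ⟶ T} {P Q : Cᵒᵖ ⥤ AddCommGrpCat.{w}}

open Classical in
/-- The cochain given by a section over the representing object, restricted along `g : U₁ ⟶ U`; more generally by a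
section over an object `Z` with `Z ⟶ Y` and `Z ⟶ U₁` cartesian. -/
noncomputable def ofSec {n : ℕ} (R : Rep p e n) (s : P.obj (op R.Y)) : Fam P U T' n := fun W a x =>
  if h : Compat p e a x then P.map (R.lift a x h).op s else 0

theorem ofSec_apply {n : ℕ} (R : Rep p e n) (s : P.obj (op R.Y)) {W : C} (a : W ⟶ U)
    (x : Fin (n + 1) → (W ⟶ T')) (h : Compat p e a x) : ofSec R s W a x = P.map (R.lift a x h).op s := by
  rw [ofSec, dif_pos h]

theorem isCoch_ofSec {n : ℕ} (R : Rep p e n) (s : P.obj (op R.Y)) : IsCoch p e (ofSec R s) := by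
  intro W W' f a x hx
  rw [ofSec_apply _ _ _ _ hx, ofSec_apply _ _ _ _ (hx.comp f)]
  have : R.lift (f ≫ a) (fun i => f ≫ x i) (hx.comp f) = f ≫ R.lift a x hx := by
    apply R.hom_ext
    · rw [R.lift_π, Category.assoc, R.lift_π]
    · intro i
      rw [R.lift_y, Category.assoc, R.lift_y]
  rw [this, op_comp, P.map_comp]
  rfl

theorem ofSec_eq {n : ℕ} (R : Rep p e n) (c : Fam P U T' n) (hc : IsCoch p e c) {W : C} (a : W ⟶ U)
    (x : Fin (n + 1) → (W ⟶ T')) (h : Compat p e a x) : ofSec R (c R.Y R.π R.y) W a x = c W a x := by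
  rw [ofSec_apply _ _ _ _ h, hc _ _ _ R.compat, R.lift_π]
  congr 1
  funext i
  rw [R.lift_y]

/-- Base change of a representing object. -/
noncomputable def Rep.baseChange {n : ℕ} (R : Rep p e n) {U₁ : C} (g : U₁ ⟶ U) {Z : C} (q : Z ⟶ R.Y) (π₁ : Z ⟶ U₁)
    (h : IsPullback q π₁ R.π g) : Rep p (g ≫ e) n where
  Y := Z
  π := π₁
  y i := q ≫ R.y i
  compat i := by
    rw [Category.assoc, R.compat i, ← Category.assoc, h.w, Category.assoc]
  lift a x hx := h.lift (R.lift (a ≫ g) x hx.res) a (R.lift_π _ _ _)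
  lift_π a x hx := h.lift_snd _ _ _
  lift_y a x hx i := by rw [← Category.assoc, h.lift_fst, R.lift_y]
  hom_ext f f' h1 h2 := by
    refine h.hom_ext (R.hom_ext _ _ ?_ fun i => ?_) h1
    · rw [Category.assoc, Category.assoc, h.w, ← Category.assoc, ← Category.assoc, h1]
    · rw [Category.assoc, Category.assoc, h2 i]

end Rep

end Groth.Agent.Etrest.FppfCoch
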