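import Groth.Agent.Etrest.LqfLocal

/-!
# Pointed étale-local lifting for finite morphisms
-/

set_option autoImplicit false
universe u

open CategoryTheory CategoryTheory.Limits AlgebraicGeometry

namespace Groth.Agent.Etrest.FppfPL

/-- Common refinement of finitely many pointed étale neighbourhoods. -/
theorem exists_refinement {U : Scheme.{u}} {Ω : Type u} [Field Ω] (η : Spec (.of Ω) ⟶ U) {ι : Type u} [Finite ι]
    (V : ι → Scheme.{u}) (g : ∀ i, V i ⟶ U) (hg : ∀ i, Etale (g i)) (v : ∀ i, Spec (.of Ω) ⟶ V i)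
    (hv : ∀ i, v i ≫ g i = η) :
    ∃ (V₀ : Scheme.{u}) (g₀ : V₀ ⟶ U) (_ : Etale g₀) (v₀ : Spec (.of Ω) ⟶ V₀) (h : ∀ i, V₀ ⟶ V i),
      v₀ ≫ g₀ = η ∧ (∀ i, h i ≫ g i = g₀) ∧ ∀ i, v₀ ≫ h i = v i := by
  have H : ∀ T : Set ι, T.Finite → ∃ (V₀ : Scheme.{u}) (g₀ : V₀ ⟶ U) (_ : Etale g₀) (v₀ : Spec (.of Ω) ⟶ V₀),
      v₀ ≫ g₀ = η ∧ ∀ i ∈ T, ∃ h : V₀ ⟶ V i, h ≫ g i = g₀ ∧ v₀ ≫ h = v i := by
    intro T hT
    induction T, hT using Set.Finite.induction_on with
    | empty => exact ⟨U, 𝟙 U, inferInstance, η, Category.comp_id _, by simp⟩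
    | @insert i T hi hT ih =>
      obtain ⟨V₀, g₀, _, v₀, hv₀, H⟩ := ih
      have := hg i
      refine ⟨pullback g₀ (g i), pullback.fst g₀ (g i) ≫ g₀, inferInstance,
        pullback.lift v₀ (v i) (hv₀.trans (hv i).symm), ?_, ?_⟩
      · rw [pullback.lift_fst_assoc, hv₀]
      · intro k hk
        rcases Set.mem_insert_iff.1 hk with rfl | hk
        · exact ⟨pullback.snd _ _, pullback.condition.symm, pullback.lift_snd _ _ _⟩
        · obtain ⟨h, hh, hvh⟩ := H k hk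
          exact ⟨pullback.fst _ _ ≫ h, by rw [Category.assoc, hh], by rw [pullback.lift_fst_assoc, hvh]⟩
  obtain ⟨V₀, g₀, hg₀, v₀, hv₀, H⟩ := H Set.univ Set.finite_univ
  choose h hh hvh using fun i => H i (Set.mem_univ i)
  exact ⟨V₀, g₀, hg₀, v₀, h, hv₀, hh, hvh⟩

/-- Let `f : Y → U` be finite, `η` a geometric point of `U` and `p : W → Y` étale with a chosen lift of every
geometric point of `Y` above `η`.  After an étale base change `(U₁, η₁) → (U, η)` there is a `Y`-morphism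
`Y ×_U U₁ → W` compatible with the chosen points. -/
theorem exists_pointed_lift {Y U W : Scheme.{u}} (f : Y ⟶ U) [IsFinite f] (p : W ⟶ Y) [Etale p]
    {Ω : Type u} [Field Ω] [IsAlgClosed Ω] (η : Spec (.of Ω) ⟶ U)
    (w : ∀ y : Spec (.of Ω) ⟶ Y, y ≫ f = η → (Spec (.of Ω) ⟶ W)) (hw : ∀ y hy, w y hy ≫ p = y) :
    ∃ (U₁ : Scheme.{u}) (g : U₁ ⟶ U) (_ : Etale g) (η₁ : Spec (.of Ω) ⟶ U₁) (hη : η₁ ≫ g = η)
      (τ : pullback f g ⟶ W), τ ≫ p = pullback.fst f g ∧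
        ∀ (y : Spec (.of Ω) ⟶ Y) (hy : y ≫ f = η), pullback.lift y η₁ (hy.trans hη.symm) ≫ τ = w y hy := by
  let ι : Type u := {y : Spec (CommRingCat.of Ω) ⟶ Y // y ≫ f = η}
  have : Finite ι := LqfPts.finite_fac f η
  -- the pieces
  have H1 : ∀ y : ι, _ := fun y => LqfLocal.exists_clopen_piece f p (w y.1 y.2)
  choose V' g' hg' v' A j r a hv' hj1 hj2 hj3 hr har haj huniq using H1
  obtain ⟨V, g, hg, v, h, hv, hh, hvh⟩ := exists_refinement η V' g' hg' v' (fun y => by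
    rw [hv' y, ← Category.assoc, hw, y.2])
  -- maps from a base change
  let m : ∀ (V₁ : Scheme.{u}) (k : V₁ ⟶ V) (y : ι), pullback f (k ≫ g) ⟶ pullback (g' y) f := fun V₁ k y =>
    pullback.lift (pullback.snd _ _ ≫ k ≫ h y) (pullback.fst _ _) (by
      rw [Category.assoc, Category.assoc, hh, pullback.condition])
  let S : ∀ (V₁ : Scheme.{u}) (k : V₁ ⟶ V) (y : ι), Set ↥(pullback f (k ≫ g)) := fun V₁ k y =>
    (m V₁ k y) ⁻¹' Set.range (j y)
  have hScl : ∀ (V₁ : Scheme.{u}) (k : V₁ ⟶ V) (y : ι), IsClopen (S V₁ k y) := fun V₁ k y => by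
    have := hj1 y
    have := hj2 y
    exact IsClopen.preimage ⟨(j y).isClosedEmbedding.isClosed_range, (j y).isOpenEmbedding.isOpen_range⟩
      (m V₁ k y).continuous
  -- geometric points of the pieces
  have hpt : ∀ (V₁ : Scheme.{u}) (k : V₁ ⟶ V) (v₁ : Spec (.of Ω) ⟶ V₁) (_ : v₁ ≫ k = v) (y : ι)
      (l : Spec (.of Ω) ⟶ pullback f (k ≫ g)) (_ : l ≫ pullback.snd _ _ = v₁) (_ : l ≫ pullback.fst _ _ = y.1),
      a y ≫ j y = l ≫ m V₁ k y := by
    intro V₁ k v₁ hv₁ y l hl1 hl2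
    apply pullback.hom_ext
    · rw [Category.assoc, haj, Category.assoc]
      simp only [m, pullback.lift_fst]
      rw [← Category.assoc, hl1, ← Category.assoc, hv₁, hvh]
    · rw [Category.assoc, ← hr, ← Category.assoc, har, hw, Category.assoc]
      simp only [m, pullback.lift_snd]
      exact hl2.symm
  have huniq' : ∀ (V₁ : Scheme.{u}) (k : V₁ ⟶ V) (v₁ : Spec (.of Ω) ⟶ V₁) (_ : v₁ ≫ k = v) (y : ι)
      (l : Spec (.of Ω) ⟶ pullback f (k ≫ g)) (_ : l ≫ pullback.snd _ _ = v₁) (_ : l default ∈ S V₁ k y),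
      l ≫ pullback.fst _ _ = y.1 := by
    intro V₁ k v₁ hv₁ y l hl1 hl2
    have := hj1 y
    have hrange : Set.range (l ≫ m V₁ k y) ⊆ Set.range (j y) := by
      rintro _ ⟨z, rfl⟩
      rw [Subsingleton.elim z default]
      exact hl2
    let ζ := IsOpenImmersion.lift (j y) (l ≫ m V₁ k y) hrange
    have hζ : ζ ≫ j y = l ≫ m V₁ k y := IsOpenImmersion.lift_fac _ _ _
    have h1 : ζ = a y := by
      apply huniq
      rw [← Category.assoc, hζ, Category.assoc]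
      simp only [m, pullback.lift_fst]
      rw [← Category.assoc, hl1, ← Category.assoc, hv₁, hvh]
    have h2 : l ≫ pullback.fst _ _ = ζ ≫ j y ≫ pullback.snd _ _ := by
      rw [← Category.assoc, hζ, Category.assoc]
      simp only [m, pullback.lift_snd]
    rw [h2, h1, ← hr, ← Category.assoc, har, hw]
  -- the bad locus
  let C : Set ↥(pullback f (𝟙 V ≫ g)) := {z | ∃! y : ι, z ∈ S V (𝟙 V) y}ᶜ
  have hC : IsClosed C := by
    have : {z | ∃! y : ι, z ∈ S V (𝟙 V) y} =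
        ⋃ y : ι, (S V (𝟙 V) y ∩ ⋂ y' : ι, ⋂ (_ : y' ≠ y), (S V (𝟙 V) y')ᶜ) := by
      ext z
      simp only [Set.mem_ofPred_eq, Set.mem_iUnion, Set.mem_inter_iff, Set.mem_iInter, Set.mem_compl_iff]
      constructor
      · rintro ⟨y, hy, hy'⟩
        exact ⟨y, hy, fun y' hne h => hne (hy' y' h)⟩
      · rintro ⟨y, hy, hy'⟩
        exact ⟨y, hy, fun y' h => by_contra fun hne => hy' y' hne h⟩
    rw [isClosed_compl_iff, this]
    refine isOpen_iUnion fun y => (hScl _ _ _).isOpen.inter ?_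
    exact isOpen_iInter_of_finite fun y' => isOpen_iInter_of_finite fun _ =>
      (hScl _ _ y').isClosed.isOpen_compl
  have hv1 : v ≫ 𝟙 V = v := Category.comp_id v
  have hvC : v default ∉ pullback.snd f (𝟙 V ≫ g) '' C := by
    rintro ⟨c, hcC, hc⟩
    obtain ⟨l, hl, rfl⟩ := LqfPts.exists_fac (pullback.snd f (𝟙 V ≫ g)) v c hc
    apply hcC
    have hy : (l ≫ pullback.fst _ _) ≫ f = η := by
      rw [Category.assoc, pullback.condition, ← Category.assoc, hl, ← Category.assoc, hv1, hv]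
    refine ⟨⟨l ≫ pullback.fst _ _, hy⟩, ?_, ?_⟩
    · change m V (𝟙 V) _ (l default) ∈ Set.range (j _)
      refine ⟨a ⟨l ≫ pullback.fst _ _, hy⟩ default, ?_⟩
      rw [← Scheme.Hom.comp_apply, hpt V (𝟙 V) v hv1 ⟨l ≫ pullback.fst _ _, hy⟩ l hl rfl, Scheme.Hom.comp_apply]
    · intro y' hy'
      exact Subtype.ext (huniq' V (𝟙 V) v hv1 y' l hl hy').symm
  let V₁ : V.Opens := ⟨(pullback.snd f (𝟙 V ≫ g) '' C)ᶜ,
    ((pullback.snd f (𝟙 V ≫ g)).isClosedMap C hC).isOpen_compl⟩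
  obtain ⟨v₁, hv₁⟩ : ∃ v₁ : Spec (.of Ω) ⟶ V₁.toScheme, v₁ ≫ V₁.ι = v := by
    refine ⟨IsOpenImmersion.lift V₁.ι v ?_, IsOpenImmersion.lift_fac _ _ _⟩
    rintro _ ⟨z, rfl⟩
    rw [Subsingleton.elim z default, Scheme.Opens.range_ι]
    exact hvC
  let Z := pullback f (V₁.ι ≫ g)
  have hex : ∀ z : Z, ∃! y : ι, z ∈ S V₁ V₁.ι y := by
    intro z
    let φ : Z ⟶ pullback f (𝟙 V ≫ g) := pullback.lift (pullback.fst _ _) (pullback.snd _ _ ≫ V₁.ι) (by
      rw [pullback.condition, Category.assoc, Category.id_comp])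
    have hφ : ∀ y, φ ≫ m V (𝟙 V) y = m V₁ V₁.ι y := by
      intro y
      apply pullback.hom_ext
      · simp only [m, φ, Category.assoc, pullback.lift_fst, pullback.lift_snd_assoc, Category.id_comp]
      · simp only [m, φ, Category.assoc, pullback.lift_fst, pullback.lift_snd]
    have h1 : ∀ y, z ∈ S V₁ V₁.ι y ↔ φ z ∈ S V (𝟙 V) y := by
      intro y
      change m V₁ V₁.ι y z ∈ Set.range (j y) ↔ m V (𝟙 V) y (φ z) ∈ Set.range (j y)
      rw [← hφ, Scheme.Hom.comp_apply]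
    have h2 : φ z ∉ C := by
      intro hz
      have h3 : pullback.snd f (𝟙 V ≫ g) (φ z) = V₁.ι (pullback.snd f (V₁.ι ≫ g) z) := by
        rw [← Scheme.Hom.comp_apply, ← Scheme.Hom.comp_apply]
        simp only [φ, pullback.lift_snd]
      have h4 : V₁.ι (pullback.snd f (V₁.ι ≫ g) z) ∈ V₁ := (pullback.snd f (V₁.ι ≫ g) z).2
      exact h4 ⟨_, hz, h3⟩
    have h5 : ∃! y : ι, φ z ∈ S V (𝟙 V) y := by
      by_contra h6
      exact h2 h6
    obtain ⟨y, hy, hy'⟩ := h5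
    exact ⟨y, (h1 y).2 hy, fun y' h' => hy' y' ((h1 y').1 h')⟩
  -- the decomposition
  let B : ι → Scheme.{u} := fun y => pullback (j y) (m V₁ V₁.ι y)
  let b : ∀ y, B y ⟶ Z := fun y => pullback.snd _ _
  have hb : ∀ y, IsOpenImmersion (b y) := fun y => by
    have := hj1 y
    infer_instance
  have hrange : ∀ y z, z ∈ (b y).opensRange ↔ z ∈ S V₁ V₁.ι y := by
    intro y z
    have := hj1 y
    rw [Scheme.Hom.opensRange_pullbackSnd (j y) (m V₁ V₁.ι y)]
    rfl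
  obtain ⟨hcol⟩ := nonempty_isColimit_cofanMk_of b (by
    rw [eq_top_iff]
    intro z _
    obtain ⟨y, hy, -⟩ := hex z
    rw [TopologicalSpace.Opens.mem_iSup]
    exact ⟨y, (hrange y z).2 hy⟩) (by
    intro y y' hne
    rw [Function.onFun, disjoint_iff, eq_bot_iff]
    rintro z ⟨h1, h2⟩
    obtain ⟨y₀, -, h3⟩ := hex z
    exact hne ((h3 y ((hrange y z).1 h1)).trans (h3 y' ((hrange y' z).1 h2)).symm))
  let τ : Z ⟶ W := Cofan.IsColimit.desc hcol (fun y => pullback.fst _ _ ≫ r y)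
  have hτ : ∀ y, b y ≫ τ = pullback.fst _ _ ≫ r y := fun y => Cofan.IsColimit.fac hcol _ y
  refine ⟨V₁, V₁.ι ≫ g, inferInstance, v₁, ?_, τ, ?_, ?_⟩
  · rw [← Category.assoc, hv₁, hv]
  · apply Cofan.IsColimit.hom_ext hcol
    intro y
    change b y ≫ τ ≫ p = b y ≫ _
    rw [← Category.assoc, hτ, Category.assoc, hr]
    simp only [b]
    rw [← Category.assoc, pullback.condition, Category.assoc]
    simp only [m, pullback.lift_snd]
  · intro y hy
    have hl1 : pullback.lift (f := f) (g := V₁.ι ≫ g) y v₁ (by rw [hy, ← Category.assoc, hv₁, hv]) ≫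
      pullback.snd _ _ = v₁ := pullback.lift_snd _ _ _
    have h1 := hpt V₁ V₁.ι v₁ hv₁ ⟨y, hy⟩ _ hl1 (pullback.lift_fst _ _ _)
    have h2 : pullback.lift (f := f) (g := V₁.ι ≫ g) y v₁ (by rw [hy, ← Category.assoc, hv₁, hv]) =
      pullback.lift (a ⟨y, hy⟩) _ h1 ≫ b ⟨y, hy⟩ := (pullback.lift_snd _ _ _).symm
    rw [h2, Category.assoc, hτ, pullback.lift_fst_assoc, har]

end Groth.Agent.Etrest.FppfPL
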