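import Groth.Agent.Etrest.BigFppf
import Groth.Agent.Etrest.FppfCoch
import Groth.Agent.Etrest.FppfPL

/-!
# Étale localisation on the base of a finite morphism, in the big site

* `exists_coprod`, `exists_glue`: disjoint unions in `Over X` and gluing of sections.
* `exists_geomPt`: geometric points.
* `finLoc`: if a section over `Y` lifts étale-locally on `Y` and `Y ⟶ U` is finite, it lifts étale-locally on `U`.
-/

set_option autoImplicit false
universe u

open CategoryTheory CategoryTheory.Limits AlgebraicGeometry Opposite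

namespace Groth.Agent.Etrest.FppfLoc

open BigEtSite

variable {X : Scheme.{u}}

/-- Disjoint unions in `Over X`. -/
theorem exists_coprod {ι : Type u} (W : ι → Over X) :
    ∃ (Z : Over X) (j : ∀ i, W i ⟶ Z), (∀ i, IsOpenImmersion (j i).left) ∧
      (∀ z : Z.left, ∃ (i : ι) (w : (W i).left), (j i).left w = z) ∧
      (∀ (i i' : ι) (V : Over X) (a : V ⟶ W i) (b : V ⟶ W i'), a ≫ j i = b ≫ j i' → i ≠ i' → IsEmpty V.left) ∧
      (∀ (Y : Over X) (f : ∀ i, W i ⟶ Y), ∃ g : Z ⟶ Y, (∀ i, j i ≫ g = f i) ∧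
        ((∀ i, Etale (f i).left) → Etale g.left)) := by
  refine ⟨Over.mk (Sigma.desc (fun i => (W i).hom)), fun i => Over.homMk (Sigma.ι (fun i => (W i).left) i)
    (by simp), fun i => ?_, fun z => ?_, ?_, ?_⟩
  · change IsOpenImmersion (Sigma.ι (fun i => (W i).left) i)
    infer_instance
  · obtain ⟨i, w, hw⟩ := (sigmaOpenCover (fun i => (W i).left)).exists_eq z
    exact ⟨i, w, hw⟩
  · intro i i' V a b hab hne
    exact isEmpty_of_commSq_sigmaι_of_ne ⟨congrArg (fun k => k.left) hab⟩ hne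
  · intro Y f
    refine ⟨Over.homMk (Sigma.desc (fun i => (f i).left)) ?_, fun i => ?_, fun h => ?_⟩
    · dsimp
      apply Sigma.hom_ext
      intro i
      simp
    · ext
      dsimp
      simp
    · exact IsZariskiLocalAtSource.sigmaDesc (P := @Etale) h

/-- The underlying presheaf of types of a sheaf is a sheaf. -/
theorem isSheaf_ty {P : (Over X)ᵒᵖ ⥤ AddCommGrpCat.{u + 1}} {K : GrothendieckTopology (Over X)}
    (hP : Presheaf.IsSheaf K P) : Presieve.IsSheaf K (P ⋙ forget AddCommGrpCat.{u + 1}) :=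
  (isSheaf_iff_isSheaf_of_type _ _).1 (Presheaf.isSheaf_comp_of_isSheaf K P (forget AddCommGrpCat.{u + 1}) hP)

/-- Gluing of sections on disjoint unions. -/
theorem exists_glue {P : (Over X)ᵒᵖ ⥤ AddCommGrpCat.{u + 1}} (hP : Presheaf.IsSheaf (JE X) P)
    {ι : Type u} {W : ι → Over X} {Z : Over X} (j : ∀ i, W i ⟶ Z) (h1 : ∀ i, IsOpenImmersion (j i).left)
    (h2 : ∀ z : Z.left, ∃ (i : ι) (w : (W i).left), (j i).left w = z)
    (h3 : ∀ (i i' : ι) (V : Over X) (a : V ⟶ W i) (b : V ⟶ W i'), a ≫ j i = b ≫ j i' → i ≠ i' → IsEmpty V.left)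
    (s : ∀ i, P.obj (op (W i))) : ∃ t : P.obj (op Z), ∀ i, P.map (j i).op t = s i := by
  have hty := isSheaf_ty hP
  have hcov : Sieve.ofArrows W j ∈ JE X Z := by
    rw [mem_JE_iff]
    intro z
    obtain ⟨i, w, hw⟩ := h2 z
    have := h1 i
    exact ⟨W i, j i, Sieve.ofArrows_mk _ _ i, inferInstance, ⟨w, hw⟩⟩
  have hsh := hty _ hcov
  rw [Sieve.ofArrows, ← Presieve.isSheafFor_iff_generate, Presieve.isSheafFor_arrows_iff] at hsh
  obtain ⟨t, ht, -⟩ := hsh s (fun i i' V a b hab => by
    by_cases hii : i = i'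
    · subst hii
      have hm : Mono (j i) := by
        have := h1 i
        have : Mono (j i).left := inferInstance
        exact (Over.forget X).mono_of_mono_map this
      rw [cancel_mono] at hab
      rw [hab]
    · have hV := h3 i i' V a b hab hii
      have hbot : (⊥ : Sieve V) ∈ JE X V := by
        rw [mem_JE_iff]
        intro x
        exact hV.elim x
      exact ((hty.isSeparated _ hbot).ext (fun Y f hf => hf.elim)))
  exact ⟨t, ht⟩

/-- Sections which agree étale-locally are equal. -/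
theorem eq_of_local {P : (Over X)ᵒᵖ ⥤ AddCommGrpCat.{u + 1}} (hP : Presheaf.IsSheaf (JE X) P) {T : Over X}
    (s s' : P.obj (op T))
    (H : ∀ x : T.left, ∃ (T' : Over X) (g : T' ⟶ T), Etale g.left ∧ x ∈ Set.range g.left ∧
      P.map g.op s = P.map g.op s') : s = s' := by
  let R : Sieve T :=
    { arrows := fun T' g => P.map g.op s = P.map g.op s'
      downward_closed := by
        intro T' T'' g hg f
        rw [op_comp, P.map_comp, ConcreteCategory.comp_apply, ConcreteCategory.comp_apply, hg] }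
  have hR : R ∈ JE X T := by
    rw [mem_JE_iff]
    intro x
    obtain ⟨T', g, h1, h2, h3⟩ := H x
    exact ⟨T', g, h3, h1, h2⟩
  exact ((isSheaf_ty hP).isSeparated _ hR).ext (fun T' g hg => hg)

/-- Existence of geometric points. -/
theorem exists_geomPt (S : Scheme.{u}) (x : S) : ∃ (Ω : Type u) (_ : Field Ω) (_ : IsAlgClosed Ω)
    (η : Spec (CommRingCat.of Ω) ⟶ S), η default = x := by
  refine ⟨AlgebraicClosure (S.residueField x), inferInstance, inferInstance,
    (Scheme.SpecToEquivOfField (AlgebraicClosure (S.residueField x)) S).symm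
      ⟨x, CommRingCat.ofHom (algebraMap (S.residueField x) _)⟩, ?_⟩
  simp [Scheme.SpecToEquivOfField]

/-- Lifting of sections, étale-locally on the base of a finite morphism. -/
theorem finLoc {P Q : (Over X)ᵒᵖ ⥤ AddCommGrpCat.{u + 1}} (hP : Presheaf.IsSheaf (JE X) P)
    (hQ : Presheaf.IsSheaf (JE X) Q) (α : P ⟶ Q) {Y U : Over X} (f : Y ⟶ U) (hf : IsFinite f.left)
    (q : Q.obj (op Y))
    (hq : ∀ y : Y.left, ∃ (W : Over X) (g : W ⟶ Y), Etale g.left ∧ y ∈ Set.range g.left ∧
      ∃ s : P.obj (op W), α.app (op W) s = Q.map g.op q) (u : U.left) :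
    ∃ (V : Over X) (g : V ⟶ U), Etale g.left ∧ u ∈ Set.range g.left ∧
      ∃ (Z : Over X) (a : Z ⟶ Y) (b : Z ⟶ V), IsPullback a b f g ∧
        ∃ s : P.obj (op Z), α.app (op Z) s = Q.map a.op q := by
  obtain ⟨Ω, _, _, η, rfl⟩ := exists_geomPt U.left u
  -- choose local lifts at all geometric points above `η`
  let ι : Type u := {y : Spec (CommRingCat.of Ω) ⟶ Y.left // y ≫ f.left = η}
  have H : ∀ y : ι, ∃ (W : Over X) (g : W ⟶ Y) (w : Spec (CommRingCat.of Ω) ⟶ W.left) (s : P.obj (op W)),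
      Etale g.left ∧ w ≫ g.left = y.1 ∧ α.app (op W) s = Q.map g.op q := by
    intro y
    obtain ⟨W, g, hg, ⟨z, hz⟩, s, hs⟩ := hq (y.1 default)
    obtain ⟨w, hw, -⟩ := Scheme.exists_fac_of_etale_of_isSepClosed g.left y.1 z hz
    exact ⟨W, g, w, s, hg, hw, hs⟩
  choose W g w s hg hw hs using H
  obtain ⟨Z, j, h1, h2, h3, h4⟩ := exists_coprod W
  obtain ⟨k, hk, hke⟩ := h4 Y g
  have hke := hke hg
  obtain ⟨t, ht⟩ := exists_glue hP j h1 h2 h3 s
  have hαt : α.app (op Z) t = Q.map k.op q := by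
    apply eq_of_local hQ
    intro z
    obtain ⟨i, z', hz'⟩ := h2 z
    have := h1 i
    refine ⟨W i, j i, inferInstance, ⟨z', hz'⟩, ?_⟩
    have e1 := ConcreteCategory.congr_hom (α.naturality (j i).op) t
    rw [ConcreteCategory.comp_apply, ConcreteCategory.comp_apply] at e1
    rw [← e1, ht i, hs i, ← ConcreteCategory.comp_apply, ← Q.map_comp, ← op_comp, hk i]
  obtain ⟨U₁, g₁, hg₁, η₁, hη₁, τ, hτ, -⟩ := FppfPL.exists_pointed_lift f.left k.left η
    (fun y hy => w ⟨y, hy⟩ ≫ (j ⟨y, hy⟩).left) (fun y hy => by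
      rw [Category.assoc, ← Over.comp_left, hk, hw])
  let V : Over X := Over.mk (g₁ ≫ U.hom)
  let g' : V ⟶ U := Over.homMk g₁ rfl
  let Z' : Over X := Over.mk (pullback.fst f.left g₁ ≫ Y.hom)
  let a : Z' ⟶ Y := Over.homMk (pullback.fst f.left g₁) rfl
  let b : Z' ⟶ V := Over.homMk (pullback.snd f.left g₁) (by
    dsimp [V, Z']
    rw [← Category.assoc, ← pullback.condition, Category.assoc, Over.w f])
  have hpb : IsPullback a b f g' := by
    have h0 : IsPullback ((Over.forget X).map a) ((Over.forget X).map b) ((Over.forget X).map f)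
        ((Over.forget X).map g') := IsPullback.of_hasPullback f.left g₁
    exact IsPullback.of_map (Over.forget X) (by ext; exact pullback.condition) h0
  let τ' : Z' ⟶ Z := Over.homMk τ (by
    dsimp [Z']
    rw [← Over.w k, ← Category.assoc, hτ])
  have hτ' : τ' ≫ k = a := by
    ext
    exact hτ
  refine ⟨V, g', hg₁, ⟨η₁ default, ?_⟩, Z', a, b, hpb, P.map τ'.op t, ?_⟩
  · rw [← hη₁]
    rfl
  · have e1 := ConcreteCategory.congr_hom (α.naturality τ'.op) t
    rw [ConcreteCategory.comp_apply, ConcreteCategory.comp_apply] at e1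
    rw [e1, hαt, ← ConcreteCategory.comp_apply, ← Q.map_comp, ← op_comp, hτ']

end Groth.Agent.Etrest.FppfLoc
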