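import Groth.Agent.Etrest.FppfLoc
import Groth.Agent.Etrest.RAcyc
import Groth.Agent.S1379

/-!
# Étale-local Čech acyclicity and vanishing of higher direct images from fppf to étale

`CA G`: étale-locally, the positive degree Čech cocycles of `G` for finite locally free surjective morphisms are
coboundaries.  If `0 → G → I → Q → 0` is exact in fppf sheaves on `Over X`, `I` injective and `CA G`, then `I → Q` is
étale-locally surjective (`locSurj`) and `CA Q` (`ca_quotient`).
-/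

set_option autoImplicit false
universe u

open CategoryTheory CategoryTheory.Limits AlgebraicGeometry Opposite

namespace Groth.Agent.Etrest.FppfMain

open BigEtSite FppfCoch FppfLoc

variable {X : Scheme.{u}}

/-- finite locally free surjective morphisms -/
structure FLF {T' T : Over X} (p : T' ⟶ T) : Prop where
  fin : IsFinite p.left
  flat : Flat p.left
  lfp : LocallyOfFinitePresentation p.left
  surj : Surjective p.left

theorem FLF.of_isPullback {T' T U' U : Over X} {p : T' ⟶ T} (hp : FLF p) {a : U' ⟶ T'} {b : U' ⟶ U} {g : U ⟶ T}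
    (h : IsPullback a b p g) : FLF b := by
  have h0 : IsPullback a.left b.left p.left g.left := h.map (Over.forget X)
  have h1 := hp.fin
  have h2 := hp.flat
  have h3 := hp.lfp
  have h4 := hp.surj
  exact ⟨MorphismProperty.of_isPullback (P := @IsFinite) h0 h1, MorphismProperty.of_isPullback (P := @Flat) h0 h2,
    MorphismProperty.of_isPullback (P := @LocallyOfFinitePresentation) h0 h3,
    MorphismProperty.of_isPullback (P := @Surjective) h0 h4⟩

/-- Étale-local Čech acyclicity. -/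
def CA (G : (Over X)ᵒᵖ ⥤ AddCommGrpCat.{u + 1}) : Prop :=
  ∀ ⦃T T' U : Over X⦄ (p : T' ⟶ T) (e : U ⟶ T), FLF p → ∀ (n : ℕ) (c : Fam G U T' (n + 1)), IsCoch p e c →
    IsCocycle p e c → ∀ u : U.left, ∃ (V : Over X) (g : V ⟶ U), Etale g.left ∧ u ∈ Set.range g.left ∧
      ∃ b : Fam G V T' n, IsCoch p (g ≫ e) b ∧ IsCob p (g ≫ e) b (resF g c)

/-- Étale-local surjectivity. -/
def LocSurj {P Q : (Over X)ᵒᵖ ⥤ AddCommGrpCat.{u + 1}} (α : P ⟶ Q) : Prop :=
  ∀ (T : Over X) (q : Q.obj (op T)) (t : T.left), ∃ (V : Over X) (g : V ⟶ T), Etale g.left ∧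
    t ∈ Set.range g.left ∧ ∃ s : P.obj (op V), α.app (op V) s = Q.map g.op q

theorem cocycle_indep {P : (Over X)ᵒᵖ ⥤ AddCommGrpCat.{u + 1}} {T T' U : Over X} {p : T' ⟶ T} {e : U ⟶ T}
    {y : Fam P U T' 0} (hz : IsCocycle p e y) {W : Over X} (a : W ⟶ U) (x x' : W ⟶ T') (hx : x ≫ p = a ≫ e)
    (hx' : x' ≫ p = a ≫ e) : y W a (fun _ => x) = y W a (fun _ => x') := by
  have h := hz a (Fin.cons x' (fun _ => x) : Fin 2 → (W ⟶ T')) (by
    intro i
    refine Fin.cases ?_ (fun k => ?_) i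
    · exact hx'
    · exact hx)
  rw [dS_zero_eq] at h
  exact sub_eq_zero.1 h

/-- fppf descent of degree zero cocycles. -/
theorem descend {P : (Over X)ᵒᵖ ⥤ AddCommGrpCat.{u + 1}} (hP : Presheaf.IsSheaf (EtFppf.J X) P)
    {T T' U : Over X} {p : T' ⟶ T} {e : U ⟶ T} (hp : FLF p) {y : Fam P U T' 0} (hy : IsCoch p e y)
    (hz : IsCocycle p e y) :
    ∃ s : P.obj (op U), ∀ (W : Over X) (a : W ⟶ U) (x : W ⟶ T'), x ≫ p = a ≫ e →
      P.map a.op s = y W a (fun _ => x) := by
  let R : Sieve U :=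
    { arrows := fun W a => ∃ x : W ⟶ T', x ≫ p = a ≫ e
      downward_closed := by
        rintro W W' a ⟨x, hx⟩ f
        exact ⟨f ≫ x, by rw [Category.assoc, hx, Category.assoc]⟩ }
  have hR : R ∈ EtFppf.J X U := by
    rw [mem_J_iff]
    intro z
    obtain ⟨Z, a, b, hab, hpb, hZ⟩ := exists_pb e p
    have h2 := hp.flat
    have h3 := hp.lfp
    obtain ⟨t, ht⟩ := hp.surj.surj (e.left z)
    obtain ⟨w, hw, -⟩ := hZ z t ht.symm
    exact ⟨Z, a, ⟨b, hab.symm⟩, MorphismProperty.of_isPullback (P := @Flat) hpb.flip h2,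
      MorphismProperty.of_isPullback (P := @LocallyOfFinitePresentation) hpb.flip h3, ⟨w, hw⟩⟩
  let fam : Presieve.FamilyOfElements (P ⋙ forget AddCommGrpCat.{u + 1}) R.arrows :=
    fun W a ha => y W a (fun _ => ha.choose)
  have hcomp : fam.Compatible := by
    intro Y₁ Y₂ Z g₁ g₂ f₁ f₂ h₁ h₂ h
    have e1 : P.map g₁.op (y Y₁ f₁ (fun _ => h₁.choose)) = y Z (g₁ ≫ f₁) (fun _ => g₁ ≫ h₁.choose) :=
      hy g₁ f₁ _ (fun _ => h₁.choose_spec)
    have e2 : P.map g₂.op (y Y₂ f₂ (fun _ => h₂.choose)) = y Z (g₂ ≫ f₂) (fun _ => g₂ ≫ h₂.choose) :=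
      hy g₂ f₂ _ (fun _ => h₂.choose_spec)
    change P.map g₁.op (y Y₁ f₁ (fun _ => h₁.choose)) = P.map g₂.op (y Y₂ f₂ (fun _ => h₂.choose))
    rw [e1, e2, ← h]
    apply cocycle_indep hz
    · rw [Category.assoc, h₁.choose_spec, Category.assoc]
    · rw [Category.assoc, h₂.choose_spec, h, Category.assoc]
  obtain ⟨s, hs, -⟩ := (isSheaf_ty hP) R hR fam hcomp
  refine ⟨s, fun W a x hx => ?_⟩
  have ha : R a := ⟨x, hx⟩
  have h1 : P.map a.op s = y W a (fun _ => ha.choose) := hs a ha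
  rw [h1]
  exact cocycle_indep hz a _ _ ha.choose_spec hx

/-- Separatedness for finite locally free covers. -/
theorem eq_of_flf {P : (Over X)ᵒᵖ ⥤ AddCommGrpCat.{u + 1}} (hP : Presheaf.IsSheaf (EtFppf.J X) P)
    {T T' U : Over X} {p : T' ⟶ T} {e : U ⟶ T} (hp : FLF p) (s s' : P.obj (op U))
    (h : ∀ (W : Over X) (a : W ⟶ U) (x : W ⟶ T'), x ≫ p = a ≫ e → P.map a.op s = P.map a.op s') : s = s' := by
  let R : Sieve U :=
    { arrows := fun W a => ∃ x : W ⟶ T', x ≫ p = a ≫ e
      downward_closed := by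
        rintro W W' a ⟨x, hx⟩ f
        exact ⟨f ≫ x, by rw [Category.assoc, hx, Category.assoc]⟩ }
  have hR : R ∈ EtFppf.J X U := by
    rw [mem_J_iff]
    intro z
    obtain ⟨Z, a, b, hab, hpb, hZ⟩ := exists_pb e p
    have h2 := hp.flat
    have h3 := hp.lfp
    obtain ⟨t, ht⟩ := hp.surj.surj (e.left z)
    obtain ⟨w, hw, -⟩ := hZ z t ht.symm
    exact ⟨Z, a, ⟨b, hab.symm⟩, MorphismProperty.of_isPullback (P := @Flat) hpb.flip h2,
      MorphismProperty.of_isPullback (P := @LocallyOfFinitePresentation) hpb.flip h3, ⟨w, hw⟩⟩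
  exact ((isSheaf_ty hP).isSeparated _ hR).ext (fun W a ⟨x, hx⟩ => h W a x hx)

section Exact

variable {G I Q : (Over X)ᵒᵖ ⥤ AddCommGrpCat.{u + 1}} {ι : G ⟶ I} {π : I ⟶ Q}

/-- The presheaf-level consequences of exactness of `0 → G → I → Q` in sheaves. -/
structure LeftExact (ι : G ⟶ I) (π : I ⟶ Q) : Prop where
  inj : ∀ (W : Over X) (s : G.obj (op W)), ι.app (op W) s = 0 → s = 0
  comp : ∀ (W : Over X) (s : G.obj (op W)), π.app (op W) (ι.app (op W) s) = 0
  ex : ∀ (W : Over X) (s : I.obj (op W)), π.app (op W) s = 0 → ∃ t : G.obj (op W), ι.app (op W) t = s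

open Classical in
/-- The cochain of `G` with given image in `I`. -/
noncomputable def pull (ι : G ⟶ I) {U T' : Over X} {n : ℕ} (c : Fam I U T' n) : Fam G U T' n := fun W a x =>
  if h : ∃ t : G.obj (op W), ι.app (op W) t = c W a x then h.choose else 0

theorem pull_spec (h : LeftExact ι π) {U T' : Over X} {n : ℕ} (c : Fam I U T' n) {W : Over X} (a : W ⟶ U)
    (x : Fin (n + 1) → (W ⟶ T')) (h0 : π.app (op W) (c W a x) = 0) :
    ι.app (op W) (pull ι c W a x) = c W a x := by
  have hex := h.ex W _ h0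
  rw [pull, dif_pos hex]
  exact hex.choose_spec

theorem LeftExact.inj' (h : LeftExact ι π) {W : Over X} {s s' : G.obj (op W)}
    (e : ι.app (op W) s = ι.app (op W) s') : s = s' := by
  rw [← sub_eq_zero]
  apply h.inj
  rw [map_sub, e, sub_self]

/-- A cochain `ỹ` of `I` whose image in `Q` is a cocycle can be corrected étale-locally by a cochain of `G` to a
cocycle. -/
theorem correct (h : LeftExact ι π) (hG : CA G) {T T' U : Over X} {p : T' ⟶ T} {e : U ⟶ T} (hp : FLF p) {n : ℕ}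
    (y : Fam I U T' n) (hy : IsCoch p e y) (hz : IsCocycle p e (mapF π y)) (u : U.left) :
    ∃ (V : Over X) (g : V ⟶ U), Etale g.left ∧ u ∈ Set.range g.left ∧
      ∃ w : Fam I V T' n, IsCoch p (g ≫ e) w ∧ IsCocycle p (g ≫ e) w ∧
        ∀ (W : Over X) (a : W ⟶ V) (x : Fin (n + 1) → (W ⟶ T')),
          π.app (op W) (w W a x) = π.app (op W) (y W (a ≫ g) x) := by
  have h0 : ∀ {W : Over X} (a : W ⟶ U) (x : Fin (n + 2) → (W ⟶ T')), Compat p e a x →
      π.app (op W) (dF y W a x) = 0 := by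
    intro W a x hx
    rw [dF, ← dS_mapF]
    exact hz a x hx
  have hzc : IsCoch p e (pull ι (dF y)) := by
    intro W W' f a x hx
    apply h.inj'
    rw [pull_spec h (dF y) _ _ (h0 _ _ (hx.comp f)), ← hy.dF f a x hx, ← pull_spec h (dF y) _ _ (h0 a x hx)]
    have := ConcreteCategory.congr_hom (ι.naturality f.op) (pull ι (dF y) W a x)
    rw [ConcreteCategory.comp_apply, ConcreteCategory.comp_apply] at this
    exact this
  have hzz : IsCocycle p e (pull ι (dF y)) := by
    intro W a x hx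
    apply h.inj
    rw [← dS_mapF]
    have : dS (mapF ι (pull ι (dF y)) W a) x = dS (dF y W a) x :=
      dS_congr fun i => pull_spec h (dF y) a _ (h0 a _ (hx.face i))
    rw [this]
    exact dS_dS _ _
  obtain ⟨V, g, hg, hu, b, hb, hbc⟩ := hG p e hp n _ hzc hzz u
  refine ⟨V, g, hg, hu, subF (resF g y) (mapF ι b), (hy.res g).sub (hb.map ι), ?_, ?_⟩
  · intro W a x hx
    rw [dS_subF, dS_mapF, hbc a x hx]
    have : ι.app (op W) (resF g (pull ι (dF y)) W a x) = dF y W (a ≫ g) x :=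
      pull_spec h (dF y) (a ≫ g) x (h0 _ _ hx.res)
    rw [this]
    exact sub_self _
  · intro W a x
    change π.app (op W) (y W (a ≫ g) x - ι.app (op W) (b W a x)) = _
    rw [map_sub, h.comp, sub_zero]

theorem map_map_apply {C : Type*} [Category* C] (P : Cᵒᵖ ⥤ AddCommGrpCat.{u}) {A B D : C} (f : A ⟶ B) (g : B ⟶ D)
    (s : P.obj (op D)) : P.map f.op (P.map g.op s) = P.map (f ≫ g).op s := by
  rw [op_comp, P.map_comp, ConcreteCategory.comp_apply]

instance isStableUnderBaseChange_fin :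
    (MorphismProperty.inverseImage @IsFinite (Over.forget X)).IsStableUnderBaseChange :=
  ⟨fun sq hg => MorphismProperty.of_isPullback (P := @IsFinite) (sq.map (Over.forget X)) hg⟩

/-- The quotient is étale-locally Čech acyclic. -/
theorem ca_quotient (h : LeftExact ι π) (hG : CA G) [Injective I] (hI : Presheaf.IsSheaf (JE X) I)
    (hQ : Presheaf.IsSheaf (JE X) Q) (hs : LocSurj π) : CA Q := by
  intro T T' U p e hp n c hc hz u
  obtain ⟨R, hR⟩ := exists_rep (MorphismProperty.inverseImage @IsFinite (Over.forget X)) p e hp.fin (n + 1)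
  obtain ⟨V, g, hg, hu, Z, a₀, b₀, hpb, s, hs⟩ := finLoc hI hQ π R.π hR (c R.Y R.π R.y) (hs R.Y _) u
  obtain ⟨u', rfl⟩ := hu
  let R' := R.baseChange g a₀ b₀ hpb
  let y : Fam I V T' (n + 1) := ofSec R' s
  have hy : IsCoch p (g ≫ e) y := isCoch_ofSec R' s
  have hπy : ∀ {W : Over X} (a : W ⟶ V) (x : Fin (n + 2) → (W ⟶ T')), Compat p (g ≫ e) a x →
      π.app (op W) (y W a x) = c W (a ≫ g) x := by
    intro W a x hx
    change π.app (op W) (ofSec R' s W a x) = _
    rw [ofSec_apply R' s a x hx]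
    have e1 := ConcreteCategory.congr_hom (π.naturality (R'.lift a x hx).op) s
    rw [ConcreteCategory.comp_apply, ConcreteCategory.comp_apply] at e1
    rw [e1]
    have e2 : Q.map (R'.lift a x hx).op (π.app (op Z) s) = Q.map (R'.lift a x hx ≫ a₀).op (c R.Y R.π R.y) := by
      rw [hs]
      exact map_map_apply Q (R'.lift a x hx) a₀ _
    have e3 : (R'.lift a x hx ≫ a₀) = R.lift (a ≫ g) x hx.res := hpb.lift_fst _ _ _
    refine e2.trans ?_
    rw [e3, ← ofSec_apply R (c R.Y R.π R.y) (a ≫ g) x hx.res, ofSec_eq R c hc _ _ hx.res]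
  have hzy : IsCocycle p (g ≫ e) (mapF π y) := by
    intro W a x hx
    have : dS (mapF π y W a) x = dS (c W (a ≫ g)) x := dS_congr fun i => hπy a _ (hx.face i)
    rw [this]
    exact hz _ _ hx.res
  obtain ⟨V₂, g₂, hg₂, hu₂, w, hw, hwz, hwπ⟩ := correct h hG hp y hy hzy u'
  obtain ⟨b, hb, hbc⟩ := exists_cob_of_injective w hw hwz
  obtain ⟨u₂, rfl⟩ := hu₂
  refine ⟨V₂, g₂ ≫ g, ?_, ⟨u₂, by rw [Over.comp_left]; rfl⟩, mapF π b, ?_, ?_⟩
  · rw [Over.comp_left]
    infer_instance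
  · have := hb.map π
    rwa [← Category.assoc] at this
  · have h5 := hbc.map π
    rw [← Category.assoc] at h5
    intro W a x hx
    rw [h5 a x hx]
    change π.app (op W) (w W a x) = c W (a ≫ g₂ ≫ g) x
    rw [hwπ]
    have hx' : Compat p (g₂ ≫ g ≫ e) a x := by
      rwa [Category.assoc] at hx
    rw [hπy (a ≫ g₂) x hx'.res, Category.assoc]

end Exact

end Groth.Agent.Etrest.FppfMain
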