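import Groth.Agent.Etrest.FppfMain

/-!
# Étale-local surjectivity
-/

set_option autoImplicit false
universe u

open CategoryTheory CategoryTheory.Limits AlgebraicGeometry Opposite

namespace Groth.Agent.Etrest.FppfMain

open BigEtSite FppfCoch FppfLoc

variable {X : Scheme.{u}}

theorem nat_apply {C : Type*} [Category* C] {P Q : Cᵒᵖ ⥤ AddCommGrpCat.{u}} (α : P ⟶ Q) {A B : C} (f : A ⟶ B)
    (s : P.obj (op B)) : α.app (op A) (P.map f.op s) = Q.map f.op (α.app (op B) s) := by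
  rw [← ConcreteCategory.comp_apply, α.naturality, ConcreteCategory.comp_apply]

theorem locSurj {G I Q : (Over X)ᵒᵖ ⥤ AddCommGrpCat.{u + 1}} {ι : G ⟶ I} {π : I ⟶ Q} (h : LeftExact ι π)
    (hG : CA G) (hI : Presheaf.IsSheaf (EtFppf.J X) I) (hQ : Presheaf.IsSheaf (EtFppf.J X) Q)
    (hπ : Presheaf.IsLocallySurjective (EtFppf.J X) π) : LocSurj π := by
  intro T q t
  have hsv := Presheaf.imageSieve_mem (EtFppf.J X) π q
  rw [mem_J_iff] at hsv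
  obtain ⟨Y, g, ⟨s, hs⟩, _, _, ⟨y, hy⟩⟩ := hsv t
  let T₀ : T.left.Opens := ⟨Set.range g.left, g.left.isOpenMap.isOpen_range⟩
  let g₀ := g.left ∣_ T₀
  have hg₀ : g₀ ≫ T₀.ι = (g.left ⁻¹ᵁ T₀).ι ≫ g.left := morphismRestrict_ι _ _
  have hsurj : Surjective g₀ := by
    refine ⟨fun z ↦ ?_⟩
    obtain ⟨z', hz'⟩ := z.2
    refine ⟨⟨z', ⟨z', rfl⟩⟩, Subtype.ext ?_⟩
    refine Eq.trans ?_ hz'
    have h3 : T₀.ι (g₀ ⟨z', ⟨z', rfl⟩⟩) = g.left ((g.left ⁻¹ᵁ T₀).ι ⟨z', ⟨z', rfl⟩⟩) := by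
      rw [← Scheme.Hom.comp_apply, ← Scheme.Hom.comp_apply, hg₀]
    exact h3
  obtain ⟨S', V, e, π', he, ⟨u, hu⟩, hπs, hπfin, hπfl, hπlfp, hloc⟩ :=
    S1379.result g₀ (⟨t, ⟨y, hy⟩⟩ : T₀)
  let So : Over X := Over.mk (e ≫ T₀.ι ≫ T.hom)
  let eo : So ⟶ T := Over.homMk (e ≫ T₀.ι) (by simp [So])
  let Vo : Over X := Over.mk (π' ≫ e ≫ T₀.ι ≫ T.hom)
  let πo : Vo ⟶ So := Over.homMk π' rfl
  have hFLF : FLF πo := ⟨hπfin, hπfl, hπlfp, hπs⟩
  let qV : Q.obj (op Vo) := Q.map (πo ≫ eo).op q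
  have hlocal : ∀ y : Vo.left, ∃ (W : Over X) (g : W ⟶ Vo), Etale g.left ∧ y ∈ Set.range g.left ∧
      ∃ s : I.obj (op W), π.app (op W) s = Q.map g.op qV := by
    intro v
    obtain ⟨W, r, hv, hr⟩ := hloc v
    have hr' : (r ≫ (g.left ⁻¹ᵁ T₀).ι) ≫ g.left = W.ι ≫ π' ≫ e ≫ T₀.ι := by
      rw [Category.assoc, ← hg₀, ← Category.assoc, hr]
      simp only [Category.assoc]
    let Wo : Over X := Over.mk (W.ι ≫ Vo.hom)
    let k : Wo ⟶ Vo := Over.homMk W.ι rfl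
    let l : Wo ⟶ Y := Over.homMk (r ≫ (g.left ⁻¹ᵁ T₀).ι) (by
      rw [← Over.w g, ← Category.assoc, hr']
      simp [Wo, Vo])
    have hkl : l ≫ g = k ≫ πo ≫ eo := by
      ext
      exact hr'
    have hk1 : Etale k.left := inferInstanceAs (Etale W.ι)
    refine ⟨Wo, k, hk1, ⟨(⟨v, hv⟩ : W), rfl⟩, I.map l.op s, ?_⟩
    rw [nat_apply, hs]
    change Q.map l.op (Q.map g.op q) = Q.map k.op (Q.map (πo ≫ eo).op q)
    rw [map_map_apply, map_map_apply, hkl]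
  have hI' : Presheaf.IsSheaf (JE X) I := fun E => Presieve.isSheaf_of_le _ (JE_le_J X) (hI E)
  have hQ' : Presheaf.IsSheaf (JE X) Q := fun E => Presieve.isSheaf_of_le _ (JE_le_J X) (hQ E)
  obtain ⟨S₂, g₂, hg₂, hu₂, Z, a, b, hpb, s₂, hs₂⟩ := finLoc hI' hQ' π πo hπfin qV hlocal u
  obtain ⟨u₂, hu₂⟩ := hu₂
  have hb : FLF b := hFLF.of_isPullback hpb
  let yy : Fam I S₂ Z 0 := fun W c x => I.map (x 0).op s₂
  have hyy : ∀ {W : Over X} (c : W ⟶ S₂) (x : W ⟶ Z), x ≫ b = c → π.app (op W) (I.map x.op s₂) =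
      Q.map (c ≫ g₂ ≫ eo).op q := by
    intro W c x hx
    rw [nat_apply, hs₂, map_map_apply, map_map_apply]
    congr 3
    rw [← hx, Category.assoc, Category.assoc, ← Category.assoc a, hpb.w, Category.assoc]
  have hyc : IsCoch b (𝟙 S₂) yy := by
    intro W W' f c x hx
    exact map_map_apply I f (x 0) s₂
  have hyz : IsCocycle b (𝟙 S₂) (mapF π yy) := by
    intro W c x hx
    rw [dS_zero_eq]
    change π.app (op W) (I.map (x 1).op s₂) - π.app (op W) (I.map (x 0).op s₂) = 0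
    have h1 := hx 1
    have h0 := hx 0
    rw [Category.comp_id] at h1 h0
    rw [hyy c (x 1) h1, hyy c (x 0) h0, sub_self]
  obtain ⟨V₃, g₃, hg₃, ⟨u₃, hu₃⟩, w, hw, hwz, hwπ⟩ := correct h hG hb yy hyc hyz u₂
  obtain ⟨s', hs'⟩ := descend hI hb hw hwz
  refine ⟨V₃, g₃ ≫ g₂ ≫ eo, ?_, ⟨u₃, ?_⟩, s', ?_⟩
  · have heo : Etale eo.left := inferInstanceAs (Etale (e ≫ T₀.ι))
    rw [Over.comp_left, Over.comp_left]
    infer_instance
  · rw [Over.comp_left, Over.comp_left, Scheme.Hom.comp_apply, Scheme.Hom.comp_apply, hu₃, hu₂]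
    change (e ≫ T₀.ι) u = t
    rw [Scheme.Hom.comp_apply, hu]
    rfl
  · refine eq_of_flf hQ hb (e := g₃ ≫ 𝟙 S₂) _ _ fun W c x hx => ?_
    rw [← nat_apply, hs' W c x hx, hwπ W c (fun _ => x)]
    change π.app (op W) (I.map x.op s₂) = _
    rw [Category.comp_id] at hx
    rw [hyy (c ≫ g₃) x hx, map_map_apply, Category.assoc]

end Groth.Agent.Etrest.FppfMain
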