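import Groth.Agent.Etrest.FppfMain2
import Groth.Agent.Etrest.FppfExact
import Mathlib.CategoryTheory.Sites.EpiMono

/-!
# Vanishing criterion for higher direct images from fppf to étale
-/

set_option autoImplicit false
universe w v u

open CategoryTheory CategoryTheory.Limits AlgebraicGeometry Opposite

namespace Groth.Agent.Etrest.FppfMain

open BigEtSite FppfCoch FppfLoc

variable {X : Scheme.{u}}

theorem leftExact_of_shortExact {S : ShortComplex (EtFppf.AbF X)} (hS : S.ShortExact) :
    LeftExact S.f.hom S.g.hom := by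
  have hm := hS.mono_f
  have key : ∀ W : Over X, Mono (S.f.hom.app (op W)) ∧
      (S.map (sheafToPresheaf _ _ ⋙ (evaluation _ _).obj (op W))).Exact := by
    intro W
    let Φ : EtFppf.AbF X ⥤ AddCommGrpCat.{u + 1} := sheafToPresheaf _ _ ⋙ (evaluation _ _).obj (op W)
    have h1 : PreservesFiniteLimits Φ := inferInstance
    have hm' : Mono (Φ.map S.f) := inferInstance
    exact ⟨hm', hS.exact.map_of_mono_of_preservesKernel Φ inferInstance inferInstance⟩
  refine ⟨fun W s hs => ?_, fun W s => ?_, fun W s hs => ?_⟩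
  · have := (AddCommGrpCat.mono_iff_injective _).1 (key W).1
    exact this (hs.trans (map_zero _).symm)
  · have h1 : S.f.hom ≫ S.g.hom = 0 := congrArg (fun k => k.hom) S.zero
    have h2 := ConcreteCategory.congr_hom (NatTrans.congr_app h1 (op W)) s
    exact h2
  · exact (ShortComplex.ab_exact_iff _).1 (key W).2 s hs

theorem injective_obj (I : EtFppf.AbF X) [Injective I] : Injective I.obj :=
  Injective.injective_of_adjoint (sheafificationAdjunction (EtFppf.J X) AddCommGrpCat.{u + 1}) I

theorem CA.of_iso {G G' : (Over X)ᵒᵖ ⥤ AddCommGrpCat.{u + 1}} (e : G ≅ G') (h : CA G) : CA G' := by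
  intro T T' U p k hp n c hc hz u
  obtain ⟨V, g, hg, hu, b, hb, hbc⟩ := h p k hp n (mapF e.inv c) (hc.map _) (hz.map _) u
  refine ⟨V, g, hg, hu, mapF e.hom b, hb.map _, ?_⟩
  have h1 := hbc.map e.hom
  have h2 : mapF e.hom (resF g (mapF e.inv c)) = resF g c := by
    funext W a x
    change e.hom.app (op W) (e.inv.app (op W) (c W (a ≫ g) x)) = c W (a ≫ g) x
    rw [← ConcreteCategory.comp_apply, ← NatTrans.comp_app, e.inv_hom_id]
    rfl
  rwa [h2] at h1

/-- The vanishing criterion. -/
theorem isZero_rightDerived_of_CA {D : Type w} [Category.{v} D] [Abelian D] (R : EtFppf.AbF X ⥤ D) [R.Additive]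
    [PreservesFiniteLimits R] (hR : ∀ {P Q : EtFppf.AbF X} (α : P ⟶ Q), LocSurj α.hom → Epi (R.map α))
    {G : EtFppf.AbF X} (hG : CA G.obj) (q : ℕ) (hq : 0 < q) : IsZero ((R.rightDerived q).obj G) := by
  refine RAcyc.isZero_rightDerived_of_class R (fun G => CA G.obj) ?_ hG q hq
  intro S hS hI hG
  have hL := leftExact_of_shortExact hS
  have hπ : Presheaf.IsLocallySurjective (EtFppf.J X) S.g.hom := by
    have := hS.epi_g
    exact (Sheaf.isLocallySurjective_iff_epi' (φ := S.g)).2 this
  have hs := locSurj hL hG S.X₂.property S.X₃.property hπ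
  have := injective_obj S.X₂
  exact ⟨ca_quotient hL hG (fun E => Presieve.isSheaf_of_le _ (JE_le_J X) (S.X₂.property E))
    (fun E => Presieve.isSheaf_of_le _ (JE_le_J X) (S.X₃.property E)) hs, hR _ hs⟩

theorem isLocallySurjective_whisker {Y : Scheme.{u}} (w : Y.Etale ⥤ Over X)
    [w.IsCocontinuous Y.smallEtaleTopology (JE X)] {P Q : (Over X)ᵒᵖ ⥤ AddCommGrpCat.{u + 1}} (α : P ⟶ Q)
    (h : LocSurj α) : Presheaf.IsLocallySurjective Y.smallEtaleTopology (Functor.whiskerLeft w.op α) := by
  refine ⟨fun {V} s => ?_⟩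
  have h1 : Presheaf.imageSieve α (U := w.obj V) s ∈ JE X (w.obj V) := by
    rw [mem_JE_iff]
    intro x
    obtain ⟨T, g, hg, hx, t, ht⟩ := h _ s x
    exact ⟨T, g, ⟨t, ht⟩, hg, hx⟩
  have h2 := w.cover_lift Y.smallEtaleTopology (JE X) h1
  exact h2

theorem epi_aPush [EtFppf.ACont X] {P Q : EtFppf.AbF X} (α : P ⟶ Q) (h : LocSurj α.hom) :
    Epi ((EtFppf.aPush X).map α) := by
  rw [← Sheaf.isLocallySurjective_iff_epi']
  exact isLocallySurjective_whisker (EtFppf.a X) α.hom h

theorem epi_uResF {T : Scheme.{u}} (t : T ⟶ X) {P Q : EtFppf.AbF X} (α : P ⟶ Q) (h : LocSurj α.hom) :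
    Epi ((BigFppf.uResF t).map α) := by
  rw [← Sheaf.isLocallySurjective_iff_epi']
  exact isLocallySurjective_whisker (uf t) α.hom h

end Groth.Agent.Etrest.FppfMain
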