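import Groth.Agent.Etrest.BigFppf
import Mathlib.CategoryTheory.Monad.Adjunction

/-!
# The unit `F ⟶ a_* a⁻¹ F` is an isomorphism
-/

set_option autoImplicit false
universe u

open CategoryTheory CategoryTheory.Limits AlgebraicGeometry Opposite

noncomputable section

namespace Groth.Agent.Etrest.FppfUnit

open BigEtSite BigFppf

variable (X : Scheme.{u})

/-- The first projection. -/
def fstId {U X : Scheme.{u}} (f : U ⟶ X) : pullback f (𝟙 X) ≅ U := asIso (pullback.fst f (𝟙 X))

set_option backward.isDefEq.respectTransparency.types false in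
/-- Base change along the identity. -/
def bcId : EtCoh.bc (𝟙 X) ≅ 𝟭 X.Etale :=
  NatIso.ofComponents (fun U =>
    MorphismProperty.Over.isoMk
    (fstId U.hom)
    (by
      change pullback.fst U.hom (𝟙 X) ≫ U.hom = pullback.snd U.hom (𝟙 X)
      rw [pullback.condition, Category.comp_id])) (by
    intro U V g
    apply MorphismProperty.Over.Hom.ext
    exact pullback.lift_fst _ _ _)

/-- Direct image along the identity. -/
def pushId : EtCoh.push (𝟙 X) ≅ 𝟭 (EtCoh.Ab X) :=
  Functor.sheafPushforwardContinuousId' (F'' := EtCoh.bc (𝟙 X)) (bcId X)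
    AddCommGrpCat.{u + 1} X.smallEtaleTopology

/-- Inverse image along the identity. -/
def pullId : EtCoh.pull (𝟙 X) ≅ 𝟭 (EtCoh.Ab X) :=
  Adjunction.leftAdjointUniq
    ((EtCoh.pullPushAdj (𝟙 X)).ofNatIsoRight (pushId X)) Adjunction.id

/-- `uf (𝟙 X)` is `a X`. -/
def ufId : uf (𝟙 X) ≅ EtFppf.a X :=
  (Functor.isoWhiskerLeft (EtFppf.a X) (Over.mapId X)).trans (Functor.rightUnitor _)

/-- Restriction along the identity. -/
def uResId : uRes (𝟙 X) ≅ aPushE X :=
  Functor.sheafPushforwardContinuousIso (ufId X) AddCommGrpCat.{u + 1} X.smallEtaleTopology (JE X)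

/-- Restriction along the identity. -/
def uResFId [EtFppf.ACont X] : uResF (𝟙 X) ≅ EtFppf.aPush X :=
  (Functor.isoWhiskerLeft (toE X) (uResId X)).trans
    (NatIso.ofComponents (fun _ => Iso.refl _) (fun φ => by
      simp only [Iso.refl_hom]
      rfl))

/-- `a_* a⁻¹ ≅ 𝟭`. -/
def aPullPushIso [EtFppf.ACont X] : EtFppf.aPull X ⋙ EtFppf.aPush X ≅ 𝟭 (EtCoh.Ab X) :=
  (Functor.isoWhiskerLeft (EtFppf.aPull X) (uResFId X)).symm.trans ((pullIsoF (𝟙 X)).trans (pullId X))

theorem isIso_unit [EtFppf.ACont X] : IsIso (EtFppf.aAdj X).unit :=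
  (EtFppf.aAdj X).isIso_unit_of_iso (aPullPushIso X)

theorem isIso_unit_app [EtFppf.ACont X] (F : EtCoh.Ab X) : IsIso ((EtFppf.aAdj X).unit.app F) := by
  have := isIso_unit X
  infer_instance

end Groth.Agent.Etrest.FppfUnit
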