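import Groth.Agent.Etrest.FppfCA
import Groth.Agent.Etrest.FppfUnit
import Groth.Agent.Etrest.BigRes

/-!
# Vanishing of the higher direct images from fppf to étale, over every `T / X`

For `t : T ⟶ X` and a sheaf `F` on the small étale site of `X`: `R^q (uResF t) (a⁻¹ F) = 0` for `q > 0`, where
`uResF t : AbF X ⥤ Ab T` is the restriction to the small étale site of `T`.
-/

set_option autoImplicit false
universe u

open CategoryTheory CategoryTheory.Limits AlgebraicGeometry Opposite

noncomputable section

namespace Groth.Agent.Etrest.FppfVan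

open BigEtSite BigFppf FppfMain FppfCA

variable {X T : Scheme.{u}} (t : T ⟶ X) [EtFppf.ACont X] (F : EtCoh.Ab X)

theorem ca_aPull : CA ((EtFppf.aPull X).obj F).obj :=
  (ca_aPullE F).of_iso ((sheafToPresheaf _ _).mapIso ((aPullIso X).app F)).symm

/-- `R^q (uResF t) (a⁻¹ F) = 0` for `q > 0`. -/
theorem isZero_rightDerived_uResF (q : ℕ) (hq : 0 < q) :
    IsZero (((uResF t).rightDerived q).obj ((EtFppf.aPull X).obj F)) :=
  isZero_rightDerived_of_CA (uResF t) (fun α h => epi_uResF t α h) (ca_aPull F) q hq

end Groth.Agent.Etrest.FppfVan
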