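import Groth.Agent.Etrest.LCHom

/-!
# Frames of sheaves of modules on the small pro-etale site

For a sheaf of modules `G` on the small pro-etale site and an object `Y`, a linear map `M → G(Y)` is the same as a
morphism from the sheaf of locally constant `M`-valued functions on the slice over `Y` to the restriction of `G`.
-/

set_option autoImplicit false
universe v₁ u₁ u
open CategoryTheory CategoryTheory.Limits Opposite AlgebraicGeometry

namespace Groth.Agent.Etrest.Frame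

open LCMod EpsLoc LCHom

variable {Λ : Type (u + 1)} [CommRing Λ] {X : Scheme.{u}} (G : EtModW.ModP Λ X)
  {M : Type (u + 1)} [AddCommGroup M] [Module Λ M]

variable (M) in
/-- The presheaf of linear maps from `M` to the sections of `G`. -/
abbrev secP : X.ProEtᵒᵖ ⥤ Type (u + 1) := G.obj ⋙ coyoneda.obj (op (ModuleCat.of Λ M))

theorem isSheaf_secP : Presieve.IsSheaf (Scheme.ProEt.topology X) (secP G M) := G.property _

/-- The morphism on the slice attached to a linear map to the sections. -/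
noncomputable def ev {Y : X.ProEt} (φ : ModuleCat.of Λ M ⟶ G.obj.obj (op Y)) :
    LCP Λ Y M ⟶ G.over Y :=
  (Equiv.ofBijective _ (((goodP X).over Y).bijective_app Λ M (G.over Y) Over.mkIdTerminal)).symm φ

theorem toLC_ev {Y : X.ProEt} (φ : ModuleCat.of Λ M ⟶ G.obj.obj (op Y)) :
    ((toLC Λ M (Over.forget Y ⋙ fP X)).app (op (Over.mk (𝟙 Y))) ≫
      (ev G φ).hom.app (op (Over.mk (𝟙 Y))) : ModuleCat.of Λ M ⟶ G.obj.obj (op Y)) = φ :=
  (Equiv.ofBijective _ (((goodP X).over Y).bijective_app Λ M (G.over Y)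
    Over.mkIdTerminal)).apply_symm_apply φ

theorem ev_unique {Y : X.ProEt} (Ψ : LCP Λ Y M ⟶ G.over Y) (φ : ModuleCat.of Λ M ⟶ G.obj.obj (op Y))
    (h : ((toLC Λ M (Over.forget Y ⋙ fP X)).app (op (Over.mk (𝟙 Y))) ≫
      Ψ.hom.app (op (Over.mk (𝟙 Y))) : ModuleCat.of Λ M ⟶ G.obj.obj (op Y)) = φ) : Ψ = ev G φ :=
  (((goodP X).over Y).bijective_app Λ M (G.over Y) Over.mkIdTerminal).1 (h.trans (toLC_ev G φ).symm)

/-- Restriction of `ev` along a morphism. -/
theorem ev_map {Y Y' : X.ProEt} (g : Y' ⟶ Y) (φ : ModuleCat.of Λ M ⟶ G.obj.obj (op Y)) :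
    ((Scheme.ProEt.topology X).overMapPullback (ModuleCat.{u + 1} Λ) g).map (ev G φ) =
      ev G (φ ≫ G.obj.map g.op) := by
  apply ev_unique
  have h1 := (toLC Λ M (Over.forget Y ⋙ fP X) ≫ (ev G φ).hom).naturality
    (Over.homMk g : Over.mk g ⟶ Over.mk (𝟙 Y)).op
  have h2 := toLC_ev G φ
  change (toLC Λ M (Over.forget Y ⋙ fP X)).app (op (Over.mk (𝟙 Y' ≫ g))) ≫
    (ev G φ).hom.app (op (Over.mk (𝟙 Y' ≫ g))) = _
  rw [Category.id_comp]
  refine Eq.trans ?_ (congrArg (· ≫ G.obj.map g.op) h2)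
  exact ((Category.id_comp _).symm.trans h1)

theorem ev_map_app {Y Y' : X.ProEt} (g : Y' ⟶ Y) (φ : ModuleCat.of Λ M ⟶ G.obj.obj (op Y))
    (Z : Over Y') : (ev G (φ ≫ G.obj.map g.op)).hom.app (op Z) =
      (ev G φ).hom.app (op ((Over.map g).obj Z)) := by
  rw [← ev_map]
  rfl

/-- Frames are stable under restriction. -/
theorem isIso_ev_map {Y Y' : X.ProEt} (g : Y' ⟶ Y) (φ : ModuleCat.of Λ M ⟶ G.obj.obj (op Y))
    (h : IsIso (ev G φ)) : IsIso (ev G (φ ≫ G.obj.map g.op)) := by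
  rw [← ev_map]
  exact Functor.map_isIso ((Scheme.ProEt.topology X).overMapPullback (ModuleCat.{u + 1} Λ) g) (ev G φ)

/-- Being a frame is local. -/
theorem isIso_ev_of_cover {Y : X.ProEt} (φ : ModuleCat.of Λ M ⟶ G.obj.obj (op Y)) {ι : Type*}
    (V : ι → X.ProEt) (f : ∀ i, V i ⟶ Y) (hV : Sieve.ofArrows V f ∈ Scheme.ProEt.topology X Y)
    (h : ∀ i, IsIso (ev G (φ ≫ G.obj.map (f i).op))) : IsIso (ev G φ) := by
  have h1 : IsIso ((sheafToPresheaf _ _).map (ev G φ)) := by
    rw [NatTrans.isIso_iff_isIso_app]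
    rintro ⟨W⟩
    refine LocSite.isIso_app_of_sieve (ev G φ)
      ((Sieve.overEquiv W).symm ((Sieve.ofArrows V f).pullback W.hom)) ?_ ?_
    · rw [GrothendieckTopology.mem_over_iff]
      simpa using (Scheme.ProEt.topology X).pullback_stable _ hV
    · intro W' g hg
      rw [Sieve.overEquiv_symm_iff] at hg
      obtain ⟨_, k, _, ⟨i⟩, hk⟩ := hg
      have h2 : IsIso ((sheafToPresheaf _ _).map (ev G (φ ≫ G.obj.map (f i).op))) := by
        have := h i
        infer_instance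
      rw [NatTrans.isIso_iff_isIso_app] at h2
      have h3 := h2 (op (Over.mk k))
      change IsIso ((ev G (φ ≫ G.obj.map (f i).op)).hom.app (op (Over.mk k))) at h3
      rw [ev_map_app] at h3
      have h4 : (Over.map (f i)).obj (Over.mk k) = W' := by
        have h5 : k ≫ f i = W'.hom := by rw [hk]; exact Over.w g
        change Over.mk (k ≫ f i) = W'
        rw [h5]
        rfl
      exact h4 ▸ h3
  exact isIso_of_reflects_iso _ (sheafToPresheaf _ _)

section Coord

variable {G} {N : Type (u + 1)} [AddCommGroup N] [Module Λ N] {S : X.ProEt} (e : G.over S ≅ LCP Λ S N)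

/-- The isomorphism of sections attached to a trivialization over `S` and a morphism `Y ⟶ S`. -/
noncomputable def secIso {Y : X.ProEt} (g : Y ⟶ S) :
    G.obj.obj (op Y) ≅ ModuleCat.of Λ (LocallyConstant Y.left N) :=
  ((sheafToPresheaf _ _).mapIso e).app (op (Over.mk g))

theorem secIso_naturality {Y Y' : X.ProEt} (g : Y ⟶ S) (g' : Y' ⟶ Y) :
    G.obj.map g'.op ≫ (secIso e (g' ≫ g)).hom =
      (secIso e g).hom ≫ ModuleCat.ofHom (LocallyConstant.comapₗ Λ g'.left.base.hom) :=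
  e.hom.hom.naturality (Over.homMk g' : Over.mk (g' ≫ g) ⟶ Over.mk g).op

variable [Module.Finite Λ M]

/-- The locally constant family of linear maps attached to a linear map to the sections. -/
noncomputable def coord {Y : X.ProEt} (g : Y ⟶ S) (φ : ModuleCat.of Λ M ⟶ G.obj.obj (op Y)) :
    LocallyConstant Y.left (M →ₗ[Λ] N) :=
  toLCHom (M := M) (N := N) (φ ≫ (secIso e g).hom).hom

theorem coord_injective {Y : X.ProEt} (g : Y ⟶ S) :
    Function.Injective (coord e g : (ModuleCat.of Λ M ⟶ G.obj.obj (op Y)) → _) := by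
  intro φ ψ h
  have h1 := congrArg ofLCHom h
  unfold coord at h1
  rw [ofLCHom_toLCHom, ofLCHom_toLCHom] at h1
  have h2 : φ ≫ (secIso e g).hom = ψ ≫ (secIso e g).hom := ModuleCat.hom_ext h1
  exact (cancel_mono _).1 h2

theorem coord_surjective {Y : X.ProEt} (g : Y ⟶ S) :
    Function.Surjective (coord e g : (ModuleCat.of Λ M ⟶ G.obj.obj (op Y)) → _) := by
  intro h
  refine ⟨ModuleCat.ofHom (ofLCHom h) ≫ (secIso e g).inv, ?_⟩
  unfold coord
  rw [Category.assoc, Iso.inv_hom_id, Category.comp_id]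
  exact toLCHom_ofLCHom h

theorem coord_map {Y Y' : X.ProEt} (g : Y ⟶ S) (g' : Y' ⟶ Y)
    (φ : ModuleCat.of Λ M ⟶ G.obj.obj (op Y)) (y : Y'.left) :
    coord e (g' ≫ g) (φ ≫ G.obj.map g'.op) y = coord e g φ (g'.left y) := by
  ext m
  unfold coord
  have h := secIso_naturality e g g'
  have h1 : (φ ≫ G.obj.map g'.op) ≫ (secIso e (g' ≫ g)).hom =
      (φ ≫ (secIso e g).hom) ≫ ModuleCat.ofHom (LocallyConstant.comapₗ Λ g'.left.base.hom) := by
    rw [Category.assoc, h, Category.assoc]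
  rw [h1]
  rfl

theorem ev_comp {Y : X.ProEt} (g : Y ⟶ S) (φ : ModuleCat.of Λ M ⟶ G.obj.obj (op Y)) :
    ev G φ ≫ ((Scheme.ProEt.topology X).overMapPullback (ModuleCat.{u + 1} Λ) g).map e.hom =
      evalMap ((goodP X).over Y) Over.mkIdTerminal (coord e g φ) := by
  refine (evalMap_surjective Λ ((goodP X).over Y) Over.mkIdTerminal _).trans ?_
  congr 1
  unfold coord
  congr 2
  have h1 := toLC_ev G φ
  refine Eq.trans ?_ (congrArg (· ≫ (secIso e g).hom) h1)
  change (toLC Λ M (Over.forget Y ⋙ fP X)).app (op (Over.mk (𝟙 Y))) ≫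
    (ev G φ).hom.app (op (Over.mk (𝟙 Y))) ≫ e.hom.hom.app (op (Over.mk (𝟙 Y ≫ g))) =
    ((toLC Λ M (Over.forget Y ⋙ fP X)).app (op (Over.mk (𝟙 Y))) ≫
      (ev G φ).hom.app (op (Over.mk (𝟙 Y)))) ≫ e.hom.hom.app (op (Over.mk g))
  rw [Category.id_comp]
  exact (Category.assoc _ _ _).symm

theorem isIso_ev_iff [Module.Finite Λ N] {Y : X.ProEt} (g : Y ⟶ S)
    (φ : ModuleCat.of Λ M ⟶ G.obj.obj (op Y)) :
    IsIso (ev G φ) ↔ ∀ y, Function.Bijective (coord e g φ y) := by
  refine Iff.trans ?_ (isIso_evalMap_iff Λ ((goodP X).over Y) Over.mkIdTerminal (coord e g φ))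
  rw [← ev_comp]
  have h1 : IsIso (((Scheme.ProEt.topology X).overMapPullback (ModuleCat.{u + 1} Λ) g).map e.hom) :=
    Functor.map_isIso _ _
  exact (@isIso_comp_right_iff _ _ _ _ _ (ev G φ) _ h1).symm

end Coord

end Groth.Agent.Etrest.Frame
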