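import Groth.Agent.Etrest.ProLim

/-!
# Frames of locally constant sheaves of modules descend to a finite stage of a cofiltered limit
-/

set_option autoImplicit false
universe w v₁ u₁ v₂ u₂ u
open CategoryTheory CategoryTheory.Limits Opposite AlgebraicGeometry

namespace Groth.Agent.Etrest.FrameLim

open LCMod EpsLoc LCHom Etrest.Frame ProLim

variable {Λ : Type (u + 1)} [CommRing Λ] {X : Scheme.{u}} (G : EtModW.ModP Λ X)
  (M : Type (u + 1)) [AddCommGroup M] [Module Λ M] [Module.Finite Λ M]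

variable {G} {N : Type (u + 1)} [AddCommGroup N] [Module Λ N] {S : X.ProEt} (e : G.over S ≅ LCP Λ S N)

include e in
/-- Continuity of the sheaf of frames over an object where the sheaf is constant. -/
theorem cts_secP : Cts (secP G M) S := by
  intro I _ _ D c hc p hp
  have haff : ∀ i, IsAffine ((D ⋙ fP X).obj i) := hc.aff
  obtain ⟨hl⟩ := hc.lim
  refine ⟨fun i a b hab => ?_, fun a => ?_⟩
  · obtain ⟨j, φ, hj⟩ := LCLim.lc_inj (D ⋙ fP X) ((fP X).mapCone c) hl (i := i)
      (coord e (p i) a) (coord e (p i) b) (by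
        intro x
        have h1 := coord_map e (p i) (c.π.app i) a x
        have h2 := coord_map e (p i) (c.π.app i) b x
        refine h1.symm.trans (Eq.trans ?_ h2)
        change coord e (c.π.app i ≫ p i) ((secP G M).map (c.π.app i).op a) x =
          coord e (c.π.app i ≫ p i) ((secP G M).map (c.π.app i).op b) x
        rw [hab])
    refine ⟨j, φ, coord_injective e (D.map φ ≫ p i) ?_⟩
    ext1 x
    have h1 := coord_map e (p i) (D.map φ) a x
    have h2 := coord_map e (p i) (D.map φ) b x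
    exact h1.trans ((hj x).trans h2.symm)
  · obtain ⟨i₀⟩ : Nonempty I := IsCofiltered.nonempty
    have hT' : ∃ pT : c.pt ⟶ S, ∀ i, c.π.app i ≫ p i = pT := by
      refine ⟨c.π.app i₀ ≫ p i₀, fun i => ?_⟩
      obtain ⟨k, a, b, -⟩ := IsCofilteredOrEmpty.cone_objs i₀ i
      rw [← c.w a, ← c.w b, Category.assoc, Category.assoc, hp, hp]
    obtain ⟨pT, hT⟩ := hT'
    obtain ⟨i, f, hf⟩ := LCLim.lc_surj (D ⋙ fP X) ((fP X).mapCone c) hl (coord e pT a)
    obtain ⟨b, hb⟩ := coord_surjective (M := M) e (p i) f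
    refine ⟨i, b, coord_injective e pT ?_⟩
    ext1 x
    have h1 := coord_map e (p i) (c.π.app i) b x
    rw [hT, hb] at h1
    exact h1.trans (hf x)

variable {M} in
/-- A frame over a cofiltered limit of affine objects comes from a frame at a finite stage. -/
theorem exists_frame {ι : Type*} [Finite ι] {T : X.ProEt} [IsAffine T.left] (S : ι → X.ProEt)
    [∀ j, IsAffine (S j).left] (f : ∀ j, S j ⟶ T)
    (hf : Sieve.ofArrows S f ∈ Scheme.ProEt.topology X T) (N : ι → Type (u + 1))
    [∀ j, AddCommGroup (N j)] [∀ j, Module Λ (N j)] [∀ j, Module.Finite Λ (N j)]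
    (e : ∀ j, G.over (S j) ≅ LCP Λ (S j) (N j))
    {I : Type u} [SmallCategory I] [IsCofiltered I] (D : I ⥤ X.ProEt) (c : Cone D) (hc : Adm D c)
    (p : ∀ i, D.obj i ⟶ T) (hp : ∀ i j (φ : i ⟶ j), D.map φ ≫ p j = p i)
    (a : ModuleCat.of Λ M ⟶ G.obj.obj (op c.pt)) (ha : IsIso (ev G a)) :
    ∃ (i : I) (b : ModuleCat.of Λ M ⟶ G.obj.obj (op (D.obj i))), IsIso (ev G b) := by
  obtain ⟨i₀⟩ : Nonempty I := IsCofiltered.nonempty
  have hT' : ∃ pT : c.pt ⟶ T, ∀ i, c.π.app i ≫ p i = pT := by
    refine ⟨c.π.app i₀ ≫ p i₀, fun i => ?_⟩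
    obtain ⟨k, a, b, -⟩ := IsCofilteredOrEmpty.cone_objs i₀ i
    rw [← c.w a, ← c.w b, Category.assoc, Category.assoc, hp, hp]
  obtain ⟨pT, hT⟩ := hT'
  have hcts : Cts (secP G M) T := cts_of_cover (isSheaf_secP G) S f hf fun j => cts_secP M (e j)
  obtain ⟨i, b, hb⟩ := (hcts I D c hc p hp).2 a
  have hba : b ≫ G.obj.map (c.π.app i).op = a := hb
  let E : ι → I ⥤ X.ProEt := fun j => bcD p hp (f j)
  let ec : ∀ j, Cone (E j) := fun j => bcCone p hp (f j) pT hT
  have hE : ∀ j, Adm (E j) (ec j) := fun j => hc.bc p hp (f j) pT hT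
  let bj : ∀ j, ModuleCat.of Λ M ⟶ G.obj.obj (op ((E j).obj i)) :=
    fun j => b ≫ G.obj.map ((bcα p hp (f j)).app i).op
  let h : ∀ j, LocallyConstant ((E j).obj i).left (M →ₗ[Λ] N j) :=
    fun j => coord (e j) (bcq p hp (f j) i) (bj j)
  obtain ⟨k, φ, hk⟩ := exists_common i (fun j k (φ : k ⟶ i) =>
    ∀ x : ((E j).obj k).left, Function.Bijective (h j (((E j).map φ).left x))) (by
      intro j k k' φ ψ hh x
      have := hh (((E j).map ψ).left x)
      rw [Functor.map_comp]
      exact this) (by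
      intro j
      have haff : ∀ i, IsAffine ((E j ⋙ fP X).obj i) := (hE j).aff
      obtain ⟨k, φ, hk⟩ := LCLim.lc_inj (E j ⋙ fP X) ((fP X).mapCone (ec j)) (hE j).lim.some (i := i)
        ((h j).map (fun l : M →ₗ[Λ] N j => Function.Bijective l)) (LocallyConstant.const _ True) (by
          intro x
          have h1 := coord_map (e j) (bcq p hp (f j) i) ((ec j).π.app i) (bj j) x
          have h2 : bj j ≫ G.obj.map ((ec j).π.app i).op =
              a ≫ G.obj.map (bct p hp (f j) pT hT).op := by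
            rw [← hba]
            change (b ≫ G.obj.map _) ≫ G.obj.map _ = (b ≫ G.obj.map _) ≫ G.obj.map _
            rw [Category.assoc, Category.assoc, ← G.obj.map_comp, ← G.obj.map_comp, ← op_comp,
              ← op_comp, bc_w]
          rw [h2] at h1
          have h3 := (isIso_ev_iff (e j) ((ec j).π.app i ≫ bcq p hp (f j) i)
            (a ≫ G.obj.map (bct p hp (f j) pT hT).op)).1 (isIso_ev_map G _ a ha) x
          rw [h1] at h3
          exact eq_true h3)
      refine ⟨k, φ, fun x => ?_⟩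
      have := hk x
      exact of_eq_true this)
  refine ⟨k, b ≫ G.obj.map (D.map φ).op, ?_⟩
  refine isIso_ev_of_cover G _ _ _ (cover_bc hf (p k)) fun j => ?_
  refine (isIso_ev_iff (e j) (bcq p hp (f j) k) _).2 fun y => ?_
  have h1 := coord_map (e j) (bcq p hp (f j) i) ((E j).map φ) (bj j) y
  rw [bcq_w] at h1
  have h2 : bj j ≫ G.obj.map ((E j).map φ).op =
      (b ≫ G.obj.map (D.map φ).op) ≫ G.obj.map ((bcα p hp (f j)).app k).op := by
    change (b ≫ G.obj.map _) ≫ G.obj.map _ = (b ≫ G.obj.map _) ≫ G.obj.map _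
    rw [Category.assoc, Category.assoc, ← G.obj.map_comp, ← G.obj.map_comp, ← op_comp,
      ← op_comp, (bcα p hp (f j)).naturality]
  rw [h2] at h1
  have h3 := hk j y
  change Function.Bijective (coord (e j) (bcq p hp (f j) i) (bj j) (((E j).map φ).left y)) at h3
  rw [← h1] at h3
  exact h3

end Groth.Agent.Etrest.FrameLim
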