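import Groth.Agent.Etrest.HpullFun

/-!
# Cohomology of étale sheaves: functoriality and long exact sequences with sealed maps

`post φ n : H^n(X, F) →+ H^n(X, G)` and `conn hS n : H^n(X, S₃) →+ H^{n+1}(X, S₁)`, their exactness,
and compatibility with `EtCore.Hpull`, `EtCore.HpullVia`; stated purely in terms of `EtCoh.H` so that
they can be combined without unfolding.
-/

set_option autoImplicit false
universe u

open CategoryTheory CategoryTheory.Limits AlgebraicGeometry Opposite CategoryTheory.Abelian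

namespace Groth.Agent.Etrest.HPost

variable {X Y Z : Scheme.{u}}

/-- `H^n(X, F) → H^n(X, G)` induced by `φ : F ⟶ G`. -/
noncomputable def post {F G : EtCoh.Ab X} (φ : F ⟶ G) (n : ℕ) : EtCoh.H X F n →+ EtCoh.H X G n :=
  (Ext.mk₀ φ).postcomp _ (add_zero n)

/-- The connecting map. -/
noncomputable def conn {S : ShortComplex (EtCoh.Ab X)} (hS : S.ShortExact) (n : ℕ) :
    EtCoh.H X S.X₃ n →+ EtCoh.H X S.X₁ (n + 1) :=
  hS.extClass.postcomp _ rfl

theorem post_apply {F G : EtCoh.Ab X} (φ : F ⟶ G) (n : ℕ) (e : EtCoh.H X F n) :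
    post φ n e = Ext.comp e (Ext.mk₀ φ) (add_zero n) := rfl

theorem post_comp {F G K : EtCoh.Ab X} (φ : F ⟶ G) (ψ : G ⟶ K) (n : ℕ) (e : EtCoh.H X F n) :
    post ψ n (post φ n e) = post (φ ≫ ψ) n e := by
  rw [post_apply, post_apply, post_apply, Ext.comp_assoc_of_third_deg_zero, Ext.mk₀_comp_mk₀]

theorem post_id {F : EtCoh.Ab X} (n : ℕ) (e : EtCoh.H X F n) :
    post (𝟙 F) n e = e := by
  rw [post_apply]
  exact Ext.comp_mk₀_id _

theorem exact_fg {S : ShortComplex (EtCoh.Ab X)} (hS : S.ShortExact) (n : ℕ) :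
    Function.Exact (post S.f n) (post S.g n) :=
  (ShortComplex.ab_exact_iff_function_exact _).mp (Ext.covariant_sequence_exact₂' _ hS n)

theorem exact_gd {S : ShortComplex (EtCoh.Ab X)} (hS : S.ShortExact) (n : ℕ) :
    Function.Exact (post S.g n) (conn hS n) :=
  (ShortComplex.ab_exact_iff_function_exact _).mp (Ext.covariant_sequence_exact₃' _ hS n (n + 1) rfl)

theorem exact_df {S : ShortComplex (EtCoh.Ab X)} (hS : S.ShortExact) (n : ℕ) :
    Function.Exact (conn hS n) (post S.f (n + 1)) :=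
  (ShortComplex.ab_exact_iff_function_exact _).mp (Ext.covariant_sequence_exact₁' _ hS n (n + 1) rfl)

theorem post_injective {F G : EtCoh.Ab X} (φ : F ⟶ G) [Mono φ] : Function.Injective (post φ 0) :=
  Ext.postcomp_mk₀_injective_of_mono _ φ

end Groth.Agent.Etrest.HPost
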