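import Groth.Agent.Etrest.RDer4
import Groth.Prelude.Def_EtCore
import Mathlib.Algebra.Homology.DerivedCategory.Ext.Map

/-!
# Criterion for the bijectivity of pullback maps on `Ext` and etale cohomology

`bijective_mapExact`: `L ⊣ G`, `L` exact, `N` with `N ⟶ G L N` an isomorphism and `L N` acyclic for `G`:
then `Ext^n(M, N) → Ext^n(L M, L N)` is bijective for all `M`, `n`.
-/

set_option autoImplicit false
universe w w' t t' v v' u u'

open CategoryTheory CategoryTheory.Limits Opposite AlgebraicGeometry Abelian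

noncomputable section
namespace Groth.Agent.Etrest.HpullBij

open RDer2 RDer3 RDer4

section
variable {A : Type u} [Category.{v} A] [Abelian A] [HasDerivedCategory.{w} A]
  {B : Type u'} [Category.{v'} B] [Abelian B] [HasDerivedCategory.{w'} B] [HasKInj B] [EnoughInjectives B]
  {L : A ⥤ B} {G : B ⥤ A} [L.Additive] [G.Additive] [PreservesFiniteLimits L] [PreservesFiniteColimits L]
  [PreservesFiniteLimits G] (adj : L ⊣ G)

/-- The derived unit is an isomorphism on bounded-below complexes whose terms `N` satisfy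
`N ≅ G L N` and `L N` is `G`-acyclic. -/
theorem isIso_dAdj_unit (K : CochainComplex A ℤ) (a : ℤ) [K.IsStrictlyGE a]
    (h1 : ∀ i, IsIso (adj.unit.app (K.X i))) (h2 : ∀ i, IsAcyc G (L.obj (K.X i))) :
    IsIso ((dAdj adj).unit.app (DerivedCategory.Q.obj K)) := by
  have e1 := dAdj_unit adj K
  have e2 := isIso_unitQ_of_isAcyc G ((L.mapHomologicalComplex (.up ℤ)).obj K) a h2
  have e3 : ∀ i, IsIso (((Dcoh.DerAdj.adjCx adj (.up ℤ)).unit.app K).f i) := h1
  have e4 : IsIso ((Dcoh.DerAdj.adjCx adj (.up ℤ)).unit.app K) :=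
    HomologicalComplex.Hom.isIso_of_components _
  have e5 : IsIso ((dAdj adj).unit.app (DerivedCategory.Q.obj K) ≫
      (TR G).map (L.mapDerivedCategoryFactors.hom.app K)) := by
    rw [e1]
    exact IsIso.comp_isIso' inferInstance e2
  exact IsIso.of_isIso_comp_right _ ((TR G).map (L.mapDerivedCategoryFactors.hom.app K))

theorem bijective_map_of_isIso_unit {C D : Type*} [Category* C] [Category* D] {L : C ⥤ D} {G : D ⥤ C}
    (adj : L ⊣ G) (M N : C) (h : IsIso (adj.unit.app N)) :
    Function.Bijective (L.map : (M ⟶ N) → _) := by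
  have h1 : ∀ f : M ⟶ N, L.map f = (adj.homEquiv _ _).symm (f ≫ adj.unit.app N) := by
    intro f
    rw [Adjunction.homEquiv_counit]
    simp
  constructor
  · intro f g hfg
    rw [h1, h1] at hfg
    exact (cancel_mono _).1 ((adj.homEquiv _ _).symm.injective hfg)
  · intro g
    refine ⟨(adj.homEquiv _ _) g ≫ inv (adj.unit.app N), ?_⟩
    rw [h1]
    simp

end

section
variable {A : Type u} [Category.{v} A] [Abelian A] [HasDerivedCategory.{w} A]
  {B : Type u'} [Category.{v'} B] [Abelian B] [HasDerivedCategory.{w'} B] [HasKInj B] [EnoughInjectives B]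
  {L : A ⥤ B} {G : B ⥤ A} [L.Additive] [G.Additive] [PreservesFiniteLimits L] [PreservesFiniteColimits L]
  [PreservesFiniteLimits G] (adj : L ⊣ G)

/-- The terms of a shifted single complex. -/
theorem single_cases {A : Type u} [Category.{v} A] [Abelian A] (P : A → Prop) (hiso : ∀ {M N : A}, (M ≅ N) → P M → P N) (h0 : ∀ M, IsZero M → P M)
    (N : A) (hN : P N) (n i : ℤ) :
    P ((((CochainComplex.singleFunctor A 0).obj N)⟦n⟧ : CochainComplex A ℤ).X i) := by
  change P (((CochainComplex.singleFunctor A 0).obj N).X (i + n))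
  by_cases h : i + n = 0
  · rw [h]
    exact hiso (HomologicalComplex.singleObjXSelf (.up ℤ) 0 N).symm hN
  · exact h0 _ (HomologicalComplex.isZero_single_obj_X (.up ℤ) 0 N _ h)

theorem isIso_dAdj_unit_single (N : A) (h1 : IsIso (adj.unit.app N)) (h2 : IsAcyc G (L.obj N)) (n : ℤ) :
    IsIso ((dAdj adj).unit.app (((DerivedCategory.singleFunctor A 0).obj N)⟦n⟧)) := by
  let K : CochainComplex A ℤ := ((CochainComplex.singleFunctor A 0).obj N)⟦n⟧
  have hK : K.IsStrictlyGE (-n) := CochainComplex.isStrictlyGE_shift _ 0 _ _ (by lia)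
  have hu : ∀ i, IsIso (adj.unit.app (K.X i)) := fun i =>
    single_cases (fun M => IsIso (adj.unit.app M))
      (fun e h => (NatTrans.isIso_app_iff_of_iso adj.unit e).1 h)
      (fun M hM => isIso_of_source_target_iso_zero _ hM.isoZero
        (IsZero.isoZero ((L ⋙ G).map_isZero hM))) N h1 n i
  have hu2 : ∀ i, IsAcyc G (L.obj (K.X i)) := fun i =>
    single_cases (fun M => IsAcyc G (L.obj M))
      (fun e h => isAcyc_of_iso G (L.mapIso e) h)
      (fun M hM => isAcyc_of_isZero G (L.map_isZero hM)) N h2 n i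
  have h3 := isIso_dAdj_unit adj K (-n) hu hu2
  have e : DerivedCategory.Q.obj K ≅ ((DerivedCategory.singleFunctor A 0).obj N)⟦n⟧ :=
    (DerivedCategory.Q.commShiftIso n).app ((CochainComplex.singleFunctor A 0).obj N)
  exact (NatTrans.isIso_app_iff_of_iso (dAdj adj).unit e).1 h3

end

section Ext

theorem bijective_conj {C : Type*} [Category* C] {S : Type*} {X₁ X₂ X₃ X₄ X₅ : C} (i : X₁ ⟶ X₂) [IsIso i]
    (c : X₃ ⟶ X₄) [IsIso c] (s : X₄ ⟶ X₅) [IsIso s] {F : S → (X₂ ⟶ X₃)} (hF : Function.Bijective F) :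
    Function.Bijective (fun x => i ≫ (F x ≫ c) ≫ s) := by
  constructor
  · intro x y hxy
    exact hF.1 ((cancel_mono _).1 ((cancel_mono _).1 ((cancel_epi _).1 hxy)))
  · intro y
    obtain ⟨x, hx⟩ := hF.2 (inv i ≫ y ≫ inv s ≫ inv c)
    exact ⟨x, by simp [hx]⟩

variable {A : Type u} [Category.{v} A] [Abelian A] [HasExt.{t} A]
  {B : Type u'} [Category.{v'} B] [Abelian B] [HasExt.{t'} B] [HasKInj B] [EnoughInjectives B]
  {L : A ⥤ B} {G : B ⥤ A} [L.Additive] [G.Additive] [PreservesFiniteLimits L] [PreservesFiniteColimits L]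
  [PreservesFiniteLimits G] (adj : L ⊣ G)

include adj in
/-- `Ext^n(M, N) → Ext^n(L M, L N)` is bijective if `N ≅ G L N` and `L N` is `G`-acyclic. -/
theorem bijective_mapExact (M N : A) (h1 : IsIso (adj.unit.app N)) (h2 : IsAcyc G (L.obj N)) (n : ℕ) :
    Function.Bijective (fun e : Ext M N n => e.mapExactFunctor L) := by
  let := HasDerivedCategory.standard A
  let := HasDerivedCategory.standard B
  have h3 := isIso_dAdj_unit_single adj N h1 h2 n
  have h4 := bijective_map_of_isIso_unit (dAdj adj) ((DerivedCategory.singleFunctor A 0).obj M)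
    (((DerivedCategory.singleFunctor A 0).obj N)⟦(n : ℤ)⟧) h3
  -- the three bijections
  let a : ShiftedHom ((DerivedCategory.singleFunctor A 0).obj M) ((DerivedCategory.singleFunctor A 0).obj N) (n : ℤ) →
      ShiftedHom ((DerivedCategory.singleFunctor B 0).obj (L.obj M))
        ((DerivedCategory.singleFunctor B 0).obj (L.obj N)) (n : ℤ) := fun x =>
      (L.mapDerivedCategorySingleFunctor 0).inv.app M ≫
        (L.mapDerivedCategory.map x ≫ (L.mapDerivedCategory.commShiftIso (n : ℤ)).hom.app _) ≫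
    ((L.mapDerivedCategorySingleFunctor 0).hom.app N)⟦(n : ℤ)⟧'
  have ha : Function.Bijective a := by
    exact bijective_conj ((L.mapDerivedCategorySingleFunctor 0).inv.app M)
      ((L.mapDerivedCategory.commShiftIso (n : ℤ)).hom.app _)
      (((L.mapDerivedCategorySingleFunctor 0).hom.app N)⟦(n : ℤ)⟧') h4
  have h7 : (fun e : Ext M N n => e.mapExactFunctor L) = fun e => Ext.homEquiv.symm (a (Ext.homEquiv e)) := by
    funext e
    apply Ext.homEquiv.injective
    rw [Equiv.apply_symm_apply]
    exact Ext.mapExactFunctor_hom L e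
  rw [h7]
  exact Ext.homEquiv.symm.bijective.comp (ha.comp Ext.homEquiv.bijective)

include adj in
/-- `Ext^n(M, N) → Ext^n(A', L N)`, `e ↦ a ≫ L e`, is bijective if `a` is an isomorphism, `N ≅ G L N` and
`L N` is `G`-acyclic. -/
theorem bijective_mk₀_mapExact (M N : A) {A' : B} (a : A' ⟶ L.obj M) [IsIso a] (h1 : IsIso (adj.unit.app N))
    (h2 : IsAcyc G (L.obj N)) (n : ℕ) :
    Function.Bijective (fun e : Ext M N n => (Ext.mk₀ a).comp (e.mapExactFunctor L) (zero_add n)) := by
  have h4 : Function.Bijective (fun e : Ext (L.obj M) (L.obj N) n => (Ext.mk₀ a).comp e (zero_add n)) := by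
    constructor
    · intro x y hxy
      have := congrArg (fun e => (Ext.mk₀ (inv a)).comp e (zero_add n)) hxy
      simpa using this
    · intro y
      refine ⟨(Ext.mk₀ (inv a)).comp y (zero_add n), ?_⟩
      simp
  exact h4.comp (bijective_mapExact adj M N h1 h2 n)

end Ext

end Groth.Agent.Etrest.HpullBij
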