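import Groth.Agent.Etrest.HpullBij
import Groth.Agent.Etrest.DEtPush
import Groth.Agent.Etcore.EtInst

/-!
# Criterion for the bijectivity of the pullback maps on etale cohomology
-/

set_option autoImplicit false
universe u

open CategoryTheory CategoryTheory.Limits Opposite AlgebraicGeometry Abelian

noncomputable section
namespace Groth.Agent.Etrest.HpullBij

open RDer2 RDer3 RDer4 DEtPush
open scoped Groth.Agent.Etcore.EtInst

variable {X' X : Scheme.{u}} (b : X' ⟶ X)

/-- `H^p(X, G) → H^p(X', b^{-1}G)` is bijective if `G ≅ b_* b^{-1} G` and `R^q b_* b^{-1} G = 0` for `q > 0`. -/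
theorem bijective_Hpull [PreservesFiniteLimits (EtCoh.pull b)] (G : EtCoh.Ab X)
    (h1 : IsIso ((EtCoh.pullPushAdj b).unit.app G))
    (h2 : ∀ q : ℕ, 0 < q → IsZero ((EtCoh.Rpush b q).obj ((EtCoh.pull b).obj G))) (p : ℕ) :
    Function.Bijective (EtCore.Hpull b G p) := by
  exact bijective_mk₀_mapExact (EtCoh.pullPushAdj b) (EtCoh.const X ℤ) G (EtCore.pullConst b ℤ).inv h1
    (fun n => h2 (n + 1) n.succ_pos) p

end Groth.Agent.Etrest.HpullBij
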