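import Groth.Prelude.Def_EtCore
import Groth.Agent.Sga4B.ExtCmp
import Groth.Agent.Sga4B.ConstLC

/-!
# `Hpull` is natural; `Hpull` in degree zero for constant sheaves
-/

set_option autoImplicit false
universe u
open CategoryTheory CategoryTheory.Limits AlgebraicGeometry Opposite

namespace Groth.Agent.Etrest.HpullConst

/-- The constant sheaf functor, with values in any abelian group of the value universe. -/
noncomputable abbrev constU (X : Scheme.{u}) : AddCommGrpCat.{u + 1} ⥤ EtCoh.Ab X :=
  constantSheaf X.smallEtaleTopology AddCommGrpCat.{u + 1}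

instance HF_additive (X : Scheme.{u}) (n : ℕ) : (EtCoh.HF X n).Additive := by
  unfold EtCoh.HF
  infer_instance

section nat

variable {X Y : Scheme.{u}} (f : X ⟶ Y) [PreservesFiniteLimits (EtCoh.pull f)]

/-- Pullback on cohomology as a natural transformation. -/
noncomputable def HpullNat (n : ℕ) : EtCoh.HF Y n ⟶ EtCoh.pull f ⋙ EtCoh.HF X n where
  app G := AddCommGrpCat.ofHom (EtCore.Hpull f G n)
  naturality G G' a := by
    ext x
    exact Sga4B.ExtCmp.cmp_mk₀ (EtCoh.pull f) (EtCore.pullConst f ℤ).inv a x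

theorem isIso_HpullNat_app_iff (n : ℕ) (G : EtCoh.Ab Y) :
    IsIso ((HpullNat f n).app G) ↔ Function.Bijective (EtCore.Hpull f G n) :=
  ConcreteCategory.isIso_iff_bijective _

theorem bijective_Hpull_iff_of_iso (n : ℕ) {G G' : EtCoh.Ab Y} (e : G ≅ G') :
    Function.Bijective (EtCore.Hpull f G n) ↔ Function.Bijective (EtCore.Hpull f G' n) := by
  rw [← isIso_HpullNat_app_iff, ← isIso_HpullNat_app_iff]
  exact NatTrans.isIso_app_iff_of_iso _ e

theorem bijective_HpullVia {X Y Z : Scheme.{u}} (f : X ⟶ Y) (t : Y ⟶ Z) (f₀ : X ⟶ Z) (w : f ≫ t = f₀)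
    [PreservesFiniteLimits (EtCoh.pull f)] (G : EtCoh.Ab Z) (p : ℕ)
    (h : Function.Bijective (EtCore.Hpull f ((EtCoh.pull t).obj G) p)) :
    Function.Bijective (EtCore.HpullVia f t f₀ w G p) :=
  (ConcreteCategory.bijective_of_isIso ((EtCoh.HF X p).map
    (((EtCore.pullComp f t).symm ≪≫ EtCore.pullCongr w).app G).hom)).comp h

theorem bijective_Hpull_zero_iff (G : EtCoh.Ab Y) :
    Function.Bijective (EtCore.Hpull f G 0) ↔
      Function.Bijective (fun φ : EtCoh.const Y ℤ ⟶ G => (EtCore.pullConst f ℤ).inv ≫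
        (EtCoh.pull f).map φ) := by
  have h1 := Abelian.Ext.mk₀_bijective (EtCoh.const Y ℤ) G
  have h2 := Abelian.Ext.mk₀_bijective (EtCoh.const X ℤ) ((EtCoh.pull f).obj G)
  have h3 : (fun x => EtCore.Hpull f G 0 x) ∘ Abelian.Ext.mk₀ =
      Abelian.Ext.mk₀ ∘ (fun φ : EtCoh.const Y ℤ ⟶ G => (EtCore.pullConst f ℤ).inv ≫
        (EtCoh.pull f).map φ) := by
    funext φ
    change (Abelian.Ext.mk₀ (EtCore.pullConst f ℤ).inv).comp
      ((Abelian.Ext.mk₀ φ).mapExactFunctor (EtCoh.pull f)) (zero_add 0) = _
    rw [Abelian.Ext.mapExactFunctor_mk₀, Abelian.Ext.mk₀_comp_mk₀]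
    rfl
  constructor
  · intro h
    rw [← Function.Bijective.of_comp_iff' h2, ← h3]
    exact h.comp h1
  · intro h
    rw [← Function.Bijective.of_comp_iff _ h1, h3]
    exact h2.comp h

/-- In degree `0`, pullback is bijective on a constant sheaf with value `A` if on both schemes the
constant sheaf functor is fully faithful on maps `ℤ → A`. -/
theorem bijective_Hpull_zero_const (A : AddCommGrpCat.{u + 1})
    (hX : Function.Bijective (fun ψ : AddCommGrpCat.of (ULift.{u + 1} ℤ) ⟶ A => (constU X).map ψ))
    (hY : Function.Bijective (fun ψ : AddCommGrpCat.of (ULift.{u + 1} ℤ) ⟶ A => (constU Y).map ψ)) :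
    Function.Bijective (EtCore.Hpull f ((constU Y).obj A) 0) := by
  rw [bijective_Hpull_zero_iff, ← Function.Bijective.of_comp_iff _ hY]
  have h1 : Function.Bijective (fun φ : EtCoh.const X ℤ ⟶ (EtCoh.pull f).obj ((constU Y).obj A) =>
      φ ≫ (EtCore.pullConstIso f).hom.app A) := by
    refine Function.bijective_iff_has_inverse.2
      ⟨fun φ => φ ≫ (EtCore.pullConstIso f).inv.app A, fun φ => ?_, fun φ => ?_⟩
    · simp
    · simp
  rw [← Function.Bijective.of_comp_iff' h1]
  convert! hX using 1
  funext ψ
  change ((EtCore.pullConstIso f).inv.app (AddCommGrpCat.of (ULift.{u + 1} ℤ)) ≫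
    (EtCoh.pull f).map ((constU Y).map ψ)) ≫ (EtCore.pullConstIso f).hom.app A = (constU X).map ψ
  have h2 := (EtCore.pullConstIso f).hom.naturality ψ
  rw [Category.assoc]
  refine (congrArg (fun t => _ ≫ t) h2).trans ?_
  rw [Iso.inv_hom_id_app_assoc]

end nat

section unit

/-- The unit of the constant sheaf adjunction is the inclusion of the constants. -/
theorem unit_comp_constToLC (X : Scheme.{u}) (A : Type (u + 1)) [AddCommGroup A] {T : X.Etale}
    (hT : IsTerminal T) :
    (constantSheafAdj X.smallEtaleTopology AddCommGrpCat.{u + 1} hT).unit.app (AddCommGrpCat.of A) ≫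
      (Sga4B.ConstLC.constToLC X A).hom.app (op T) = Sga4B.ConstLC.constSec A T := by
  have h1 : (constantSheafAdj X.smallEtaleTopology AddCommGrpCat.{u + 1} hT).unit.app
      (AddCommGrpCat.of A) = (toSheafify X.smallEtaleTopology
        ((Functor.const X.Etaleᵒᵖ).obj (AddCommGrpCat.of A))).app (op T) := by
    unfold constantSheafAdj
    rw [Adjunction.comp_unit_app]
    exact Category.id_comp _
  rw [h1]
  exact congrArg (fun t => t.app (op T)) (Sga4B.ConstLC.toSheafify_constToLC X A)

theorem isIso_unit_iff (X : Scheme.{u}) (A : Type (u + 1)) [AddCommGroup A] {T : X.Etale}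
    (hT : IsTerminal T) :
    IsIso ((constantSheafAdj X.smallEtaleTopology AddCommGrpCat.{u + 1} hT).unit.app
      (AddCommGrpCat.of A)) ↔ Function.Bijective (LocallyConstant.const T.left : A → _) := by
  have h1 : IsIso ((Sga4B.ConstLC.constToLC X A).hom.app (op T)) := by
    have : IsIso ((sheafToPresheaf _ _).map (Sga4B.ConstLC.constToLC X A)) := inferInstance
    exact NatIso.isIso_app_of_isIso ((sheafToPresheaf _ _).map (Sga4B.ConstLC.constToLC X A)) _
  have h2 := unit_comp_constToLC X A hT
  have h3 : IsIso (Sga4B.ConstLC.constSec A T) ↔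
      Function.Bijective (LocallyConstant.const T.left : A → _) :=
    ConcreteCategory.isIso_iff_bijective (Sga4B.ConstLC.constSec A T)
  rw [← h3, ← h2]
  exact (isIso_comp_right_iff _ _).symm

theorem constU_map_bijective (X : Scheme.{u}) (A B : AddCommGrpCat.{u + 1}) {T : X.Etale}
    (hT : IsTerminal T)
    (h : IsIso ((constantSheafAdj X.smallEtaleTopology AddCommGrpCat.{u + 1} hT).unit.app A)) :
    Function.Bijective (fun ψ : B ⟶ A => (constU X).map ψ) := by
  have h1 := ((constantSheafAdj X.smallEtaleTopology AddCommGrpCat.{u + 1} hT).homEquiv B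
    ((constU X).obj A)).bijective
  rw [← Function.Bijective.of_comp_iff' h1]
  have h2 : Function.Bijective (fun ψ : B ⟶ A => ψ ≫
      (constantSheafAdj X.smallEtaleTopology AddCommGrpCat.{u + 1} hT).unit.app A) := by
    refine Function.bijective_iff_has_inverse.2
      ⟨fun φ => φ ≫ inv ((constantSheafAdj X.smallEtaleTopology AddCommGrpCat.{u + 1} hT).unit.app A),
        fun φ => ?_, fun φ => ?_⟩
    · simp
    · simp
  convert! h2 using 1
  funext ψ
  change (constantSheafAdj X.smallEtaleTopology AddCommGrpCat.{u + 1} hT).homEquiv B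
    ((constU X).obj A) ((constU X).map ψ) = _
  rw [Adjunction.homEquiv_unit]
  exact ((constantSheafAdj X.smallEtaleTopology AddCommGrpCat.{u + 1} hT).unit.naturality ψ).symm

theorem bijective_const {T : Type*} [TopologicalSpace T] [PreconnectedSpace T] [Nonempty T]
    (A : Type*) : Function.Bijective (LocallyConstant.const T : A → _) :=
  ⟨fun a b h => DFunLike.congr_fun h (Classical.arbitrary T), fun f => by
    refine ⟨f (Classical.arbitrary T), ?_⟩
    ext x
    exact f.isLocallyConstant.apply_eq_of_preconnectedSpace (Classical.arbitrary T) x⟩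

/-- Degree zero cohomology of a constant sheaf is given by the locally constant functions. -/
noncomputable def H0Equiv (X : Scheme.{u}) (M : Type) [AddCommGroup M] :
    EtCoh.H X (EtCoh.const X M) 0 ≃+ LocallyConstant (EtCoh.top X).left (ULift.{u + 1} M) :=
  (Sheaf.H.equiv₀ _ (EtCore.topIsTerminal X)).trans
    (((sheafToPresheaf _ _).mapIso (Groth.Agent.Sga4B.ConstLC.constIso X M)).app
      (op (EtCoh.top X))).addCommGroupIsoToAddEquiv

/-- If `H^0(X, M)` has the right (finite) cardinality, then the constants are all the sections. -/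
theorem bijective_const_of_equiv (X : Scheme.{u}) (M : Type) [AddCommGroup M] [Finite M]
    (h : Nonempty (EtCoh.H X (EtCoh.const X M) 0 ≃+ M)) :
    Function.Bijective (LocallyConstant.const (EtCoh.top X).left : ULift.{u + 1} M → _) := by
  obtain ⟨e⟩ := h
  let e' := (H0Equiv X M).symm.trans e
  by_cases hne : Nonempty (EtCoh.top X).left
  · have hinj : Function.Injective
        (LocallyConstant.const (EtCoh.top X).left : ULift.{u + 1} M → _) :=
      fun a b h => DFunLike.congr_fun h (Classical.choice hne)
    have : Function.Injective (fun m : ULift.{u + 1} M => ULift.up.{u + 1} (e' (LocallyConstant.const (EtCoh.top X).left m))) :=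
      fun a b h => hinj (e'.injective (congrArg ULift.down h))
    have hs := Finite.surjective_of_injective this
    refine ⟨hinj, fun g => ?_⟩
    obtain ⟨m, hm⟩ := hs (ULift.up (e' g))
    exact ⟨m, e'.injective (congrArg ULift.down hm)⟩
  · have h1 : Subsingleton (LocallyConstant (EtCoh.top X).left (ULift.{u + 1} M)) :=
      ⟨fun a b => LocallyConstant.ext fun x => (hne ⟨x⟩).elim⟩
    have h2 : Subsingleton M := e'.symm.injective.subsingleton
    exact ⟨fun a b _ => Subsingleton.elim _ _, fun g => ⟨0, Subsingleton.elim _ _⟩⟩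

end unit

end Groth.Agent.Etrest.HpullConst
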