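import Groth.Agent.Etrest.HpullAcyc
import Groth.Agent.Etcore.ExtAdj

/-!
# Functoriality of `EtCore.Hpull` and `EtCore.HpullVia`
-/

set_option autoImplicit false
universe w w' w'' v v' v'' u u' u''

open CategoryTheory CategoryTheory.Limits AlgebraicGeometry Opposite CategoryTheory.Abelian

namespace Groth.Agent.Etrest.HpullFun

open Groth.Agent.Etcore.PullCoh

section Abstract

variable {C : Type u} [Category.{v} C] [Abelian C] [HasExt.{w} C] [EnoughInjectives C]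
variable {D : Type u'} [Category.{v'} D] [Abelian D] [HasExt.{w'} D]
variable {E : Type u''} [Category.{v''} E] [Abelian E] [HasExt.{w''} E]
variable (T : C ⥤ D) [T.Additive] [PreservesFiniteLimits T] [PreservesFiniteColimits T]
variable (F : D ⥤ E) [F.Additive] [PreservesFiniteLimits F] [PreservesFiniteColimits F]
variable (F₀ : C ⥤ E) [F₀.Additive] [PreservesFiniteLimits F₀] [PreservesFiniteColimits F₀]

/-- Composition of comparison maps. -/
theorem cmp_comp_cmp (τ : T ⋙ F ⟶ F₀) {A : C} {B : D} {B' : E} (bT : B ⟶ T.obj A)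
    (bF : B' ⟶ F.obj B) (b₀ : B' ⟶ F₀.obj A) (h : bF ≫ F.map bT ≫ τ.app A = b₀) (G : C) (n : ℕ)
    (e : Ext.{w} A G n) :
    (Sga4B.ExtCmp.cmp F bF (T.obj G) n (Sga4B.ExtCmp.cmp T bT G n e)).comp
      (Ext.mk₀ (τ.app G)) (add_zero n) = Sga4B.ExtCmp.cmp F₀ b₀ G n e := by
  have i1 : PreservesFiniteLimits (T ⋙ F) := comp_preservesFiniteLimits _ _
  have i2 : PreservesFiniteColimits (T ⋙ F) := comp_preservesFiniteColimits _ _
  have h1 := Etcore.ExtAdj.mapExactFunctor_nat (F := T ⋙ F) (G := F₀) τ e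
  rw [Etcore.ExtAdj.mapExactFunctor_compFunctor] at h1
  rw [Sga4B.ExtCmp.cmp_apply, Sga4B.ExtCmp.cmp_apply, Sga4B.ExtCmp.cmp_apply,
    Ext.mapExactFunctor_comp, Ext.mapExactFunctor_mk₀, Ext.mk₀_comp_mk₀_assoc,
    Ext.comp_assoc_of_third_deg_zero]
  refine (congrArg (fun z => (Ext.mk₀ (bF ≫ F.map bT)).comp z (zero_add n)) h1).trans ?_
  refine (Ext.mk₀_comp_mk₀_assoc _ _ _).trans ?_
  rw [← h, Category.assoc]

end Abstract

variable {X Y Z : Scheme.{u}}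

theorem hasExt {X : Scheme.{u}} : HasExt.{u + 1} (EtCoh.Ab X) := inferInstance
theorem enough {X : Scheme.{u}} : EnoughInjectives (EtCoh.Ab X) := inferInstance
attribute [local instance 3000] hasExt enough

open Sga4B.HpullSquare in
/-- Naturality in the sheaf. -/
theorem Hpull_mk₀ (f : X ⟶ Y) [PreservesFiniteLimits (EtCoh.pull f)] {G H : EtCoh.Ab Y} (φ : G ⟶ H)
    (n : ℕ) (e : Ext (EtCoh.const Y ℤ) G n) :
    EtCore.Hpull f H n (e.comp (Ext.mk₀ φ) (add_zero n)) =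
      Ext.comp (EtCore.Hpull f G n e) (Ext.mk₀ ((EtCoh.pull f).map φ)) (add_zero n) := by
  rw [Hpull_eq_cmp, Hpull_eq_cmp]
  exact Sga4B.ExtCmp.cmp_mk₀ (EtCoh.pull f) (EtCore.pullConst f ℤ).inv φ (n := n) e

theorem HpullVia_eq (f : X ⟶ Y) (t : Y ⟶ Z) (f₀ : X ⟶ Z) (w : f ≫ t = f₀)
    [PreservesFiniteLimits (EtCoh.pull f)] (G : EtCoh.Ab Z) (p : ℕ)
    (e : EtCoh.H Y ((EtCoh.pull t).obj G) p) :
    EtCore.HpullVia f t f₀ w G p e =
      Ext.comp (EtCore.Hpull f _ p e) (Ext.mk₀ (th f t f₀ w G)) (add_zero p) := rfl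

theorem pullConst_comp_inv (f : X ⟶ Y) (t : Y ⟶ Z) (f₀ : X ⟶ Z) (w : f ≫ t = f₀) :
    (EtCore.pullConst f ℤ).inv ≫ (EtCoh.pull f).map (EtCore.pullConst t ℤ).inv ≫
      (theta f t f₀ w).hom.app (EtCoh.const Z ℤ) = (EtCore.pullConst f₀ ℤ).inv := by
  have h := pullConst_comp f t f₀ w ℤ
  rw [← cancel_mono (EtCore.pullConst f₀ ℤ).hom, Iso.inv_hom_id, Category.assoc, Category.assoc]
  have h2 : (theta f t f₀ w).hom.app (EtCoh.const Z ℤ) ≫ (EtCore.pullConst f₀ ℤ).hom =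
    (EtCoh.pull f).map (EtCore.pullConst t ℤ).hom ≫ (EtCore.pullConst f ℤ).hom := h.symm
  rw [h2, ← Functor.map_comp_assoc, Iso.inv_hom_id, CategoryTheory.Functor.map_id,
    Category.id_comp, Iso.inv_hom_id]

open Sga4B.HpullSquare in
/-- Pulling back in two steps. -/
theorem Hpull_Hpull (f : X ⟶ Y) (t : Y ⟶ Z) (f₀ : X ⟶ Z) (w : f ≫ t = f₀)
    [PreservesFiniteLimits (EtCoh.pull f)] [PreservesFiniteLimits (EtCoh.pull t)]
    [PreservesFiniteLimits (EtCoh.pull f₀)] (G : EtCoh.Ab Z) (p : ℕ)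
    (e : Ext (EtCoh.const Z ℤ) G p) :
    Ext.comp (EtCore.Hpull f _ p (EtCore.Hpull t G p e)) (Ext.mk₀ (th f t f₀ w G)) (add_zero p) =
      EtCore.Hpull f₀ G p e := by
  rw [Hpull_eq_cmp, Hpull_eq_cmp, Hpull_eq_cmp]
  exact cmp_comp_cmp (EtCoh.pull t) (EtCoh.pull f) (EtCoh.pull f₀) (theta f t f₀ w).hom
    (EtCore.pullConst t ℤ).inv (EtCore.pullConst f ℤ).inv (EtCore.pullConst f₀ ℤ).inv
    (pullConst_comp_inv f t f₀ w) G p e

end Groth.Agent.Etrest.HpullFun
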