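import Mathlib.Algebra.Category.Grp.Abelian
import Mathlib.Algebra.Category.Grp.FilteredColimits
import Mathlib.Algebra.Category.Grp.Colimits
import Mathlib.GroupTheory.FiniteAbelian.Basic
import Mathlib.CategoryTheory.Preadditive.AdditiveFunctor
import Mathlib.CategoryTheory.Limits.Preserves.Filtered

/-!
# Natural transformations of additive functors on abelian groups: reduction to `Z/n`

If `η : F ⟶ G` is a natural transformation between additive functors on `AddCommGrpCat.{w}` which
preserve filtered colimits (of size `w`), and `η` is an isomorphism on `Z/n` for all `n` in a divisor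
closed set, then it is an isomorphism on all torsion groups with orders in this set.
-/

set_option autoImplicit false
universe w v' u'
open CategoryTheory CategoryTheory.Limits

namespace Groth.Agent.Etrest.TorsReduce

section decomp

variable {A : Type*} [Category* A] [Preadditive A] {B : Type*} [Category* B] [Preadditive B]
  {F G : A ⥤ B} [F.Additive] [G.Additive] (η : F ⟶ G)

/-- A natural transformation of additive functors is an isomorphism on a finite sum if it is one on
the summands. -/
theorem isIso_of_decomp {ι : Type*} (s : Finset ι) (M : A) (N : ι → A) (p : ∀ i, M ⟶ N i)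
    (q : ∀ i, N i ⟶ M) (h : ∑ i ∈ s, p i ≫ q i = 𝟙 M) [∀ i, IsIso (η.app (N i))] :
    IsIso (η.app M) := by
  refine ⟨∑ i ∈ s, G.map (p i) ≫ inv (η.app (N i)) ≫ F.map (q i), ?_, ?_⟩
  · rw [Preadditive.comp_sum]
    have : ∀ i ∈ s, η.app M ≫ G.map (p i) ≫ inv (η.app (N i)) ≫ F.map (q i) = F.map (p i ≫ q i) := by
      intro i _
      rw [← NatTrans.naturality_assoc, IsIso.hom_inv_id_assoc, F.map_comp]
    rw [Finset.sum_congr rfl this, ← F.map_sum, h, F.map_id]
  · rw [Preadditive.sum_comp]
    have : ∀ i ∈ s, (G.map (p i) ≫ inv (η.app (N i)) ≫ F.map (q i)) ≫ η.app M = G.map (p i ≫ q i) := by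
      intro i _
      rw [Category.assoc, Category.assoc, NatTrans.naturality, IsIso.inv_hom_id_assoc, G.map_comp]
    rw [Finset.sum_congr rfl this, ← G.map_sum, h, G.map_id]

end decomp

section colim

variable {A : Type*} [Category* A] {B : Type*} [Category* B]
  {F G : A ⥤ B} (η : F ⟶ G)

theorem isIso_of_isColimit {J : Type*} [Category* J] (D : J ⥤ A) (c : Cocone D) (hc : IsColimit c)
    [PreservesColimit D F] [PreservesColimit D G] [∀ j, IsIso (η.app (D.obj j))] :
    IsIso (η.app c.pt) := by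
  let e : D ⋙ F ≅ D ⋙ G := NatIso.ofComponents (fun j => asIso (η.app (D.obj j)))
    (fun f => η.naturality _)
  let i := (isColimitOfPreserves F hc).coconePointsIsoOfNatIso (isColimitOfPreserves G hc) e
  have hi : i.hom = η.app c.pt := by
    apply (isColimitOfPreserves F hc).hom_ext
    intro j
    rw [IsColimit.comp_coconePointsIsoOfNatIso_hom]
    exact (η.naturality (c.ι.app j)).symm
  rw [← hi]
  infer_instance

end colim

section groups

/-- The directed set of finite subgroups. -/
def FinSub (M : Type w) [AddCommGroup M] : Type w := {N : AddSubgroup M // N.FG}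

variable (M : Type w) [AddCommGroup M]

noncomputable instance : SemilatticeSup (FinSub M) where
  le a b := a.1 ≤ b.1
  le_refl a := le_refl a.1
  le_trans a b c h1 h2 := le_trans (a := a.1) h1 h2
  le_antisymm a b h1 h2 := Subtype.ext (le_antisymm h1 h2)
  sup a b := ⟨a.1 ⊔ b.1, a.2.sup b.2⟩
  le_sup_left a b := le_sup_left (a := a.1)
  le_sup_right a b := le_sup_right (a := a.1)
  sup_le a b c h1 h2 := sup_le (a := a.1) h1 h2

instance : Nonempty (FinSub M) := ⟨⟨⊥, ⟨∅, by simp⟩⟩⟩

/-- The diagram of f.g. subgroups. -/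
noncomputable def diag : FinSub M ⥤ AddCommGrpCat.{w} where
  obj N := AddCommGrpCat.of N.1
  map f := AddCommGrpCat.ofHom (AddSubgroup.inclusion (leOfHom f))

/-- The cocone with point `M`. -/
noncomputable def cocone : Cocone (diag M) where
  pt := AddCommGrpCat.of M
  ι := { app := fun N => AddCommGrpCat.ofHom N.1.subtype }

/-- `M` is the filtered colimit of its f.g. subgroups. -/
noncomputable def isColimitCocone : IsColimit (cocone M) := by
  have : ReflectsColimitsOfShape (FinSub M) (forget AddCommGrpCat.{w}) :=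
    reflectsColimitsOfShape_of_reflectsIsomorphisms
  apply isColimitOfReflects (forget AddCommGrpCat.{w})
  refine Types.FilteredColimit.isColimitOf' _ _ ?_ ?_
  · intro x
    let x' : M := x
    let N : FinSub M := ⟨AddSubgroup.closure {x'}, ⟨{x'}, by simp⟩⟩
    exact ⟨N, (⟨x', AddSubgroup.subset_closure rfl⟩ : N.1), rfl⟩
  · intro i x y h
    exact ⟨i, 𝟙 i, congrArg _ (Subtype.ext h)⟩

end groups

section main

variable {B : Type*} [Category* B] [Preadditive B]
  {F G : AddCommGrpCat.{w} ⥤ B} [F.Additive] [G.Additive] (η : F ⟶ G) (P : ℕ → Prop)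

theorem isIso_of_finite (hη : ∀ n, 0 < n → P n → IsIso (η.app (AddCommGrpCat.of (ULift.{w} (ZMod n)))))
    (hP : ∀ a b, a ∣ b → P b → P a) (M : Type w) [AddCommGroup M] [Finite M]
    (hM : ∀ m : M, ∃ n, 0 < n ∧ P n ∧ n • m = 0) : IsIso (η.app (AddCommGrpCat.of M)) := by
  classical
  obtain ⟨ι, hι, p, hp, e, ⟨φ⟩⟩ := AddCommGroup.equiv_directSum_zmod_of_finite M
  have hP' : ∀ i, P (p i ^ e i) := by
    intro i
    obtain ⟨n, hn, hPn, hnm⟩ := hM (φ.symm (DirectSum.of (fun i => ZMod (p i ^ e i)) i 1))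
    rw [← map_nsmul, EmbeddingLike.map_eq_zero_iff] at hnm
    have h2 := congrArg (fun f => f i) hnm
    have h3 : ((n : ℕ) : ZMod (p i ^ e i)) = 0 := by
      simpa [DirectSum.smul_apply] using h2
    exact hP _ n ((ZMod.natCast_eq_zero_iff _ _).1 h3) hPn
  have : ∀ i, IsIso (η.app (AddCommGrpCat.of (ULift.{w} (ZMod (p i ^ e i))))) := fun i =>
    hη _ (pow_pos (hp i).pos _) (hP' i)
  refine isIso_of_decomp η Finset.univ (AddCommGrpCat.of M)
    (fun i => AddCommGrpCat.of (ULift.{w} (ZMod (p i ^ e i))))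
    (fun i => AddCommGrpCat.ofHom ((AddEquiv.ulift.symm.toAddMonoidHom.comp
      (DFinsupp.evalAddMonoidHom i)).comp φ.toAddMonoidHom))
    (fun i => AddCommGrpCat.ofHom (φ.symm.toAddMonoidHom.comp
      ((DirectSum.of (fun i => ZMod (p i ^ e i)) i).comp AddEquiv.ulift.toAddMonoidHom))) ?_
  ext m
  apply φ.injective
  change φ ((AddCommGrpCat.Hom.hom (∑ i, _ : AddCommGrpCat.of M ⟶ AddCommGrpCat.of M)) m) = φ m
  have hs : ∀ (f : ι → (AddCommGrpCat.of M ⟶ AddCommGrpCat.of M)), (∑ i, f i).hom = ∑ i, (f i).hom :=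
    fun f => map_sum (AddCommGrpCat.homAddEquiv (M := AddCommGrpCat.of M) (N := AddCommGrpCat.of M)) f _
  rw [hs, AddMonoidHom.finsetSum_apply, map_sum]
  have : ∀ i ∈ (Finset.univ : Finset ι), φ ((AddCommGrpCat.Hom.hom
      (AddCommGrpCat.ofHom ((AddEquiv.ulift.symm.toAddMonoidHom.comp
      (DFinsupp.evalAddMonoidHom i)).comp φ.toAddMonoidHom) ≫ AddCommGrpCat.ofHom (φ.symm.toAddMonoidHom.comp
      ((DirectSum.of (fun i => ZMod (p i ^ e i)) i).comp AddEquiv.ulift.toAddMonoidHom)))) m) =
      DirectSum.of (fun i => ZMod (p i ^ e i)) i (φ m i) := by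
    intro i _
    exact φ.apply_symm_apply _
  rw [Finset.sum_congr rfl this]
  exact DirectSum.sum_univ_of (φ m)

theorem isIso_of_torsion
    (hF : ∀ (J : Type w) [SmallCategory J] [IsFiltered J], PreservesColimitsOfShape J F)
    (hG : ∀ (J : Type w) [SmallCategory J] [IsFiltered J], PreservesColimitsOfShape J G)
    (hη : ∀ n, 0 < n → P n → IsIso (η.app (AddCommGrpCat.of (ULift.{w} (ZMod n)))))
    (hP : ∀ a b, a ∣ b → P b → P a) (M : Type w) [AddCommGroup M]
    (hM : ∀ m : M, ∃ n, 0 < n ∧ P n ∧ n • m = 0) : IsIso (η.app (AddCommGrpCat.of M)) := by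
  have := hF (FinSub M)
  have := hG (FinSub M)
  have h : ∀ j, IsIso (η.app ((diag M).obj j)) := by
    intro N
    have h1 : ∀ m : N.1, ∃ n, 0 < n ∧ P n ∧ n • m = 0 := by
      intro m
      obtain ⟨n, hn, hPn, hnm⟩ := hM m
      exact ⟨n, hn, hPn, Subtype.ext hnm⟩
    have : AddGroup.FG N.1 := (AddGroup.fg_iff_addSubgroup_fg _).2 N.2
    have : Finite N.1 := AddCommGroup.finite_of_fg_isAddTorsion _ (fun m => by
      obtain ⟨n, hn, -, hnm⟩ := h1 m
      exact isOfFinAddOrder_iff_nsmul_eq_zero.2 ⟨n, hn, hnm⟩)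
    exact isIso_of_finite η P hη hP N.1 h1
  exact isIso_of_isColimit η (diag M) (cocone M) (isColimitCocone M)

end main

end Groth.Agent.Etrest.TorsReduce
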