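import Groth.Agent.Etrest.HpullConst
import Groth.Agent.Etrest.TorsReduce

/-!
# `Hpull` is bijective for torsion constant sheaves between two schemes with the cohomology of a point
-/

set_option autoImplicit false
universe u
open CategoryTheory CategoryTheory.Limits AlgebraicGeometry Opposite

namespace Groth.Agent.Etrest.HpullTors

open HpullConst

/-- `X` has the cohomology of a point with coefficients `Z/n`. -/
def IsPointLike (X : Scheme.{u}) (n : ℕ) : Prop :=
  (∀ q : ℕ, 0 < q → Subsingleton (EtCoh.H X (EtCoh.const X (ZMod n)) q)) ∧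
    Nonempty (EtCoh.H X (EtCoh.const X (ZMod n)) 0 ≃+ ZMod n)

/-- Cohomology of `X` commutes with filtered colimits of the size of the value universe. -/
def CohColim (X : Scheme.{u}) : Prop :=
  ∀ (n : ℕ) (J : Type (u + 1)) [SmallCategory J] [IsFiltered J],
    PreservesColimitsOfShape J (EtCoh.HF X n)

instance constU_additive (X : Scheme.{u}) : (constU X).Additive := by
  have : (constantSheaf X.smallEtaleTopology AddCommGrpCat.{u + 1}).Additive := by
    unfold constantSheaf
    infer_instance
  exact this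

instance constU_isLeftAdjoint (X : Scheme.{u}) : (constU X).IsLeftAdjoint :=
  (constantSheafAdj X.smallEtaleTopology AddCommGrpCat.{u + 1}
    (EtCore.topIsTerminal X)).isLeftAdjoint

instance pull_isLeftAdjoint {X Y : Scheme.{u}} (f : X ⟶ Y) : (EtCoh.pull f).IsLeftAdjoint :=
  (EtCoh.pullPushAdj f).isLeftAdjoint

theorem bijective_zmod {X Y : Scheme.{u}} (f : X ⟶ Y) [PreservesFiniteLimits (EtCoh.pull f)]
    (n : ℕ) (hn : 0 < n) (hX : IsPointLike X n) (hY : IsPointLike Y n) (q : ℕ) :
    Function.Bijective (EtCore.Hpull f (EtCoh.const Y (ZMod n)) q) := by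
  rcases Nat.eq_zero_or_pos q with rfl | hq
  · have : NeZero n := ⟨hn.ne'⟩
    have h1 : ∀ Z : Scheme.{u}, IsPointLike Z n → IsIso ((constantSheafAdj Z.smallEtaleTopology
        AddCommGrpCat.{u + 1} (EtCore.topIsTerminal Z)).unit.app
          (AddCommGrpCat.of (ULift.{u + 1} (ZMod n)))) := fun Z hZ =>
      (isIso_unit_iff Z (ULift.{u + 1} (ZMod n)) (EtCore.topIsTerminal Z)).2
        (bijective_const_of_equiv Z (ZMod n) hZ.2)
    exact bijective_Hpull_zero_const f (AddCommGrpCat.of (ULift.{u + 1} (ZMod n)))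
      (constU_map_bijective X _ _ (EtCore.topIsTerminal X) (h1 X hX))
      (constU_map_bijective Y _ _ (EtCore.topIsTerminal Y) (h1 Y hY))
  · have h1 := hX.1 q hq
    have h2 := hY.1 q hq
    have e := ((EtCoh.HF X q).mapIso (EtCore.pullConst f (ZMod n))).addCommGroupIsoToAddEquiv
    have h3 : Subsingleton (EtCoh.H X ((EtCoh.pull f).obj (EtCoh.const Y (ZMod n))) q) :=
      @Function.Injective.subsingleton _ _ _ e.injective h1
    exact ⟨fun a b _ => Subsingleton.elim _ _, fun b => ⟨0, Subsingleton.elim _ _⟩⟩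

theorem bijective_Hpull_constU {X Y : Scheme.{u}} (f : X ⟶ Y) [PreservesFiniteLimits (EtCoh.pull f)]
    (hcX : CohColim X) (hcY : CohColim Y) (P : ℕ → Prop) (hP : ∀ a b, a ∣ b → P b → P a)
    (hX : ∀ n, P n → IsPointLike X n) (hY : ∀ n, P n → IsPointLike Y n)
    (M : Type (u + 1)) [AddCommGroup M] (hM : ∀ m : M, ∃ n, 0 < n ∧ P n ∧ n • m = 0) (q : ℕ) :
    Function.Bijective (EtCore.Hpull f ((constU Y).obj (AddCommGrpCat.of M)) q) := by
  rw [← isIso_HpullNat_app_iff]
  refine TorsReduce.isIso_of_torsion (Functor.whiskerLeft (constU Y) (HpullNat f q)) P ?_ ?_ ?_ hP M hM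
  · intro J _ _
    have := hcY q J
    infer_instance
  · intro J _ _
    have := hcX q J
    infer_instance
  · intro n hn hPn
    exact (isIso_HpullNat_app_iff f q (EtCoh.const Y (ZMod n))).2
      (bijective_zmod f n hn (hX n hPn) (hY n hPn) q)

end Groth.Agent.Etrest.HpullTors
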