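import Groth.Prelude.Def_EtRestW
import Groth.Agent.Etrest.ConstBasic
import Groth.Agent.EtpbcA.PullFLC
import Groth.Agent.Etbase.StrictHensPoint
import Groth.Agent.EtpbcA.Germ

/-!
# Locally constant abelian sheaves: pullback; they are constant over strictly henselian local rings
-/

set_option autoImplicit false
universe u
open CategoryTheory CategoryTheory.Limits AlgebraicGeometry Opposite

namespace Groth.Agent.Etrest.LCConst

/-- The constant sheaf with values in any abelian group of the value universe. -/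
noncomputable abbrev constU (X : Scheme.{u}) : AddCommGrpCat.{u + 1} ⥤ EtCoh.Ab X :=
  constantSheaf X.smallEtaleTopology AddCommGrpCat.{u + 1}

theorem isLocallyConstant_of_iso {X : Scheme.{u}} {F G : EtCoh.Ab X} (e : F ≅ G)
    (hF : EtRest.IsLocallyConstant F) : EtRest.IsLocallyConstant G := by
  obtain ⟨ι, U, hU, h⟩ := hF
  refine ⟨ι, U, hU, fun i => ?_⟩
  obtain ⟨M, i1, ⟨e'⟩⟩ := h i
  exact ⟨M, i1, ⟨((X.smallEtaleTopology.overPullback AddCommGrpCat.{u + 1} (U i)).mapIso e).symm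
    ≪≫ e'⟩⟩

theorem isLocallyConstant_pull {X Y : Scheme.{u}} (f : X ⟶ Y) (F : EtCoh.Ab Y)
    (hF : EtRest.IsLocallyConstant F) : EtRest.IsLocallyConstant ((EtCoh.pull f).obj F) := by
  obtain ⟨ι, U, hU, h⟩ := hF
  refine ⟨ι, fun i => (EtCoh.bc f).obj (U i), EtpbcA.PullFLC.covers_bc f U hU, fun i => ?_⟩
  obtain ⟨M, i1, ⟨e'⟩⟩ := h i
  exact ⟨M, i1, ⟨(EtpbcA.PullFLC.pullOverPullback f (U i)).app F ≪≫
    (EtpbcA.PullFLC.pullOver f (U i)).mapIso e' ≪≫ EtpbcA.PullFLC.pullOverConst f (U i) _⟩⟩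

theorem nonempty_iso_of_over {X : Scheme.{u}} {F G : EtCoh.Ab X} {U T : X.Etale}
    (hT : IsTerminal T) (s : T ⟶ U) (e : F.over U ≅ G.over U) : Nonempty (F ≅ G) := by
  let e' := (sheafToPresheaf (X.smallEtaleTopology.over U) AddCommGrpCat.{u + 1}).mapIso e
  refine ⟨(sheafToPresheaf X.smallEtaleTopology AddCommGrpCat.{u + 1}).preimageIso
    (NatIso.ofComponents (fun V => e'.app (op (Over.mk (hT.from V.unop ≫ s)))) ?_)⟩
  intro V W g
  have hg : g.unop ≫ hT.from V.unop ≫ s = hT.from W.unop ≫ s := by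
    rw [← Category.assoc]
    congr 1
    exact hT.hom_ext _ _
  exact e'.hom.naturality (Over.homMk g.unop hg :
    Over.mk (hT.from W.unop ≫ s) ⟶ Over.mk (hT.from V.unop ≫ s)).op

theorem exists_iso_const (R : Type u) [CommRing R] [HenselianLocalRing R]
    [IsSepClosed (IsLocalRing.ResidueField R)] (F : EtCoh.Ab (Spec (CommRingCat.of R)))
    (hF : EtRest.IsLocallyConstant F) :
    ∃ (M : Type (u + 1)) (_ : AddCommGroup M),
      Nonempty (F ≅ (constU (Spec (CommRingCat.of R))).obj (AddCommGrpCat.of M)) := by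
  obtain ⟨ι, U, hU, h⟩ := hF
  obtain ⟨i, y, hy⟩ := hU (Etbase.StrictHensPoint.pt R default)
  obtain ⟨M, i1, ⟨e⟩⟩ := h i
  obtain ⟨t, -, -⟩ := EtpbcA.Germ.exists_lift (Etbase.StrictHensPoint.pt R)
    ((ConstBasic.isTerminalTop (Spec (CommRingCat.of R))).from (U i))
    (Etbase.StrictHensPoint.elt R) y (by
      have h1 : ((ConstBasic.isTerminalTop (Spec (CommRingCat.of R))).from (U i)).left = (U i).hom :=
        (Category.comp_id _).symm.trans
          (MorphismProperty.Over.w ((ConstBasic.isTerminalTop (Spec (CommRingCat.of R))).from (U i)))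
      rw [h1]
      exact hy)
  obtain ⟨s, -⟩ := Etbase.StrictHensPoint.exists_section R (U i) t
  refine ⟨M, i1, nonempty_iso_of_over (ConstBasic.isTerminalTop _) s (e ≪≫
    ((ConstBasic.constOver (U i)).app (AddCommGrpCat.of M)).symm)⟩

end Groth.Agent.Etrest.LCConst
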