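import Groth.Agent.Etrest.HpullTors
import Groth.Agent.Etrest.LCConst
import Groth.Agent.Etrest.SHPoint
import Groth.Agent.Etbase.EtColimBig
import Groth.Agent.Etbase.StalkPull

/-!
# `Hpull` out of a strictly henselian local scheme, locally constant coefficients
-/

set_option autoImplicit false
universe u
open CategoryTheory CategoryTheory.Limits AlgebraicGeometry Opposite

namespace Groth.Agent.Etrest.HpullTors2

open HpullConst HpullTors

theorem cohColim (X : Scheme.{u}) [CompactSpace X] [QuasiSeparatedSpace X] : CohColim X :=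
  fun n J _ _ => Etbase.EtColimBig.preservesColimits_HF_big X J n

theorem connectedSpace_of_isLocalRing (R : Type u) [CommRing R] [IsLocalRing R] :
    ConnectedSpace (Spec (CommRingCat.of R)) := by
  have h : _root_.IsPreconnected (Set.univ : Set (PrimeSpectrum R)) := by
    apply isPreconnected_of_forall (IsLocalRing.closedPoint R)
    intro y _
    refine ⟨closure {y}, Set.subset_univ _, ?_, subset_closure rfl, isPreconnected_singleton.closure⟩
    exact (IsLocalRing.specializes_closedPoint y).mem_closure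
  have h1 : PreconnectedSpace (Spec (CommRingCat.of R)) := ⟨h⟩
  exact ⟨⟨IsLocalRing.closedPoint R⟩⟩

/-- The spectrum of a strictly henselian local ring has the cohomology of a point. -/
theorem isPointLike_of_strictHens (R : Type u) [CommRing R] [HenselianLocalRing R]
    [IsSepClosed (IsLocalRing.ResidueField R)] (n : ℕ) : IsPointLike (Spec (CommRingCat.of R)) n := by
  have := connectedSpace_of_isLocalRing R
  exact ⟨fun q hq => Groth.Agent.S0073.result R _ q hq, SHPoint.nonempty_H0_const _ (ZMod n)⟩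

/-- The constants inject into the stalks of a constant sheaf. -/
theorem nsmul_eq_zero_of_stalk (X : Scheme.{u}) (M : Type (u + 1)) [AddCommGroup M]
    {Ω : Type u} [Field Ω] [IsSepClosed Ω] (ξ : Spec (CommRingCat.of Ω) ⟶ X)
    (P : ℕ → Prop) (h : ∀ s : (EtCoh.stalk ξ).obj ((constU X).obj (AddCommGrpCat.of M)),
      ∃ n : ℕ, 0 < n ∧ P n ∧ n • s = 0) (m : M) : ∃ n : ℕ, 0 < n ∧ P n ∧ n • m = 0 := by
  let e := (EtCoh.stalk ξ).mapIso (Sga4B.ConstLC.constIsoLC X M)
  let t : EtpbcA.Germ.Fib ξ (EtCoh.top X) := Over.homMk ξ (Category.comp_id _)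
  let s : EtCoh.sect (Sga4B.ConstLC.LC X M) (EtCoh.top X) :=
    (LocallyConstant.const (EtCoh.top X).left m : LocallyConstant (EtCoh.top X).left M)
  obtain ⟨n, hn, hPn, hns⟩ := h (e.inv (EtpbcA.Germ.germ ξ (Sga4B.ConstLC.LC X M) t s))
  refine ⟨n, hn, hPn, ?_⟩
  rw [← map_nsmul] at hns
  have h1 := congrArg e.hom hns
  rw [map_zero] at h1
  have h2 : e.hom (e.inv (n • EtpbcA.Germ.germ ξ (Sga4B.ConstLC.LC X M) t s)) =
      n • EtpbcA.Germ.germ ξ (Sga4B.ConstLC.LC X M) t s := by
    rw [← ConcreteCategory.comp_apply, e.inv_hom_id]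
    rfl
  rw [h2, ← map_nsmul, ← map_zero (EtpbcA.Germ.germ ξ (Sga4B.ConstLC.LC X M) t),
    EtpbcA.Germ.germ_eq_iff] at h1
  obtain ⟨V, g, v, -, hV⟩ := h1
  have h3 : (n • LocallyConstant.const V.left m : LocallyConstant V.left M) = 0 := by
    refine Eq.trans ?_ (hV.trans (map_zero _))
    rw [map_nsmul]
    rfl
  exact DFunLike.congr_fun h3 (EtpbcA.Germ.pt ξ v)

/-- `Hpull` from a strictly henselian local scheme `Y`, for a locally constant sheaf with torsion
stalk of orders in `P`, is bijective if the source has the `Z/n`-cohomology of a point, `n ∈ P`. -/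
theorem bijective_Hpull (R : Type u) [CommRing R] [HenselianLocalRing R]
    [IsSepClosed (IsLocalRing.ResidueField R)] {V : Scheme.{u}} [CompactSpace V]
    [QuasiSeparatedSpace V] (h : V ⟶ Spec (CommRingCat.of R)) [PreservesFiniteLimits (EtCoh.pull h)]
    (P : ℕ → Prop) (hP : ∀ a b, a ∣ b → P b → P a) (hV : ∀ n, P n → IsPointLike V n)
    (F : EtCoh.Ab (Spec (CommRingCat.of R))) (hF : EtRest.IsLocallyConstant F)
    (hs : ∀ s : (EtCoh.stalk (Etbase.StrictHensPoint.pt R)).obj F, ∃ n : ℕ, 0 < n ∧ P n ∧ n • s = 0)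
    (q : ℕ) : Function.Bijective (EtCore.Hpull h F q) := by
  obtain ⟨M, _, ⟨e⟩⟩ := LCConst.exists_iso_const R F hF
  rw [bijective_Hpull_iff_of_iso h q e]
  refine bijective_Hpull_constU h (cohColim V) (cohColim _) P hP hV
    (fun n _ => isPointLike_of_strictHens R n) M ?_ q
  refine nsmul_eq_zero_of_stalk (Spec (CommRingCat.of R)) M (Etbase.StrictHensPoint.pt R) P ?_
  intro s
  let e' := (EtCoh.stalk (Etbase.StrictHensPoint.pt R)).mapIso e
  obtain ⟨n, hn, hPn, hns⟩ := hs (e'.inv s)
  refine ⟨n, hn, hPn, ?_⟩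
  rw [← map_nsmul] at hns
  have h1 := congrArg e'.hom hns
  rw [map_zero, ← ConcreteCategory.comp_apply, e'.inv_hom_id] at h1
  exact h1

end Groth.Agent.Etrest.HpullTors2
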