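import Groth.Agent.Etrest.FrameLim
import Groth.Agent.Proet.IndFlat
import Groth.Agent.Proet.WEtaleScheme

/-!
# Spectra of ind-etale algebras as cofiltered limits in the small pro-etale site
-/

set_option autoImplicit false
universe w v₁ u₁ v₂ u₂ u
open CategoryTheory CategoryTheory.Limits Opposite AlgebraicGeometry

namespace Groth.Agent.Etrest.IndEtLim

open LCMod ProLim

variable {X : Scheme.{u}} {A : CommRingCat.{u}} (h : Spec A ⟶ X) [WeaklyEtale h]

/-- The spectrum of a weakly etale algebra. -/
noncomputable def specObj (B : Under A) (hB : WeaklyEtale (Spec.map B.hom)) : X.ProEt :=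
  Scheme.ProEt.mk (Spec.map B.hom ≫ h)

/-- Functoriality of the spectrum. -/
noncomputable def specMap {B B' : Under A} (hB : WeaklyEtale (Spec.map B.hom))
    (hB' : WeaklyEtale (Spec.map B'.hom)) (f : B ⟶ B') : specObj h B' hB' ⟶ specObj h B hB :=
  MorphismProperty.Over.homMk (Spec.map f.right) (by
    change Spec.map f.right ≫ Spec.map B.hom ≫ h = Spec.map B'.hom ≫ h
    rw [← Category.assoc, ← Spec.map_comp, Under.w])

theorem specMap_left {B B' : Under A} (hB : WeaklyEtale (Spec.map B.hom))
    (hB' : WeaklyEtale (Spec.map B'.hom)) (f : B ⟶ B') : (specMap h hB hB' f).left = Spec.map f.right := rfl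

/-- The projection to the base. -/
noncomputable def specP (B : Under A) (hB : WeaklyEtale (Spec.map B.hom)) :
    specObj h B hB ⟶ Scheme.ProEt.mk h :=
  MorphismProperty.Over.homMk (Spec.map B.hom) rfl

theorem specMap_P {B B' : Under A} (hB : WeaklyEtale (Spec.map B.hom))
    (hB' : WeaklyEtale (Spec.map B'.hom)) (f : B ⟶ B') :
    specMap h hB hB' f ≫ specP h B hB = specP h B' hB' := by
  apply MorphismProperty.Over.Hom.ext
  change Spec.map f.right ≫ Spec.map B.hom = Spec.map B'.hom
  rw [← Spec.map_comp, Under.w]

variable {J : Type u} [SmallCategory J] (D : J ⥤ Under A)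
  (hD : ∀ j, WeaklyEtale (Spec.map (D.obj j).hom)) (c : Cocone D)
  (hc' : WeaklyEtale (Spec.map c.pt.hom))

/-- The diagram of spectra. -/
noncomputable def specD : Jᵒᵖ ⥤ X.ProEt where
  obj j := specObj h (D.obj j.unop) (hD _)
  map φ := specMap h _ _ (D.map φ.unop)
  map_id j := by
    apply MorphismProperty.Over.Hom.ext
    change Spec.map (D.map (𝟙 _)).right = 𝟙 _
    rw [D.map_id]
    exact Spec.map_id _
  map_comp φ ψ := by
    apply MorphismProperty.Over.Hom.ext
    change Spec.map (D.map _).right = Spec.map _ ≫ Spec.map _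
    rw [← Spec.map_comp, unop_comp, D.map_comp]
    rfl

/-- The cone of spectra. -/
noncomputable def specCone : Cone (specD h D hD) where
  pt := specObj h c.pt hc'
  π :=
    { app j := specMap h (hD j.unop) hc' (c.ι.app j.unop)
      naturality i j φ := by
        apply MorphismProperty.Over.Hom.ext
        change 𝟙 _ ≫ Spec.map (c.ι.app j.unop).right =
          Spec.map (c.ι.app i.unop).right ≫ Spec.map (D.map φ.unop).right
        rw [← Spec.map_comp, Category.id_comp, ← c.w φ.unop]
        rfl }

theorem adm_specCone [IsFiltered J] (hc : IsColimit c) :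
    Adm (specD h D hD) (specCone h D hD c hc') where
  lim := by
    have h1 := isColimitOfPreserves (Under.forget A) hc
    have h2 := isLimitOfPreserves Scheme.Spec h1.op
    let s' : Cone (specD h D hD ⋙ fP X) → Cone ((D ⋙ Under.forget A).op ⋙ Scheme.Spec) := fun s =>
      { pt := s.pt
        π := { app := fun j => s.π.app j, naturality := fun i j φ => s.π.naturality φ } }
    exact ⟨{ lift := fun s => h2.lift (s' s)
             fac := fun s j => h2.fac (s' s) j
             uniq := fun s m hm => h2.uniq (s' s) m hm }⟩
  aff j := inferInstanceAs (IsAffine (Spec _))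

end Groth.Agent.Etrest.IndEtLim
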