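import Mathlib.AlgebraicGeometry.AffineTransitionLimit
import Mathlib.Topology.LocallyConstant.Basic

/-!
# Locally constant functions on cofiltered limits of affine schemes
-/

set_option autoImplicit false
universe u
open CategoryTheory CategoryTheory.Limits AlgebraicGeometry TopologicalSpace

namespace Groth.Agent.Etrest.LCLim

variable {I : Type u} [Category.{u} I] [IsCofiltered I] (D : I ⥤ Scheme.{u}) (c : Cone D) (hc : IsLimit c)
  [∀ i, IsAffine (D.obj i)]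

omit [IsCofiltered I] [∀ i, IsAffine (D.obj i)] in
theorem π_map_apply {i j : I} (φ : i ⟶ j) (x : c.pt) : D.map φ (c.π.app i x) = c.π.app j x := by
  rw [← Scheme.Hom.comp_apply, c.w]

include hc in
theorem lc_inj {Z : Type*} {i : I} (f g : LocallyConstant (D.obj i) Z)
    (h : ∀ x : c.pt, f (c.π.app i x) = g (c.π.app i x)) :
    ∃ (j : I) (φ : j ⟶ i), ∀ x : D.obj j, f (D.map φ x) = g (D.map φ x) := by
  have : CompactSpace (D.obj i) := inferInstance
  have hcl : IsClopen {x | f x = g x} := by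
    have h1 : IsLocallyConstant fun x => (f x, g x) := f.isLocallyConstant.prodMk g.isLocallyConstant
    exact ⟨⟨by simpa [Set.preimage, Set.compl_def] using h1 {p | p.1 ≠ p.2}⟩,
      by simpa [Set.preimage] using h1 {p | p.1 = p.2}⟩
  let U : (D.obj i).Opens := ⟨{x | f x = g x}, hcl.2⟩
  have hU : IsCompact (U : Set (D.obj i)) := hcl.1.isCompact
  obtain ⟨j, φ, hj⟩ := exists_map_preimage_eq_map_preimage D c hc (U := U) (V := ⊤) hU
    (by simpa using isCompact_univ) (by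
      ext x
      simpa [U] using h x)
  refine ⟨j, φ, fun x => ?_⟩
  have : x ∈ D.map φ ⁻¹ᵁ U := by rw [hj]; trivial
  exact this

include hc in
theorem exists_clopen (U : Set c.pt) (hU : IsClopen U) :
    ∃ (i : I) (V : Set (D.obj i)), IsClopen V ∧ ∀ x : c.pt, c.π.app i x ∈ V ↔ x ∈ U := by
  have : CompactSpace c.pt := Scheme.compactSpace_of_isLimit D c hc
  obtain ⟨i, V, hV, hVU⟩ := exists_preimage_eq D c hc ⟨U, hU.2⟩ hU.1.isCompact
  obtain ⟨j, W, hW, hWU⟩ := exists_preimage_eq D c hc ⟨Uᶜ, hU.1.isOpen_compl⟩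
    hU.compl.1.isCompact
  obtain ⟨k, a, b, -⟩ := IsCofilteredOrEmpty.cone_objs i j
  have hV' : IsCompact ((D.map a ⁻¹ᵁ V : (D.obj k).Opens) : Set (D.obj k)) :=
    QuasiCompact.isCompact_preimage (f := D.map a) _ V.2 hV
  have hW' : IsCompact ((D.map b ⁻¹ᵁ W : (D.obj k).Opens) : Set (D.obj k)) :=
    QuasiCompact.isCompact_preimage (f := D.map b) _ W.2 hW
  have e1 : ∀ x : c.pt, c.π.app k x ∈ D.map a ⁻¹ᵁ V ↔ x ∈ U := by
    intro x
    have : x ∈ c.π.app i ⁻¹ᵁ V ↔ x ∈ U := by rw [hVU]; rfl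
    rw [← this]
    change D.map a (c.π.app k x) ∈ V ↔ c.π.app i x ∈ V
    rw [π_map_apply]
  have e2 : ∀ x : c.pt, c.π.app k x ∈ D.map b ⁻¹ᵁ W ↔ x ∉ U := by
    intro x
    have : x ∈ c.π.app j ⁻¹ᵁ W ↔ x ∉ U := by rw [hWU]; rfl
    rw [← this]
    change D.map b (c.π.app k x) ∈ W ↔ c.π.app j x ∈ W
    rw [π_map_apply]
  have hVW : IsCompact (((D.map a ⁻¹ᵁ V) ⊓ (D.map b ⁻¹ᵁ W) : (D.obj k).Opens) : Set (D.obj k)) :=
    QuasiSeparatedSpace.inter_isCompact _ _ (D.map a ⁻¹ᵁ V).2 hV' (D.map b ⁻¹ᵁ W).2 hW'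
  have hVW' : IsCompact (((D.map a ⁻¹ᵁ V) ⊔ (D.map b ⁻¹ᵁ W) : (D.obj k).Opens) : Set (D.obj k)) :=
    hV'.union hW'
  obtain ⟨l₁, φ₁, h₁⟩ := exists_map_preimage_eq_map_preimage D c hc hVW (V := ⊥)
    (by simp) (by
      ext x
      change (c.π.app k x ∈ D.map a ⁻¹ᵁ V ∧ c.π.app k x ∈ D.map b ⁻¹ᵁ W) ↔ False
      rw [e1, e2]
      tauto)
  obtain ⟨l₂, φ₂, h₂⟩ := exists_map_preimage_eq_map_preimage D c hc hVW' (V := ⊤)
    (by simpa using isCompact_univ) (by
      ext x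
      change (c.π.app k x ∈ D.map a ⁻¹ᵁ V ∨ c.π.app k x ∈ D.map b ⁻¹ᵁ W) ↔ True
      rw [e1, e2]
      tauto)
  obtain ⟨m, p, q, hpq⟩ := IsCofiltered.cospan φ₁ φ₂
  refine ⟨m, D.map (p ≫ φ₁) ⁻¹' (D.map a ⁻¹ᵁ V : (D.obj k).Opens), ⟨?_, ?_⟩, fun x => ?_⟩
  · have : D.map (p ≫ φ₁) ⁻¹' (D.map a ⁻¹ᵁ V : (D.obj k).Opens) =
        (D.map (p ≫ φ₁) ⁻¹' (D.map b ⁻¹ᵁ W : (D.obj k).Opens))ᶜ := by
      ext x
      have h1 : D.map p x ∉ D.map φ₁ ⁻¹ᵁ ((D.map a ⁻¹ᵁ V) ⊓ (D.map b ⁻¹ᵁ W)) := by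
        rw [h₁]; exact fun h => h
      have h2 : D.map q x ∈ D.map φ₂ ⁻¹ᵁ ((D.map a ⁻¹ᵁ V) ⊔ (D.map b ⁻¹ᵁ W)) := by
        rw [h₂]; trivial
      have h3 : D.map φ₁ (D.map p x) = D.map (p ≫ φ₁) x := by
        rw [D.map_comp, Scheme.Hom.comp_apply]
      have h4 : D.map φ₂ (D.map q x) = D.map (p ≫ φ₁) x := by
        rw [hpq, D.map_comp, Scheme.Hom.comp_apply]
      change ¬ (D.map φ₁ (D.map p x) ∈ D.map a ⁻¹ᵁ V ∧ D.map φ₁ (D.map p x) ∈ D.map b ⁻¹ᵁ W) at h1
      change (D.map φ₂ (D.map q x) ∈ D.map a ⁻¹ᵁ V ∨ D.map φ₂ (D.map q x) ∈ D.map b ⁻¹ᵁ W) at h2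
      rw [h3] at h1
      rw [h4] at h2
      change (D.map (p ≫ φ₁) x ∈ D.map a ⁻¹ᵁ V) ↔ ¬ (D.map (p ≫ φ₁) x ∈ D.map b ⁻¹ᵁ W)
      tauto
    rw [this, isClosed_compl_iff]
    exact (D.map b ⁻¹ᵁ W).2.preimage (D.map (p ≫ φ₁)).continuous
  · exact (D.map a ⁻¹ᵁ V).2.preimage (D.map (p ≫ φ₁)).continuous
  · change D.map (p ≫ φ₁) (c.π.app m x) ∈ D.map a ⁻¹ᵁ V ↔ _
    rw [π_map_apply, e1]

include hc in
theorem lc_surj {Z : Type*} (t : LocallyConstant c.pt Z) :
    ∃ (i : I) (f : LocallyConstant (D.obj i) Z), ∀ x : c.pt, f (c.π.app i x) = t x := by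
  classical
  have : CompactSpace c.pt := Scheme.compactSpace_of_isLimit D c hc
  by_cases hne : Nonempty c.pt
  · obtain ⟨x₀⟩ := hne
    have key : ∀ l : List Z, ∃ (i : I) (f : LocallyConstant (D.obj i) Z),
        ∀ x : c.pt, t x ∈ l → f (c.π.app i x) = t x := by
      intro l
      induction l with
      | nil =>
        obtain ⟨i⟩ := IsCofiltered.nonempty (C := I)
        exact ⟨i, LocallyConstant.const _ (t x₀), by simp⟩
      | cons z l ih =>
        obtain ⟨i, f, hf⟩ := ih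
        obtain ⟨j, V, hV, hV'⟩ := exists_clopen D c hc (t ⁻¹' {z})
          (t.isLocallyConstant.isClopen_fiber z)
        obtain ⟨k, a, b, -⟩ := IsCofilteredOrEmpty.cone_objs i j
        let W : Set (D.obj k) := D.map b ⁻¹' V
        have hW : IsClopen W := hV.preimage (D.map b).continuous
        let g : D.obj k → Z := fun x => if x ∈ W then z else f (D.map a x)
        have hg : IsLocallyConstant g := by
          rw [IsLocallyConstant.iff_exists_open]
          intro x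
          by_cases hx : x ∈ W
          · exact ⟨W, hW.2, hx, fun y hy => by simp [g, hx, hy]⟩
          · obtain ⟨O, hO, hxO, hO'⟩ := f.isLocallyConstant.exists_open (D.map a x)
            refine ⟨Wᶜ ∩ D.map a ⁻¹' O, hW.compl.2.inter (hO.preimage (D.map a).continuous),
              ⟨hx, hxO⟩, fun y hy => ?_⟩
            have hy1 : y ∉ W := hy.1
            simp only [g, hx, hy1, if_false]
            exact hO' _ hy.2
        refine ⟨k, ⟨g, hg⟩, fun x hx => ?_⟩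
        have hb : (c.π.app k x ∈ W) ↔ t x = z := by
          change D.map b (c.π.app k x) ∈ V ↔ _
          rw [π_map_apply, hV']
          rfl
        change (if c.π.app k x ∈ W then z else f (D.map a (c.π.app k x))) = t x
        by_cases h : t x = z
        · rw [if_pos (hb.2 h), h]
        · rw [if_neg (fun h' => h (hb.1 h')), π_map_apply]
          exact hf x ((List.mem_cons.1 hx).resolve_left h)
    obtain ⟨i, f, hf⟩ := key (t.range_finite.toFinset.toList)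
    exact ⟨i, f, fun x => hf x (by simp)⟩
  · have : ∃ i, IsEmpty (D.obj i) := by
      by_contra! h
      exact hne (Scheme.nonempty_of_isLimit D c hc)
    obtain ⟨i, hi⟩ := this
    exact ⟨i, ⟨fun x => hi.elim x, fun s => by
      convert isOpen_empty
      ext x
      exact hi.elim x⟩, fun x => (hne ⟨x⟩).elim⟩

end Groth.Agent.Etrest.LCLim
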