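import Groth.Agent.Etrest.EpsLoc
import Groth.Agent.Etrest.LCLim

/-!
# Morphisms between sheaves of locally constant functions, and frames

For a sheaf of modules `G` on the small pro-etale site and an object `Y`, a linear map `M → G(Y)` is the same as a
morphism from the sheaf of locally constant `M`-valued functions on the slice over `Y` to the restriction of `G`.
-/

set_option autoImplicit false
universe v₁ u₁ u
open CategoryTheory CategoryTheory.Limits Opposite AlgebraicGeometry

namespace Groth.Agent.Etrest.LCHom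

open LCMod EpsLoc

section Lin

variable (Λ : Type*) [CommRing Λ] {M N P : Type*} [AddCommGroup M] [Module Λ M]
  [AddCommGroup N] [Module Λ N] [AddCommGroup P] [Module Λ P]

/-- The linear map `f ↦ (y ↦ h y (f y))` on locally constant functions. -/
def evalLin {Y : Type*} [TopologicalSpace Y] (h : LocallyConstant Y (M →ₗ[Λ] N)) :
    LocallyConstant Y M →ₗ[Λ] LocallyConstant Y N where
  toFun f := ⟨fun y => h y (f y),
    (h.isLocallyConstant.prodMk f.isLocallyConstant).comp (fun p => p.1 p.2)⟩
  map_add' f g := by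
    ext y
    simp
  map_smul' a f := by
    ext y
    simp

variable {Λ}

/-- A linear map from a finite module to locally constant functions is a locally constant function with values
in linear maps. -/
def toLCHom [Module.Finite Λ M] {Y : Type*} [TopologicalSpace Y]
    (φ : M →ₗ[Λ] LocallyConstant Y N) : LocallyConstant Y (M →ₗ[Λ] N) where
  toFun y := { toFun m := φ m y, map_add' a b := by simp, map_smul' a b := by simp }
  isLocallyConstant := by
    rw [IsLocallyConstant.iff_exists_open]
    intro y
    obtain ⟨s, hs⟩ := (Module.Finite.fg_top (R := Λ) (M := M))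
    refine ⟨⋂ m ∈ s, (φ m) ⁻¹' {φ m y}, ?_, by simp, fun z hz => ?_⟩
    · exact isOpen_biInter_finset fun m _ => (φ m).isLocallyConstant _
    · apply LinearMap.ext_on (s := (s : Set M)) (by rw [hs])
      intro m hm
      simp only [Set.mem_iInter] at hz
      exact hz m hm

@[simp] theorem toLCHom_apply [Module.Finite Λ M] {Y : Type*} [TopologicalSpace Y]
    (φ : M →ₗ[Λ] LocallyConstant Y N) (y : Y) (m : M) : toLCHom φ y m = φ m y := rfl

/-- The inverse construction. -/
def ofLCHom {Y : Type*} [TopologicalSpace Y] (h : LocallyConstant Y (M →ₗ[Λ] N)) :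
    M →ₗ[Λ] LocallyConstant Y N where
  toFun m := h.map (fun f => f m)
  map_add' a b := by
    ext y
    simp
  map_smul' a b := by
    ext y
    simp

@[simp] theorem ofLCHom_apply {Y : Type*} [TopologicalSpace Y] (h : LocallyConstant Y (M →ₗ[Λ] N))
    (m : M) (y : Y) : ofLCHom h m y = h y m := rfl

@[simp] theorem toLCHom_ofLCHom [Module.Finite Λ M] {Y : Type*} [TopologicalSpace Y]
    (h : LocallyConstant Y (M →ₗ[Λ] N)) : toLCHom (ofLCHom h) = h := by
  ext y m
  rfl

@[simp] theorem ofLCHom_toLCHom [Module.Finite Λ M] {Y : Type*} [TopologicalSpace Y]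
    (φ : M →ₗ[Λ] LocallyConstant Y N) : ofLCHom (toLCHom φ) = φ := by
  ext m y
  rfl

end Lin

section Good

variable (Λ : Type (u + 1)) [CommRing Λ] {M N P : Type (u + 1)} [AddCommGroup M] [Module Λ M]
  [AddCommGroup N] [Module Λ N] [AddCommGroup P] [Module Λ P]
variable {C : Type u₁} [Category.{v₁} C] {J : GrothendieckTopology C} {T : C ⥤ Scheme.{u}}
  [J.WEqualsLocallyBijective (ModuleCat.{u + 1} Λ)] (hJ : Good J T) {X : C} (hX : IsTerminal X)

variable {Λ} in
/-- The morphism of sheaves given by a locally constant family of linear maps. -/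
noncomputable def evalMap (h : LocallyConstant (T.obj X) (M →ₗ[Λ] N)) : hJ.LC Λ M ⟶ hJ.LC Λ N :=
  ObjectProperty.homMk
    { app W := ModuleCat.ofHom (evalLin Λ (h.comap (T.map (hX.from W.unop)).base.hom))
      naturality W W' g := by
        ext f
        refine LocallyConstant.ext fun y => ?_
        change h (T.map (hX.from W'.unop) y)
            ((show LocallyConstant (T.obj W.unop) M from f) (T.map g.unop y)) =
          h (T.map (hX.from W.unop) (T.map g.unop y))
            ((show LocallyConstant (T.obj W.unop) M from f) (T.map g.unop y))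
        rw [← Scheme.Hom.comp_apply, ← T.map_comp, hX.hom_ext (g.unop ≫ hX.from W.unop)
          (hX.from W'.unop)] }

omit [J.WEqualsLocallyBijective (ModuleCat.{u + 1} Λ)] in
theorem evalMap_app (h : LocallyConstant (T.obj X) (M →ₗ[Λ] N)) (W : C) :
    (evalMap hJ hX h).hom.app (op W) =
      ModuleCat.ofHom (evalLin Λ (h.comap (T.map (hX.from W)).base.hom)) := rfl

omit [J.WEqualsLocallyBijective (ModuleCat.{u + 1} Λ)] in
/-- The effect on constant functions at the terminal object. -/
theorem toLC_evalMap (h : LocallyConstant (T.obj X) (M →ₗ[Λ] N)) :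
    (toLC Λ M T).app (op X) ≫ (evalMap hJ hX h).hom.app (op X) = ModuleCat.ofHom (ofLCHom h) := by
  ext m
  refine LocallyConstant.ext fun y => ?_
  change h (T.map (hX.from X) y) m = h y m
  rw [hX.hom_ext (hX.from X) (𝟙 X), T.map_id]
  rfl

omit [J.WEqualsLocallyBijective (ModuleCat.{u + 1} Λ)] in
theorem evalMap_injective (h h' : LocallyConstant (T.obj X) (M →ₗ[Λ] N))
    (e : evalMap hJ hX h = evalMap hJ hX h') : h = h' := by
  have h1 := toLC_evalMap Λ hJ hX h
  rw [e, toLC_evalMap] at h1
  have h2 : ofLCHom h' = ofLCHom h := congrArg ModuleCat.Hom.hom h1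
  ext y m
  have h3 := congrArg (fun t : M →ₗ[Λ] LocallyConstant (T.obj X) N => t m y) h2
  exact h3.symm

omit [J.WEqualsLocallyBijective (ModuleCat.{u + 1} Λ)] in
theorem evalMap_comp (h : LocallyConstant (T.obj X) (M →ₗ[Λ] N))
    (h' : LocallyConstant (T.obj X) (N →ₗ[Λ] P)) :
    evalMap hJ hX h ≫ evalMap hJ hX h' = evalMap hJ hX
      ⟨fun y => h' y ∘ₗ h y, (h.isLocallyConstant.prodMk h'.isLocallyConstant).comp
        (fun p => p.2 ∘ₗ p.1)⟩ := rfl

omit [J.WEqualsLocallyBijective (ModuleCat.{u + 1} Λ)] in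
theorem evalMap_id : evalMap hJ hX (LocallyConstant.const _ (LinearMap.id : M →ₗ[Λ] M)) =
    𝟙 (hJ.LC Λ M) := rfl

variable [Module.Finite Λ M]

theorem evalMap_surjective (Ψ : hJ.LC Λ M ⟶ hJ.LC Λ N) : Ψ = evalMap hJ hX
    (toLCHom (M := M) (N := N) ((toLC Λ M T).app (op X) ≫ Ψ.hom.app (op X)).hom) := by
  apply (hJ.bijective_app Λ M (hJ.LC Λ N) hX).1
  change (toLC Λ M T).app (op X) ≫ _ = (toLC Λ M T).app (op X) ≫ _
  rw [toLC_evalMap]
  rw [ofLCHom_toLCHom]
  rfl

omit [Module.Finite Λ M] in
theorem isIso_evalMap_iff [Module.Finite Λ M] [Module.Finite Λ N] (h : LocallyConstant (T.obj X) (M →ₗ[Λ] N)) :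
    IsIso (evalMap hJ hX h) ↔ ∀ y, Function.Bijective (h y) := by
  constructor
  · intro hi y
    obtain ⟨h', e⟩ : ∃ h', inv (evalMap hJ hX h) = evalMap hJ hX h' :=
      ⟨_, evalMap_surjective Λ hJ hX _⟩
    have h1 := IsIso.hom_inv_id (evalMap hJ hX h)
    have h2 := IsIso.inv_hom_id (evalMap hJ hX h)
    rw [e, evalMap_comp, ← evalMap_id] at h1 h2
    have h3 := evalMap_injective Λ hJ hX _ _ h1
    have h4 := evalMap_injective Λ hJ hX _ _ h2
    have h5 : h' y ∘ₗ h y = LinearMap.id := congrArg (fun t : LocallyConstant (T.obj X) (M →ₗ[Λ] M) => t y) h3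
    have h6 : h y ∘ₗ h' y = LinearMap.id := congrArg (fun t : LocallyConstant (T.obj X) (N →ₗ[Λ] N) => t y) h4
    refine ⟨fun a b hab => ?_, fun b => ⟨h' y b, LinearMap.congr_fun h6 b⟩⟩
    have ha : h' y (h y a) = a := LinearMap.congr_fun h5 a
    have hb : h' y (h y b) = b := LinearMap.congr_fun h5 b
    rw [← ha, ← hb, hab]
  · intro hb
    classical
    let inv' : (M →ₗ[Λ] N) → (N →ₗ[Λ] M) := fun f =>
      if hf : Function.Bijective f then (LinearEquiv.ofBijective f hf).symm.toLinearMap else 0
    let h' : LocallyConstant (T.obj X) (N →ₗ[Λ] M) := h.map inv'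
    refine ⟨evalMap hJ hX h', ?_, ?_⟩
    · rw [evalMap_comp, ← evalMap_id]
      congr 1
      ext y m
      change inv' (h y) (h y m) = m
      simp only [inv', dif_pos (hb y)]
      exact (LinearEquiv.ofBijective (h y) (hb y)).symm_apply_apply m
    · rw [evalMap_comp, ← evalMap_id]
      congr 1
      ext y m
      change h y (inv' (h y) m) = m
      simp only [inv', dif_pos (hb y)]
      exact (LinearEquiv.ofBijective (h y) (hb y)).apply_symm_apply m

end Good

end Groth.Agent.Etrest.LCHom
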