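import Mathlib.CategoryTheory.Sites.Over
import Mathlib.CategoryTheory.Sites.Pullback
import Mathlib.CategoryTheory.Adjunction.Mates
import Mathlib.CategoryTheory.Limits.Preserves.Shapes.BinaryProducts

/-!
# Inverse image of sheaves and restriction to slice sites

For a continuous functor of sites `F : C ⥤ D` preserving binary products and an object `V` of `C`,
restriction to the slice sites commutes with inverse image: the base change map
`(F|_V)⁻¹ (G|_V) ⟶ (F⁻¹ G)|_{F V}` is an isomorphism, and it is compatible with the counits.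
-/

set_option autoImplicit false
universe v₁ v₂ v₃ u₁ u₂ u₃
open CategoryTheory CategoryTheory.Limits Opposite

namespace Groth.Agent.Etrest.LocSite

section

variable {C : Type u₁} {D : Type u₂} [Category.{v₁} C] [Category.{v₂} D]
  [HasBinaryProducts C] [HasBinaryProducts D]
  (J : GrothendieckTopology C) (K : GrothendieckTopology D) (F : C ⥤ D) [F.IsContinuous J K]
  (V : C) [(Over.post (X := V) F).IsContinuous (J.over V) (K.over (F.obj V))]
  (A : Type u₃) [Category.{v₃} A]

/-- Restriction to a slice site has a right adjoint. -/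
noncomputable def resAdj :
    J.overPullback A V ⊣ (Over.star V).sheafPushforwardContinuous A J (J.over V) :=
  (Over.forgetAdjStar V).sheafPushforwardContinuous (E := A) (J.over V) J

/-- The (identity) square comparing restriction to a slice site and direct image. -/
noncomputable def sq : TwoSquare (F.sheafPushforwardContinuous A J K)
    (K.overPullback A (F.obj V)) (J.overPullback A V)
    ((Over.post (X := V) F).sheafPushforwardContinuous A (J.over V) (K.over (F.obj V))) :=
  TwoSquare.mk _ _ _ _ (𝟙 _)

/-- The comparison map `F(V × W) ⟶ F(V) × F(W)` over `F(V)`. -/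
noncomputable def cmp (W : C) :
    (Over.post F).obj ((Over.star V).obj W) ⟶ (Over.star (F.obj V)).obj (F.obj W) :=
  (Over.forgetAdjStar (F.obj V)).unit.app ((Over.post F).obj ((Over.star V).obj W)) ≫
    (Over.star (F.obj V)).map (F.map prod.snd)

theorem cmp_left (W : C) :
    ((cmp F V W).left : F.obj (V ⨯ W) ⟶ F.obj V ⨯ F.obj W) = prodComparison F V W := by
  have h0 : ((Over.post F).obj ((Over.star V).obj W)).hom =
      (F.map prod.fst : F.obj (V ⨯ W) ⟶ F.obj V) :=
    congrArg F.map (show ((Over.star V).obj W).hom = (prod.fst : V ⨯ W ⟶ V) by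
      simp
      exact prod.lift_fst _ _)
  have h1 : ((cmp F V W).left : F.obj (V ⨯ W) ⟶ F.obj V ⨯ F.obj W) =
      (prod.lift (((Over.post F).obj ((Over.star V).obj W)).hom) (𝟙 _) :
        F.obj (V ⨯ W) ⟶ F.obj V ⨯ F.obj (V ⨯ W)) ≫ prod.map (𝟙 _) (F.map prod.snd) := by
    unfold cmp
    rw [Over.comp_left, Over.forgetAdjStar_unit_app_left]
    rfl
  rw [h1, h0]
  apply Limits.prod.hom_ext
  · simp
    exact prod.lift_fst _ _
  · simp
    exact prod.lift_snd _ _

theorem isIso_cmp (W : C) [PreservesLimit (pair V W) F] : IsIso (cmp F V W) := by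
  have h : IsIso ((Over.forget _).map (cmp F V W)) := by
    have h2 : IsIso ((cmp F V W).left : F.obj (V ⨯ W) ⟶ F.obj V ⨯ F.obj W) := by
      rw [cmp_left]
      exact inferInstanceAs (IsIso (prodComparison F V W))
    exact h2
  exact isIso_of_reflects_iso (cmp F V W) (Over.forget _)

theorem mate_sq_app_app (G : Sheaf (K.over (F.obj V)) A) (W : C) :
    ((mateEquiv (resAdj K (F.obj V) A) (resAdj J V A) (sq J K F V A)).natTrans.app G).hom.app
      (op W) = G.obj.map (cmp F V W).op := by
  simp [mateEquiv, sq, resAdj, cmp]
  exact congrArg _ (Category.id_comp _)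

variable [PreservesLimitsOfShape (Discrete WalkingPair) F]

theorem isIso_mate_sq : IsIso
    (mateEquiv (resAdj K (F.obj V) A) (resAdj J V A) (sq J K F V A)).natTrans := by
  have h : ∀ (G : Sheaf (K.over (F.obj V)) A), IsIso
      ((mateEquiv (resAdj K (F.obj V) A) (resAdj J V A) (sq J K F V A)).natTrans.app G) := by
    intro G
    have h2 : IsIso ((sheafToPresheaf J A).map
        ((mateEquiv (resAdj K (F.obj V) A) (resAdj J V A) (sq J K F V A)).natTrans.app G)) := by
      rw [NatTrans.isIso_iff_isIso_app]
      rintro ⟨W⟩
      change IsIso (((mateEquiv (resAdj K (F.obj V) A) (resAdj J V A)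
        (sq J K F V A)).natTrans.app G).hom.app (op W))
      rw [mate_sq_app_app]
      have h3 : IsIso (cmp F V W) := isIso_cmp F V W
      have h4 : IsIso (cmp F V W).op := inferInstance
      exact Functor.map_isIso G.obj (cmp F V W).op
    exact isIso_of_reflects_iso _ (sheafToPresheaf J A)
  exact NatIso.isIso_of_isIso_app _

variable [(F.sheafPushforwardContinuous A J K).IsRightAdjoint]
  [((Over.post (X := V) F).sheafPushforwardContinuous A (J.over V)
    (K.over (F.obj V))).IsRightAdjoint]

/-- The base change map `(F|_V)⁻¹ (G|_V) ⟶ (F⁻¹ G)|_{F V}`. -/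
noncomputable def bcMap : J.overPullback A V ⋙
      (Over.post (X := V) F).sheafPullback A (J.over V) (K.over (F.obj V)) ⟶
    F.sheafPullback A J K ⋙ K.overPullback A (F.obj V) :=
  ((mateEquiv (F.sheafAdjunctionContinuous A J K)
    ((Over.post (X := V) F).sheafAdjunctionContinuous A (J.over V) (K.over (F.obj V)))).symm
      (sq J K F V A)).natTrans

theorem isIso_bcMap : IsIso (bcMap J K F V A) := by
  have h := iterated_mateEquiv_conjugateEquiv (F.sheafAdjunctionContinuous A J K)
    ((Over.post (X := V) F).sheafAdjunctionContinuous A (J.over V) (K.over (F.obj V)))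
    (resAdj J V A) (resAdj K (F.obj V) A)
    ((mateEquiv (F.sheafAdjunctionContinuous A J K)
      ((Over.post (X := V) F).sheafAdjunctionContinuous A (J.over V) (K.over (F.obj V)))).symm
      (sq J K F V A))
  rw [Equiv.apply_symm_apply] at h
  have h1 := isIso_mate_sq J K F V A
  rw [h] at h1
  exact @conjugateEquiv_of_iso _ _ _ _ _ _ _ _ ((F.sheafAdjunctionContinuous A J K).comp
    (resAdj K (F.obj V) A)) ((resAdj J V A).comp
      ((Over.post (X := V) F).sheafAdjunctionContinuous A (J.over V) (K.over (F.obj V))))
    (bcMap J K F V A) h1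

omit [HasBinaryProducts C] [HasBinaryProducts D]
  [PreservesLimitsOfShape (Discrete WalkingPair) F] in
/-- Compatibility of the base change map with the counits. -/
theorem map_counit (G : Sheaf K A) :
    (bcMap J K F V A).app ((F.sheafPushforwardContinuous A J K).obj G) ≫
      (K.overPullback A (F.obj V)).map ((F.sheafAdjunctionContinuous A J K).counit.app G) =
    ((Over.post (X := V) F).sheafAdjunctionContinuous A (J.over V) (K.over (F.obj V))).counit.app
      ((K.overPullback A (F.obj V)).obj G) := by
  have h := mateEquiv_counit_symm (F.sheafAdjunctionContinuous A J K)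
    ((Over.post (X := V) F).sheafAdjunctionContinuous A (J.over V) (K.over (F.obj V)))
    (sq J K F V A) G
  refine h.symm.trans ?_
  refine Eq.trans ?_ (Category.id_comp _)
  congr 1
  exact CategoryTheory.Functor.map_id _ _

/-- The counit of `F⁻¹ ⊣ F_*` at `G` restricts to an isomorphism on the slice over `F V` as soon as the
counit of the slice adjunction is an isomorphism at the restriction of `G`. -/
theorem isIso_over_counit (G : Sheaf K A)
    (hG : IsIso (((Over.post (X := V) F).sheafAdjunctionContinuous A (J.over V)
      (K.over (F.obj V))).counit.app ((K.overPullback A (F.obj V)).obj G))) :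
    IsIso ((K.overPullback A (F.obj V)).map ((F.sheafAdjunctionContinuous A J K).counit.app G)) := by
  have h := map_counit J K F V A G
  have h1 := isIso_bcMap J K F V A
  have h2 : IsIso ((bcMap J K F V A).app ((F.sheafPushforwardContinuous A J K).obj G)) :=
    inferInstance
  refine @IsIso.of_isIso_comp_left _ _ _ _ _
    ((bcMap J K F V A).app ((F.sheafPushforwardContinuous A J K).obj G)) _ h2 ?_
  exact h ▸ hG

end

section

variable {C : Type u₁} [Category.{v₁} C] {D : Type u₂} [Category.{v₂} D]

/-- The counit of an adjunction `L ⊣ R` is an isomorphism at `d` iff `R` is fully faithful on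
morphisms out of `d`. -/
theorem isIso_counit_of_bijective {L : C ⥤ D} {R : D ⥤ C} (adj : L ⊣ R) (d : D)
    (h : ∀ d' : D, Function.Bijective (fun f : d ⟶ d' => R.map f)) :
    IsIso (adj.counit.app d) := by
  rw [isIso_iff_coyoneda_map_bijective]
  intro d'
  have h1 : (fun (x : (𝟭 D).obj d ⟶ d') => adj.counit.app d ≫ x) =
      (adj.homEquiv (R.obj d) d').symm ∘ (fun f : d ⟶ d' => R.map f) := by
    funext x
    simp [Adjunction.homEquiv_counit]
  rw [h1]
  exact (Equiv.bijective _).comp (h d')

theorem bijective_of_isIso_counit {L : C ⥤ D} {R : D ⥤ C} (adj : L ⊣ R) (d : D)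
    (h : IsIso (adj.counit.app d)) (d' : D) : Function.Bijective (fun f : d ⟶ d' => R.map f) := by
  rw [isIso_iff_coyoneda_map_bijective] at h
  have h1 : (fun f : d ⟶ d' => R.map f) = (adj.homEquiv (R.obj d) d') ∘
      (fun (x : (𝟭 D).obj d ⟶ d') => adj.counit.app d ≫ x) := by
    funext x
    simp [Adjunction.homEquiv_unit]
  rw [h1]
  exact (Equiv.bijective _).comp (h d')

variable (K : GrothendieckTopology D)

/-- A morphism from a sheaf of types to a separated presheaf is bijective on `W` if it is so on the members of a
covering sieve. -/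
theorem bijective_of_sieve {P Q : Dᵒᵖ ⥤ Type u₃} (hP : Presieve.IsSheaf K P)
    (hQ : Presieve.IsSeparated K Q) (φ : P ⟶ Q) {W : D} (S : Sieve W) (hS : S ∈ K W)
    (h : ∀ ⦃W' : D⦄ (g : W' ⟶ W), S g → Function.Bijective (φ.app (op W'))) :
    Function.Bijective (φ.app (op W)) := by
  constructor
  · intro a b hab
    refine (hP.isSeparated S hS).ext fun W' g hg => (h g hg).1 ?_
    have ha := ConcreteCategory.congr_hom (φ.naturality g.op) a
    have hb := ConcreteCategory.congr_hom (φ.naturality g.op) b
    simp only [types_comp_apply] at ha hb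
    rw [ha, hb, hab]
  · intro b
    choose x hx using fun (W' : D) (g : W' ⟶ W) (hg : S g) => (h g hg).2 (Q.map g.op b)
    let y : Presieve.FamilyOfElements P S.arrows := fun W' g hg => x W' g hg
    have hy : y.Compatible := by
      rw [Presieve.compatible_iff_sieveCompatible]
      intro W' W'' g k hg
      apply (h _ (S.downward_closed hg k)).1
      have h1 := ConcreteCategory.congr_hom (φ.naturality k.op) (x W' g hg)
      simp only [types_comp_apply] at h1
      change φ.app (op W'') (x W'' (k ≫ g) _) = φ.app (op W'') (P.map k.op (x W' g hg))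
      rw [hx, h1, hx, op_comp, Functor.map_comp]
      rfl
    obtain ⟨a, ha, -⟩ := hP S hS y hy
    refine ⟨a, (hQ S hS).ext fun W' g hg => ?_⟩
    have h1 := ConcreteCategory.congr_hom (φ.naturality g.op) a
    simp only [types_comp_apply] at h1
    rw [← h1, ha g hg]
    exact hx W' g hg

variable {A : Type u₃} [Category.{v₃} A] {K}

/-- A morphism of sheaves is an isomorphism on sections over `W` if it is so on the members of a covering sieve. -/
theorem isIso_app_of_sieve {G G' : Sheaf K A} (φ : G ⟶ G') {W : D} (S : Sieve W) (hS : S ∈ K W)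
    (h : ∀ ⦃W' : D⦄ (g : W' ⟶ W), S g → IsIso (φ.hom.app (op W'))) :
    IsIso (φ.hom.app (op W)) := by
  rw [isIso_iff_yoneda_map_bijective]
  intro T
  refine bijective_of_sieve K (P := G.obj ⋙ coyoneda.obj (op T)) (Q := G'.obj ⋙ coyoneda.obj (op T))
    (G.property T) (G'.property T).isSeparated (Functor.whiskerRight φ.hom _) S hS ?_
  intro W' g hg
  have := h g hg
  rw [isIso_iff_yoneda_map_bijective] at this
  exact this T

/-- A morphism of sheaves is an isomorphism if its restrictions to the slices over a covering of the terminal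
object are isomorphisms. -/
theorem isIso_of_over {G G' : Sheaf K A} (φ : G ⟶ G') {T : D} (hT : IsTerminal T) {ι : Type*}
    (V : ι → D) (f : ∀ i, V i ⟶ T) (hV : Sieve.ofArrows V f ∈ K T)
    (h : ∀ i, IsIso ((K.overPullback A (V i)).map φ)) : IsIso φ := by
  have h1 : IsIso ((sheafToPresheaf K A).map φ) := by
    rw [NatTrans.isIso_iff_isIso_app]
    rintro ⟨W⟩
    refine isIso_app_of_sieve φ _ (K.pullback_stable (hT.from W) hV) ?_
    intro W' g hg
    obtain ⟨_, k, _, ⟨i⟩, hk⟩ := hg
    have h2 : IsIso ((sheafToPresheaf _ _).map ((K.overPullback A (V i)).map φ)) := by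
      have := h i
      infer_instance
    rw [NatTrans.isIso_iff_isIso_app] at h2
    exact h2 (op (Over.mk k))
  exact isIso_of_reflects_iso _ (sheafToPresheaf K A)

end

end Groth.Agent.Etrest.LocSite
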