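import Groth.Prelude.Def_EtModW
import Mathlib.AlgebraicGeometry.Sites.ConstantSheaf
import Mathlib.Topology.LocallyConstant.Algebra
import Mathlib.CategoryTheory.Sites.LocallyBijective
import Mathlib.CategoryTheory.Sites.ConstantSheaf
import Groth.Agent.Proet.Cont
import Groth.Agent.Etrest.LocSite
import Groth.Agent.Etrest.Site0

/-!
# Locally constant functions as the constant sheaf of modules on (slices of) the small etale and
pro-etale sites
-/

set_option autoImplicit false
universe v₁ u₁ u
open CategoryTheory CategoryTheory.Limits Opposite AlgebraicGeometry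

namespace Groth.Agent.Etrest.LCMod

variable (Λ : Type (u + 1)) [CommRing Λ] (M : Type (u + 1)) [AddCommGroup M] [Module Λ M]

/-- The presheaf of locally constant functions with values in the module `M`. -/
noncomputable def LC : Scheme.{u}ᵒᵖ ⥤ ModuleCat.{u + 1} Λ where
  obj U := ModuleCat.of Λ (LocallyConstant U.unop M)
  map {U V} f := ModuleCat.ofHom (LocallyConstant.comapₗ Λ f.unop.base.hom)

/-- The inclusion of constant functions. -/
noncomputable def toLC {C : Type u₁} [Category.{v₁} C] (T : C ⥤ Scheme.{u}) :
    (Functor.const Cᵒᵖ).obj (ModuleCat.of Λ M) ⟶ T.op ⋙ LC Λ M where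
  app U := ModuleCat.ofHom (LocallyConstant.constₗ Λ)
  naturality U V f := by
    ext m
    rfl

theorem hasLimitsOfSize : HasLimitsOfSize.{u, u + 1} (ModuleCat.{u + 1} Λ) :=
  hasLimitsOfSizeShrink.{u, u + 1, u + 1, u + 1} (ModuleCat.{u + 1} Λ)

theorem isSheaf_fpqc_LC : Presheaf.IsSheaf Scheme.fpqcTopology.{u} (LC Λ M) := by
  let : TopologicalSpace M := ⊥
  have : DiscreteTopology M := ⟨rfl⟩
  have := hasLimitsOfSize Λ
  have : ReflectsLimitsOfSize.{u, u + 1} (forget (ModuleCat.{u + 1} Λ)) :=
    reflectsLimits_of_reflectsIsomorphisms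
  apply Presheaf.isSheaf_of_isSheaf_comp _ _ (forget _)
  have e : LC Λ M ⋙ forget _ ≅ continuousMapPresheaf M := by
    refine NatIso.ofComponents (fun U => Equiv.toIso
      { toFun := fun (s : LocallyConstant U.unop M) => (⟨s, s.continuous⟩ : C(U.unop, M))
        invFun := fun (s : C(U.unop, M)) => (⟨s, (IsLocallyConstant.iff_continuous _).2 s.continuous⟩ :
          LocallyConstant U.unop M)
        left_inv := fun s => rfl
        right_inv := fun s => rfl }) ?_
    intro U V f
    rfl
  rw [Presheaf.isSheaf_of_iso_iff e]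
  exact isSheaf_fpqcTopology_continuousMapPresheaf M

section General

variable {C : Type u₁} [Category.{v₁} C] (J : GrothendieckTopology C) (T : C ⥤ Scheme.{u})

variable {T} in
/-- The sieve of morphisms along which a locally constant function becomes constant. -/
def constSieve {W : C} {Z : Type*} (f : LocallyConstant (T.obj W) Z) : Sieve W where
  arrows W' g := ∀ a b : T.obj W', f (T.map g a) = f (T.map g b)
  downward_closed {W' W''} g hg h a b := by
    simp only [Functor.map_comp, Scheme.Hom.comp_apply]
    exact hg _ _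

/-- The hypotheses on a site with a functor to schemes which ensure that the sheaf of locally constant functions is
the constant sheaf. -/
structure Good : Prop where
  sheaf : ∀ (Λ : Type (u + 1)) [CommRing Λ] (M : Type (u + 1)) [AddCommGroup M] [Module Λ M],
    Presheaf.IsSheaf J (T.op ⋙ LC Λ M)
  clopen : ∀ (W : C) (Z : Type (u + 1)) (f : LocallyConstant (T.obj W) Z), constSieve f ∈ J W
  empty : ∀ W : C, IsEmpty (T.obj W) → ⊥ ∈ J W

variable {J T}

/-- The sheaf of locally constant functions on a good site. -/
noncomputable def Good.LC (hJ : Good J T) : Sheaf J (ModuleCat.{u + 1} Λ) := ⟨_, hJ.sheaf Λ M⟩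

theorem Good.isLocallyInjective (hJ : Good J T) :
    Presheaf.IsLocallyInjective J (toLC Λ M T) where
  equalizerSieve_mem := by
    rintro ⟨W⟩ x y hxy
    by_cases hW : IsEmpty (T.obj W)
    · exact J.superset_covering bot_le (hJ.empty W hW)
    · rw [not_isEmpty_iff] at hW
      obtain ⟨w⟩ := hW
      have : x = y := congrArg (fun s : LocallyConstant (T.obj W) M => s w) hxy
      subst this
      rw [Presheaf.equalizerSieve_self_eq_top]
      exact J.top_mem _

theorem Good.isLocallySurjective (hJ : Good J T) :
    Presheaf.IsLocallySurjective J (toLC Λ M T) where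
  imageSieve_mem := by
    intro W s
    refine J.superset_covering ?_ (hJ.clopen W M s)
    intro W' g hg
    by_cases hW : IsEmpty (T.obj W')
    · refine ⟨(0 : M), ?_⟩
      apply LocallyConstant.ext
      intro x
      exact hW.elim x
    · rw [not_isEmpty_iff] at hW
      obtain ⟨w⟩ := hW
      refine ⟨(show LocallyConstant (T.obj W) M from s) (T.map g w), ?_⟩
      apply LocallyConstant.ext
      intro x
      exact hg w x

theorem Good.W_toLC [J.WEqualsLocallyBijective (ModuleCat.{u + 1} Λ)] (hJ : Good J T) :
    J.W (toLC Λ M T) := by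
  have := hJ.isLocallyInjective Λ M
  have := hJ.isLocallySurjective Λ M
  exact J.W_of_isLocallyBijective _

/-- The constant sheaf is the sheaf of locally constant functions. -/
noncomputable def Good.constIso [HasSheafify J (ModuleCat.{u + 1} Λ)]
    [J.WEqualsLocallyBijective (ModuleCat.{u + 1} Λ)] (hJ : Good J T) :
    (constantSheaf J (ModuleCat.{u + 1} Λ)).obj (ModuleCat.of Λ M) ≅ hJ.LC Λ M :=
  @asIso _ _ _ _ ((presheafToSheaf J (ModuleCat.{u + 1} Λ)).map (toLC Λ M T))
      ((J.W_iff (toLC Λ M T)).1 (hJ.W_toLC Λ M)) ≪≫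
    (asIso (sheafificationAdjunction J (ModuleCat.{u + 1} Λ)).counit).app (hJ.LC Λ M)

/-- Morphisms out of the sheaf of locally constant functions are the same as morphisms out of the constant
presheaf. -/
theorem Good.bijective_toLC [J.WEqualsLocallyBijective (ModuleCat.{u + 1} Λ)] (hJ : Good J T)
    (G : Sheaf J (ModuleCat.{u + 1} Λ)) :
    Function.Bijective (fun φ : hJ.LC Λ M ⟶ G => toLC Λ M T ≫ φ.hom) :=
  (hJ.W_toLC Λ M G.obj G.property).comp
    ((fullyFaithfulSheafToPresheaf J (ModuleCat.{u + 1} Λ)).homEquiv (X := hJ.LC Λ M) (Y := G)).bijective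

/-- Morphisms out of the constant presheaf are the same as linear maps to the sections over a terminal object. -/
theorem bijective_const_app {D : Type*} [Category* D] {A : Type*} [Category* A] {X : D}
    (hX : IsTerminal X) (m : A) (G : Dᵒᵖ ⥤ A) :
    Function.Bijective (fun φ : (Functor.const Dᵒᵖ).obj m ⟶ G => (φ.app (op X) : m ⟶ G.obj (op X))) := by
  constructor
  · intro φ ψ h
    ext ⟨Y⟩
    have h1 := φ.naturality (hX.from Y).op
    have h2 := ψ.naturality (hX.from Y).op
    simp only [Functor.const_obj_obj, Functor.const_obj_map, Category.id_comp] at h1 h2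
    rw [h1, h2]
    exact congrArg (· ≫ _) h
  · intro f
    refine ⟨{ app := fun Y => f ≫ G.map (hX.from Y.unop).op, naturality := fun Y Z g => ?_ }, ?_⟩
    · simp only [Functor.const_obj_obj, Functor.const_obj_map, Category.id_comp, Category.assoc]
      rw [← G.map_comp]
      congr 2
      exact Quiver.Hom.unop_inj (hX.hom_ext _ _)
    · change f ≫ G.map (hX.from X).op = f
      rw [hX.hom_ext (hX.from X) (𝟙 X)]
      simp

/-- Morphisms out of the sheaf of locally constant functions are the same as linear maps to the sections over a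
terminal object. -/
theorem Good.bijective_app [J.WEqualsLocallyBijective (ModuleCat.{u + 1} Λ)] (hJ : Good J T)
    (G : Sheaf J (ModuleCat.{u + 1} Λ)) {X : C} (hX : IsTerminal X) :
    Function.Bijective (fun φ : hJ.LC Λ M ⟶ G =>
      ((toLC Λ M T).app (op X) ≫ φ.hom.app (op X) : ModuleCat.of Λ M ⟶ G.obj.obj (op X))) :=
  (bijective_const_app hX _ _).comp (hJ.bijective_toLC Λ M G)

theorem Good.over (hJ : Good J T) (V : C) : Good (J.over V) (Over.forget V ⋙ T) where
  sheaf Λ _ M _ _ := ((J.overPullback (ModuleCat.{u + 1} Λ) V).obj (hJ.LC Λ M)).property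
  clopen W Z f := by
    rw [GrothendieckTopology.mem_over_iff]
    refine J.superset_covering ?_ (hJ.clopen W.left Z f)
    intro W' g hg
    rw [Sieve.overEquiv_iff]
    exact hg
  empty W hW := by
    rw [GrothendieckTopology.mem_over_iff]
    exact J.superset_covering bot_le (hJ.empty W.left hW)

end General

/-- The forgetful functor from the small etale site to schemes. -/
noncomputable abbrev fE (X : Scheme.{u}) : X.Etale ⥤ Scheme.{u} := Scheme.Etale.forget X ⋙ Over.forget X

/-- The forgetful functor from the small pro-etale site to schemes. -/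
noncomputable abbrev fP (X : Scheme.{u}) : X.ProEt ⥤ Scheme.{u} := Scheme.ProEt.forget X ⋙ Over.forget X

/-- The open set on which a locally constant function takes the same value as at `x`. -/
def fibOpens {Y : Scheme.{u}} {Z : Type*} (f : LocallyConstant Y Z) (x : Y) : Y.Opens :=
  ⟨f ⁻¹' {f x}, f.isLocallyConstant _⟩

theorem goodP (X : Scheme.{u}) : Good (Scheme.ProEt.topology X) (fP X) where
  sheaf Λ _ M _ _ := (((fP X).sheafPushforwardContinuous (ModuleCat.{u + 1} Λ)
    (Scheme.ProEt.topology X) Scheme.proetaleTopology).obj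
      ⟨LC Λ M, (Presheaf.IsSheaf.of_le Scheme.proetaleTopology_le_fpqcTopology
        (isSheaf_fpqc_LC Λ M))⟩).property
  clopen W Z f := by
    change LocallyConstant W.left Z at f
    let V : W.left → X.ProEt := fun x => Scheme.ProEt.mk ((fibOpens f x).ι ≫ W.hom)
    let g : ∀ x, V x ⟶ W := fun x => MorphismProperty.Over.homMk (fibOpens f x).ι rfl
    have hVg : Presieve.ofArrows V g ∈ (Scheme.ProEt.precoverage X).coverings W := by
      rw [Proet.Cont.ofArrows_mem_precoverage_iff]
      apply Scheme.etalePrecoverage_le_proetalePrecoverage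
      refine (Scheme.ofArrows_mem_precoverage_iff _).2 ⟨fun x => ⟨x, ⟨x, rfl⟩, rfl⟩, fun x => ?_⟩
      change Etale (fibOpens f x).ι
      infer_instance
    rw [Proet.Cont.mem_topology_iff]
    refine ⟨_, hVg, ?_⟩
    rintro _ _ ⟨x⟩
    intro a b
    have ha : f a.1 = f x := a.2
    have hb : f b.1 = f x := b.2
    exact ha.trans hb.symm
  empty W hW := by
    have : IsEmpty W.left := hW
    exact Scheme.ProEt.bot_mem_topology W

theorem goodE (X : Scheme.{u}) : Good X.smallEtaleTopology (fE X) where
  sheaf Λ _ M _ _ :=
    have := Proet.Cont.epsCont X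
    (((ProEtS.eps X).sheafPushforwardContinuous (ModuleCat.{u + 1} Λ)
      X.smallEtaleTopology (Scheme.ProEt.topology X)).obj ((goodP X).LC Λ M)).property
  clopen W Z f := by
    change LocallyConstant W.left Z at f
    rw [Site0.mem_iff]
    intro x
    have : Etale W.hom := W.prop
    refine ⟨MorphismProperty.Over.mk ⊤ ((fibOpens f x).ι ≫ W.hom) (show Etale _ from inferInstance),
      MorphismProperty.Over.homMk (fibOpens f x).ι rfl, ?_, ⟨x, rfl⟩, rfl⟩
    intro a b
    have ha : f a.1 = f x := a.2
    have hb : f b.1 = f x := b.2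
    exact ha.trans hb.symm
  empty W hW := by
    rw [Site0.mem_iff]
    intro x
    exact hW.elim x

end Groth.Agent.Etrest.LCMod
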