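import Groth.Agent.Etrest.LDSpan
import Groth.Agent.Etrest.FinSub

/-!
# Lifting of finite locally constant spanning subsets from a geometric fibre (in terms of `IsFinSub`)
-/

set_option autoImplicit false
set_option backward.isDefEq.respectTransparency.types false
universe u
open CategoryTheory CategoryTheory.Limits AlgebraicGeometry Opposite

namespace Groth.Agent.Etrest.LD

open EtpbcB.Big (etHom et_w bcPt bcFst bcPt_hom bcPt_fst bc_condition hom_ext_bc exists_lift exists_geomPoint 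
  isPullback_bc)

variable {Λ : Type (u + 1)} [CommRing Λ] {X Z : Scheme.{u}} {F : EtModW.Mod Λ X} (q : Z ⟶ X)

/-- Transport of stalks along an equality of geometric points. -/
noncomputable def castM (F : EtModW.Mod Λ X) {Ω : Type u} [Field Ω] [IsSepClosed Ω] 
    {ξ ξ' : Spec (.of Ω) ⟶ X} (h : ξ = ξ') (σ : MStk Λ F ξ) : MStk Λ F ξ' := h ▸ σ

theorem castM_bijective {Ω : Type u} [Field Ω] [IsSepClosed Ω] 
    {ξ ξ' : Spec (.of Ω) ⟶ X} (h : ξ = ξ') : Function.Bijective (castM F h) := by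
  subst h
  exact Function.bijective_id

theorem castM_mg {Ω : Type u} [Field Ω] [IsSepClosed Ω] {ξ ξ' : Spec (.of Ω) ⟶ X} (h : ξ = ξ') {U : X.Etale}
    (l : Spec (.of Ω) ⟶ U.left) (hl : l ≫ U.hom = ξ) (s : EtModW.sect Λ F U) :
    castM F h (mg Λ F l hl s) = mg Λ F l (hl.trans h) s := by
  subst h; rfl

/-- A family of subsets of the stalks of the inverse image, as a family of subsets of the stalks of `F`. -/
noncomputable def ofO (O : FinSub.Fam ((EtModW.pull Λ q).obj F)) : SFam F q :=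
  fun Ω _ _ l _ h => { a | (mpull Λ q F l).hom (castM F h.symm a) ∈ O Ω l }

/-- A family of subsets of the stalks of `F`, as a family of subsets of the stalks of the inverse image. -/
noncomputable def toO (T : SFam F q) : FinSub.Fam ((EtModW.pull Λ q).obj F) :=
  fun Ω _ _ ζ => (mpull Λ q F ζ).hom '' T Ω ζ (ζ ≫ q) rfl

theorem mpull_bijective {Ω : Type u} [Field Ω] [IsSepClosed Ω] (ζ : Spec (.of Ω) ⟶ Z) :
    Function.Bijective (mpull Λ q F ζ).hom :=
  ConcreteCategory.bijective_of_isIso (mpull Λ q F ζ).hom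

theorem isConstVia_munit {V : X.Etale} {M : Type (u + 1)} [AddCommGroup M] [Module Λ M]
    {ψ : M →ₗ[Λ] EtModW.sect Λ F V} (h : ModLoc.IsConstVia Λ F V ψ) : 
    ModLoc.IsConstVia Λ ((EtModW.pull Λ q).obj F) ((EtCoh.bc q).obj V) ((munit Λ q F V).comp ψ) := by
  intro Ω _ _ ζ t
  have h0 : (t.left ≫ bcFst q V) ≫ V.hom = ζ ≫ q := by
    have h1 : t.left ≫ ((EtCoh.bc q).obj V).hom = ζ := Over.w t
    exact (Category.assoc _ _ _).trans ((congrArg (fun x => t.left ≫ x) (bc_condition q V)).trans 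
      ((Category.assoc _ _ _).symm.trans (congrArg (fun x => x ≫ q) h1)))
  have h1 : (fun m => ModGerm.germ Λ ζ ((EtModW.pull Λ q).obj F) t (((munit Λ q F V).comp ψ) m)) = 
      (mpull Λ q F ζ).hom ∘ (fun m => mg Λ F (t.left ≫ bcFst q V) h0 (ψ m)) := by
    funext m
    refine Eq.trans ?_ (mpull_germ Λ q F ζ (t.left ≫ bcFst q V) h0 (ψ m)).symm
    refine mg_congr Λ ((EtModW.pull Λ q).obj F) (Over.w t) ?_ _
    apply hom_ext_bc q
    · exact (bcPt_fst q ζ (t.left ≫ bcFst q V) h0).symm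
    · exact Eq.trans (Over.w t) (bcPt_hom q ζ (t.left ≫ bcFst q V) h0).symm
  rw [h1]
  exact (mpull_bijective q ζ).comp (IsConstVia.bij h _ _)

theorem isLocS_ofO (hF : EtModW.IsFTLocConst Λ F) {O : FinSub.Fam ((EtModW.pull Λ q).obj F)} 
    (hO : FinSub.IsFinSub ((EtModW.pull Λ q).obj F) O) : IsLocS (ofO q O) := by
  classical
  intro z
  obtain ⟨U, u, M, _, _, φ, A, hu, hφ, hA, hO⟩ := hO z
  obtain ⟨V, v, M', _, _, _, ψ, hv, hψ⟩ := (ModLoc.ftlc_iff F).1 hF (q z)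
  obtain ⟨r, hr1, hr2⟩ := Scheme.Pullback.exists_preimage_pullback (f := V.hom) (g := q) v z hv
  let B : Z.Etale := (EtCoh.bc q).obj V
  obtain ⟨p, hp1, hp2⟩ := Scheme.Pullback.exists_preimage_pullback (f := U.hom) (g := B.hom) u r 
    (hu.trans hr2.symm)
  let P : Z.Etale := Scheme.Etale.mk (pullback.fst U.hom B.hom ≫ U.hom)
  let p1 : P ⟶ U := etHom (pullback.fst U.hom B.hom) rfl
  let p2 : P ⟶ B := etHom (pullback.snd U.hom B.hom) pullback.condition.symm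
  have hψ' := (isConstVia_munit q hψ).res p2
  obtain ⟨W, k, w, hw, h⟩ := exists_common_lift hψ' p (hA.toFinset.image (fun a => ModGerm.res Λ _ p1 (φ a)))
  have h' : ∀ a ∈ A, ∃ m : M', ModGerm.res Λ _ (k ≫ p1) (φ a) = ModGerm.res Λ _ (k ≫ p2) (munit Λ q F V (ψ m)) := by
    intro a ha
    obtain ⟨m, hm⟩ := h _ (Finset.mem_image_of_mem _ (hA.mem_toFinset.2 ha))
    exact ⟨m, by rw [ModGerm.res_comp, hm, ModGerm.res_comp]; rfl⟩
  choose! μ hμ using h'
  have hb : ((k ≫ p2).left ≫ bcFst q V) ≫ V.hom = W.hom ≫ q := by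
    rw [Category.assoc, bc_condition, ← Category.assoc, et_w]
  refine ⟨W.left, W.hom, inferInstance, w, V, (k ≫ p2).left ≫ bcFst q V, hb, M', inferInstance, inferInstance, ψ, 
    μ '' A, ?_, hψ, hA.image _, ?_⟩
  · rw [← hu, ← hp1, ← et_w (k ≫ p1), Scheme.Hom.comp_apply]
    exact congrArg (fun x => U.hom (pullback.fst U.hom B.hom x)) hw
  · intro Ω _ _ l ξ hl
    have e1 : (l ≫ (k ≫ p1).left) ≫ U.hom = l ≫ W.hom := 
      (Category.assoc _ _ _).trans (congrArg (fun x => l ≫ x) (et_w (k ≫ p1)))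
    have e2 : (l ≫ (k ≫ p2).left ≫ bcFst q V) ≫ V.hom = (l ≫ W.hom) ≫ q := 
      (Category.assoc _ _ _).trans ((congrArg (fun x => l ≫ x) hb).trans (Category.assoc _ _ _).symm)
    have e3 : (l ≫ W.hom) ≫ q = ξ := (Category.assoc _ _ _).trans hl
    have h1 := hO Ω (l ≫ W.hom) (Over.homMk (l ≫ (k ≫ p1).left) e1)
    have h2 : ∀ a ∈ A, mg Λ ((EtModW.pull Λ q).obj F) (l ≫ (k ≫ p1).left) e1 (φ a) = 
        (mpull Λ q F (l ≫ W.hom)).hom (castM F e3.symm 
          (mg Λ F (l ≫ (k ≫ p2).left ≫ bcFst q V) (e2.trans e3) (ψ (μ a)))) := by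
      intro a ha
      rw [castM_mg, mpull_germ, ← mg_res' Λ _ (k ≫ p1) l rfl (l ≫ (k ≫ p1).left) e1 rfl, hμ a ha, mg_res]
      refine mg_congr Λ _ _ ?_ _
      apply hom_ext_bc q
      · rw [bcPt_fst, Category.assoc]
      · rw [bcPt_hom, Category.assoc, et_w]
    have h3 : Function.Injective (fun a => (mpull Λ q F (l ≫ W.hom)).hom (castM F e3.symm a)) := 
      (mpull_bijective q _).1.comp (castM_bijective e3.symm).1
    rw [Set.image_image]
    ext x
    change (mpull Λ q F (l ≫ W.hom)).hom (castM F e3.symm x) ∈ O Ω (l ≫ W.hom) ↔ _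
    rw [h1]
    constructor
    · rintro ⟨a, ha, e⟩
      exact ⟨a, ha, h3 ((h2 a ha).symm.trans e)⟩
    · rintro ⟨a, ha, rfl⟩
      exact ⟨a, ha, h2 a ha⟩

theorem isFinSub_toO {T : SFam F q} (hT : IsLocS T) : 
    FinSub.IsFinSub ((EtModW.pull Λ q).obj F) (toO q T) := by
  intro z
  obtain ⟨W, a, ha, w, V, b, hb, M, _, _, ψ, N, hw, hψ, hN, hT⟩ := hT z
  let U : Z.Etale := Scheme.Etale.mk a
  let b' : U ⟶ (EtCoh.bc q).obj V := etHom (pullback.lift b a hb) (pullback.lift_snd _ _ _)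
  refine ⟨U, w, M, inferInstance, inferInstance, (ModGerm.res Λ _ b').comp ((munit Λ q F V).comp ψ), N, hw, 
    (isConstVia_munit q hψ).res b', hN, ?_⟩
  intro Ω _ _ ζ t
  obtain ⟨l, hl, ht⟩ : ∃ (l : Spec (.of Ω) ⟶ W) (hl : l ≫ a = ζ), t = Over.homMk l hl := 
    ⟨t.left, Over.w t, rfl⟩
  subst ht
  subst hl
  have h1 := hT Ω l ((l ≫ a) ≫ q) (Category.assoc _ _ _).symm
  unfold toO
  rw [h1, Set.image_image]
  refine congrArg (· '' N) ?_
  funext m
  refine (mpull_germ Λ q F (l ≫ a) _ _ _).trans ?_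
  refine Eq.trans ?_ (mg_res Λ _ b' l rfl (munit Λ q F V (ψ m))).symm
  refine mg_congr Λ _ _ ?_ _
  apply hom_ext_bc q
  · rw [bcPt_fst]
    exact ((Category.assoc _ _ _).trans (congrArg (fun x => l ≫ x) (pullback.lift_fst _ _ _))).symm
  · rw [bcPt_hom]
    exact ((Category.assoc _ _ _).trans (congrArg (fun x => l ≫ x) (pullback.lift_snd _ _ _))).symm

theorem castM_linear {Ω : Type u} [Field Ω] [IsSepClosed Ω] {ξ ξ' : Spec (.of Ω) ⟶ X} (h : ξ = ξ') :
    ∃ e : (MStk Λ F ξ : Type (u + 1)) →ₗ[Λ] (MStk Λ F ξ' : Type (u + 1)), ∀ x, e x = castM F h x := by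
  subst h
  exact ⟨LinearMap.id, fun _ => rfl⟩

theorem span_ofO {O : FinSub.Fam ((EtModW.pull Λ q).obj F)} 
    (hO : ∀ (Ω : Type u) [Field Ω] [IsSepClosed Ω] (ζ : Spec (.of Ω) ⟶ Z), Submodule.span Λ (O Ω ζ) = ⊤)
    (Ω : Type u) [Field Ω] [IsSepClosed Ω] (l : Spec (.of Ω) ⟶ Z) (ξ : Spec (.of Ω) ⟶ X) (h : l ≫ q = ξ) :
    Submodule.span Λ (ofO q O Ω l ξ h) = ⊤ := by
  obtain ⟨e, he⟩ := castM_linear (F := F) h.symm
  have h1 : Function.Bijective ((mpull Λ q F l).hom.hom.comp e) := by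
    refine (mpull_bijective q l).comp ?_
    rw [show (e : _ → _) = castM F h.symm from funext he]
    exact castM_bijective h.symm
  rw [← span_image_eq_top_iff _ h1]
  have h2 : ((mpull Λ q F l).hom.hom.comp e) '' (ofO q O Ω l ξ h) = O Ω l := by
    refine Eq.trans ?_ (Set.image_preimage_eq (f := ((mpull Λ q F l).hom.hom.comp e)) (O Ω l) h1.2)
    congr 1
    ext x
    change (mpull Λ q F l).hom (castM F h.symm x) ∈ O Ω l ↔ (mpull Λ q F l).hom (e x) ∈ O Ω l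
    rw [he]
  rw [h2]
  exact hO Ω l

theorem span_toO {T : SFam F q} (hT : ∀ (Ω : Type u) [Field Ω] [IsSepClosed Ω] (l : Spec (.of Ω) ⟶ Z) 
      (ξ : Spec (.of Ω) ⟶ X) (h : l ≫ q = ξ), Submodule.span Λ (T Ω l ξ h) = ⊤) 
    (Ω : Type u) [Field Ω] [IsSepClosed Ω] (ζ : Spec (.of Ω) ⟶ Z) :
    Submodule.span Λ (toO q T Ω ζ) = ⊤ := 
  (span_image_eq_top_iff (mpull Λ q F ζ).hom.hom (mpull_bijective q ζ) _).2 (hT Ω ζ _ rfl)

variable {S X' : Scheme.{u}} (f : X ⟶ S) {K : Type u} [Field K] [IsSepClosed K] 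
  (s : Spec (.of K) ⟶ S) (f' : X' ⟶ Spec (.of K)) (g' : X' ⟶ X) 

/-- **Lifting of a finite locally constant spanning subset** from a geometric fibre of a proper morphism to an 
étale neighbourhood. -/
theorem exists_lift_isFinSub [IsProper f] (hF : EtModW.IsFTLocConst Λ F) (hp : IsPullback g' f' f s)
    (hbc : ∀ G : EtCoh.Ab X, IsIso (EtCoh.baseChange0 f s f' g' hp.w G)) 
    (O : FinSub.Fam ((EtModW.pull Λ g').obj F)) (hO : FinSub.IsFinSub ((EtModW.pull Λ g').obj F) O)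
    (hspan : ∀ (Ω : Type u) [Field Ω] [IsSepClosed Ω] (ζ : Spec (.of Ω) ⟶ X'), 
      Submodule.span Λ (O Ω ζ) = ⊤) :
    ∃ (V : S.Etale) (t : Spec (.of K) ⟶ V.left) (_ : t ≫ V.hom = s) 
      (O' : FinSub.Fam ((EtModW.pull Λ (pullback.fst f V.hom)).obj F)), 
      FinSub.IsFinSub ((EtModW.pull Λ (pullback.fst f V.hom)).obj F) O' ∧ 
      ∀ (Ω : Type u) [Field Ω] [IsSepClosed Ω] (ζ : Spec (.of Ω) ⟶ pullback f V.hom), 
        Submodule.span Λ (O' Ω ζ) = ⊤ := by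
  obtain ⟨V, t, ht, T', hT', -, h⟩ := exists_lift_sfam f s f' g' hF hp (hbc _) (ofO g' O) 
    (isLocS_ofO g' hF hO) (fun Ω _ _ l ξ h => span_ofO g' hspan Ω l ξ h)
  let r : pullback f V.hom ⟶ ((EtCoh.bc f).obj V).left := (pullbackSymmetry _ _).hom
  have hr : r ≫ ((EtCoh.bc f).obj V).hom = pullback.fst f V.hom := pullbackSymmetry_hom_comp_snd _ _
  refine ⟨V, t, ht, toO _ (T'.res r hr), isFinSub_toO _ (hT'.res r hr), ?_⟩
  exact fun Ω _ _ ζ => span_toO _ (fun Ω _ _ l ξ hl => h Ω (l ≫ r) ξ (by rw [Category.assoc, hr, hl])) Ω ζ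

end Groth.Agent.Etrest.LD
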