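import Groth.Agent.Etrest.LDGerm
import Groth.Agent.Etrest.ModSpec
import Mathlib.CategoryTheory.Sites.Point.Category

/-!
# The free abelian sheaf on the underlying sheaf of sets of a sheaf of modules
-/

set_option autoImplicit false
set_option backward.isDefEq.respectTransparency.types false
universe u
open CategoryTheory CategoryTheory.Limits AlgebraicGeometry Opposite

namespace Groth.Agent.Etrest.LD

open EtpbcB.Big

variable {Λ : Type (u + 1)} [CommRing Λ] {X : Scheme.{u}} (F : EtModW.Mod Λ X)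

/-- The presheaf `U ↦ ℤ[F(U)]`. -/
noncomputable def ZP : X.Etaleᵒᵖ ⥤ AddCommGrpCat.{u + 1} where
  obj U := AddCommGrpCat.of (F.obj.obj U →₀ ℤ)
  map f := AddCommGrpCat.ofHom (Finsupp.mapDomain.addMonoidHom (F.obj.map f).hom)
  map_id U := by
    ext1
    refine (congrArg Finsupp.mapDomain.addMonoidHom (a₂ := id) ?_).trans Finsupp.mapDomain.addMonoidHom_id
    rw [F.obj.map_id]
    rfl
  map_comp f g := by
    ext1
    refine (congrArg Finsupp.mapDomain.addMonoidHom (a₂ := (F.obj.map g).hom ∘ (F.obj.map f).hom) ?_).trans 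
      (Finsupp.mapDomain.addMonoidHom_comp _ _)
    rw [F.obj.map_comp]
    rfl

/-- The sheaf `ℤ[F]`. -/
noncomputable def ZF : EtCoh.Ab X :=
  (presheafToSheaf X.smallEtaleTopology AddCommGrpCat.{u + 1}).obj (ZP F)

/-- The canonical map. -/
noncomputable def ηZ : ZP F ⟶ (ZF F).obj := toSheafify X.smallEtaleTopology (ZP F)

/-- a formal combination of sections as a section of `ℤ[F]` -/
noncomputable def dl {U : X.Etale} (c : EtModW.sect Λ F U →₀ ℤ) : EtCoh.sect (ZF F) U :=
  (ηZ F).app (op U) c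

theorem map_dl {U V : X.Etale} (g : V ⟶ U) (c : EtModW.sect Λ F U →₀ ℤ) :
    (ZF F).obj.map g.op (dl F c) = dl F (c.mapDomain (ModGerm.res Λ F g)) :=
  (ConcreteCategory.congr_hom ((ηZ F).naturality g.op) c).symm

theorem W_ηZ : X.smallEtaleTopology.W (ηZ F) := 
  X.smallEtaleTopology.W_toSheafify (ZP F)

theorem exists_dl {U : X.Etale} (s : EtCoh.sect (ZF F) U) (x : U.left) :
    ∃ (V : X.Etale) (g : V ⟶ U) (v : V.left) (c : EtModW.sect Λ F V →₀ ℤ), g.left v = x ∧
      (ZF F).obj.map g.op s = dl F c := by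
  have := ((X.smallEtaleTopology.W_iff_isLocallyBijective (ηZ F)).1 (W_ηZ F)).2
  obtain ⟨V, g, ⟨c, hc⟩, v, hv⟩ := (EtpbcA.Germ.mem_iff _).1 (Presheaf.imageSieve_mem _ (ηZ F) s) x
  exact ⟨V, g, v, c, hv, hc.symm⟩

section Stalk

variable {Ω : Type u} [Field Ω] [IsSepClosed Ω] (ξ : Spec (.of Ω) ⟶ X)

/-- the value at `ξ` of presheaf sections -/
noncomputable def kap0 : (Scheme.pointSmallEtale ξ).presheafFiber.obj (ZP F) ⟶ 
    AddCommGrpCat.of ((MStk Λ F ξ : Type (u + 1)) →₀ ℤ) :=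
  (Scheme.pointSmallEtale ξ).presheafFiberDesc 
    (fun U t => AddCommGrpCat.ofHom (Finsupp.mapDomain.addMonoidHom (ModGerm.germ Λ ξ F t))) 
    (fun U V g t => by
      ext1
      refine (Finsupp.mapDomain.addMonoidHom_comp _ _).symm.trans (congrArg Finsupp.mapDomain.addMonoidHom ?_)
      funext s
      exact ModGerm.germ_res Λ ξ F g t s)

theorem kap0_apply {U : X.Etale} (t : EtpbcA.Germ.Fib ξ U) (c : EtModW.sect Λ F U →₀ ℤ) :
    kap0 F ξ ((Scheme.pointSmallEtale ξ).toPresheafFiber U t (ZP F) c) = 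
      c.mapDomain (ModGerm.germ Λ ξ F t) :=
  ConcreteCategory.congr_hom ((Scheme.pointSmallEtale ξ).toPresheafFiber_presheafFiberDesc 
    (P := ZP F) (fun U t => AddCommGrpCat.ofHom (Finsupp.mapDomain.addMonoidHom (ModGerm.germ Λ ξ F t))) 
    (fun U V g t => by
      ext1
      refine (Finsupp.mapDomain.addMonoidHom_comp _ _).symm.trans (congrArg Finsupp.mapDomain.addMonoidHom ?_)
      funext s
      exact ModGerm.germ_res Λ ξ F g t s) U t) c

theorem exists_common_res {U : X.Etale} (t : EtpbcA.Germ.Fib ξ U) (A : Finset (EtModW.sect Λ F U)) :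
    ∃ (V : X.Etale) (g : V ⟶ U) (v : EtpbcA.Germ.Fib ξ V), EtpbcA.Germ.fmap ξ g v = t ∧
      ∀ s ∈ A, ∀ s' ∈ A, ModGerm.germ Λ ξ F t s = ModGerm.germ Λ ξ F t s' →
        ModGerm.res Λ F g s = ModGerm.res Λ F g s' := by
  classical
  let B : Finset (EtModW.sect Λ F U × EtModW.sect Λ F U) := 
    (A ×ˢ A).filter (fun p => ModGerm.germ Λ ξ F t p.1 = ModGerm.germ Λ ξ F t p.2)
  obtain ⟨V, g, v, hv, h⟩ := ModSpec.exists_common_kill Λ ξ F t B (fun p => p.1 - p.2) (by
    intro p hp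
    rw [map_sub, (Finset.mem_filter.1 hp).2, sub_self])
  refine ⟨V, g, v, hv, fun s hs s' hs' e => ?_⟩
  have := h (s, s') (Finset.mem_filter.2 ⟨Finset.mem_product.2 ⟨hs, hs'⟩, e⟩)
  rw [map_sub, sub_eq_zero] at this
  exact this

theorem kap0_injective : Function.Injective (kap0 F ξ) := by
  classical
  refine (injective_iff_map_eq_zero (kap0 F ξ).hom).2 fun x hx => ?_
  obtain ⟨U, t, c, rfl⟩ := (Scheme.pointSmallEtale ξ).toPresheafFiber_jointly_surjective (P := ZP F) x
  have hx' : c.mapDomain (ModGerm.germ Λ ξ F t) = 0 := (kap0_apply F ξ t c).symm.trans hx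
  obtain ⟨V, g, v, hv, h⟩ := exists_common_res F ξ t c.support
  have h1 : (c.mapDomain (ModGerm.res Λ F g)).mapDomain (ModGerm.germ Λ ξ F v) = 0 := by
    rw [← Finsupp.mapDomain_comp, ← hx']
    refine Finsupp.mapDomain_congr fun s _ => ?_
    change ModGerm.germ Λ ξ F v (ModGerm.res Λ F g s) = _
    rw [ModGerm.germ_res, hv]
  have h2 : Set.InjOn (ModGerm.germ Λ ξ F v) 
      ((c.mapDomain (ModGerm.res Λ F g)).support : Set (EtModW.sect Λ F V)) := by
    intro a ha b hb hab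
    obtain ⟨s, hs, rfl⟩ := Finset.mem_image.1 (Finsupp.mapDomain_support (Finset.mem_coe.1 ha))
    obtain ⟨s', hs', rfl⟩ := Finset.mem_image.1 (Finsupp.mapDomain_support (Finset.mem_coe.1 hb))
    change ModGerm.germ Λ ξ F v (ModGerm.res Λ F g s) = ModGerm.germ Λ ξ F v (ModGerm.res Λ F g s') at hab
    rw [ModGerm.germ_res, ModGerm.germ_res, hv] at hab
    exact h s hs s' hs' hab
  have h3 : c.mapDomain (ModGerm.res Λ F g) = 0 :=
    Finsupp.mapDomain_injOn _ h2 (fun _ h => h) (by simp) 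
      (h1.trans Finsupp.mapDomain_zero.symm)
  have h4 := (Scheme.pointSmallEtale ξ).toPresheafFiber_w_apply g v (ZP F) c
  change (Scheme.pointSmallEtale ξ).toPresheafFiber V v (ZP F) (c.mapDomain (ModGerm.res Λ F g)) = 
    (Scheme.pointSmallEtale ξ).toPresheafFiber U (EtpbcA.Germ.fmap ξ g v) (ZP F) c at h4
  rw [hv, h3] at h4
  exact h4.symm.trans (map_zero _)

theorem kap0_surjective : Function.Surjective (kap0 F ξ) := by
  classical
  intro d
  obtain ⟨U, t, h⟩ := ModSpec.exists_common_sections Λ ξ F d.support (fun a => a)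
  choose! r hr using h
  refine ⟨(Scheme.pointSmallEtale ξ).toPresheafFiber U t (ZP F) (d.mapDomain r : EtModW.sect Λ F U →₀ ℤ), ?_⟩
  refine (kap0_apply F ξ t _).trans ?_
  rw [← Finsupp.mapDomain_comp]
  refine (Finsupp.mapDomain_congr (g := id) fun a ha => ?_).trans Finsupp.mapDomain_id
  exact hr a ha

theorem isIso_fiber_ηZ : IsIso ((Scheme.pointSmallEtale ξ).presheafFiber.map (ηZ F)) :=
  GrothendieckTopology.Point.W_isInvertedBy_presheafFiber _ _ (W_ηZ F)

/-- the inverse of the map on fibers -/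
noncomputable def invη' : (Scheme.pointSmallEtale ξ).presheafFiber.obj (ZF F).obj ⟶
    (Scheme.pointSmallEtale ξ).presheafFiber.obj (ZP F) :=
  have := isIso_fiber_ηZ F ξ
  inv ((Scheme.pointSmallEtale ξ).presheafFiber.map (ηZ F))

theorem invη'_bijective : Function.Bijective (invη' F ξ) := by
  have := isIso_fiber_ηZ F ξ
  exact ConcreteCategory.bijective_of_isIso (inv ((Scheme.pointSmallEtale ξ).presheafFiber.map (ηZ F)))

theorem invη'_apply (x : ((Scheme.pointSmallEtale ξ).presheafFiber.obj (ZP F) : AddCommGrpCat.{u + 1})) :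
    invη' F ξ ((Scheme.pointSmallEtale ξ).presheafFiber.map (ηZ F) x) = x := by
  have := isIso_fiber_ηZ F ξ
  exact ConcreteCategory.congr_hom (IsIso.hom_inv_id ((Scheme.pointSmallEtale ξ).presheafFiber.map (ηZ F))) x

/-- the inverse of the map on fibers -/
noncomputable def invη : Stk (ZF F) ξ ⟶ (Scheme.pointSmallEtale ξ).presheafFiber.obj (ZP F) := invη' F ξ

/-- the value at `ξ` of a germ of `ℤ[F]` -/
noncomputable def kap : Stk (ZF F) ξ ⟶ AddCommGrpCat.of ((MStk Λ F ξ : Type (u + 1)) →₀ ℤ) :=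
  invη F ξ ≫ kap0 F ξ

theorem kap_bijective : Function.Bijective (kap F ξ) :=
  Function.Bijective.comp (g := kap0 F ξ) ⟨kap0_injective F ξ, kap0_surjective F ξ⟩ (invη'_bijective F ξ)

variable {ξ}

theorem kap_germ {U : X.Etale} (l : Spec (.of Ω) ⟶ U.left) (hl : l ≫ U.hom = ξ) 
    (c : EtModW.sect Λ F U →₀ ℤ) : kap F ξ (germ (ZF F) l hl (dl F c)) = c.mapDomain (mg Λ F l hl) := by
  have h1 := (Scheme.pointSmallEtale ξ).toPresheafFiber_naturality_apply (ηZ F) U (Over.homMk l hl) c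
  have h2 : invη F ξ (germ (ZF F) l hl (dl F c)) =
      (Scheme.pointSmallEtale ξ).toPresheafFiber U (Over.homMk l hl) (ZP F) c := 
    (congrArg (invη F ξ) h1.symm).trans (invη'_apply F ξ _)
  exact (congrArg (kap0 F ξ) h2).trans (kap0_apply F ξ _ c)

end Stalk

end Groth.Agent.Etrest.LD
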