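import Groth.Agent.Etrest.ModGerm
import Groth.Agent.Etrest.ModLoc
import Groth.Agent.EtpbcB.BigFam

/-!
# Germs of sheaves of modules and inverse images (mirror of `EtpbcB.Big`)
-/

set_option autoImplicit false
set_option backward.isDefEq.respectTransparency.types false
universe u
open CategoryTheory CategoryTheory.Limits AlgebraicGeometry Opposite

namespace Groth.Agent.Etrest.LD

open EtpbcB.Big (etHom et_w bcPt bcFst bcPt_hom bcPt_fst bc_condition hom_ext_bc exists_lift exists_geomPoint)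

variable (Λ : Type (u + 1)) [CommRing Λ]

section Basic

variable {X : Scheme.{u}} {Ω : Type u} [Field Ω] [IsSepClosed Ω]

/-- The stalk at a geometric point. -/
noncomputable abbrev MStk (F : EtModW.Mod Λ X) (ξ : Spec (.of Ω) ⟶ X) : ModuleCat.{u + 1} Λ :=
  (EtModW.stalk Λ ξ).obj F

/-- The germ of a section over `U` at a geometric point `l` of `U` over `ξ`. -/
noncomputable def mg (F : EtModW.Mod Λ X) {ξ : Spec (.of Ω) ⟶ X} {U : X.Etale}
    (l : Spec (.of Ω) ⟶ U.left) (hl : l ≫ U.hom = ξ) : EtModW.sect Λ F U →ₗ[Λ] (MStk Λ F ξ : Type (u + 1)) :=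
  ModGerm.germ Λ ξ F (Over.homMk l hl)

theorem exists_mg (F : EtModW.Mod Λ X) {ξ : Spec (.of Ω) ⟶ X} (σ : MStk Λ F ξ) :
    ∃ (U : X.Etale) (l : Spec (.of Ω) ⟶ U.left) (hl : l ≫ U.hom = ξ) (s : EtModW.sect Λ F U),
      mg Λ F l hl s = σ := by
  obtain ⟨U, x, z, hz⟩ := ModGerm.germ_surj Λ ξ F σ
  exact ⟨U, x.left, Over.w x, z, hz⟩

theorem mg_eq_iff (F : EtModW.Mod Λ X) {ξ : Spec (.of Ω) ⟶ X} {U : X.Etale}
    (l : Spec (.of Ω) ⟶ U.left) (hl : l ≫ U.hom = ξ) (s t : EtModW.sect Λ F U) :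
    mg Λ F l hl s = mg Λ F l hl t ↔
      ∃ (V : X.Etale) (g : V ⟶ U) (m : Spec (.of Ω) ⟶ V.left), m ≫ g.left = l ∧
        ModGerm.res Λ F g s = ModGerm.res Λ F g t := by
  refine (ModGerm.germ_eq_iff Λ ξ F (Over.homMk l hl) s t).trans ?_
  constructor
  · rintro ⟨V, g, y, hy, h⟩
    refine ⟨V, g, y.left, ?_, h⟩
    have := congrArg (fun z => z.left) hy
    exact this
  · rintro ⟨V, g, m, hm, h⟩
    have w : g.left ≫ U.hom = V.hom := Over.w g.hom
    refine ⟨V, g, Over.homMk m ?_, ?_, h⟩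
    · rw [← hl, ← hm, Category.assoc]
      exact congrArg _ w.symm
    · apply Over.OverMorphism.ext
      exact hm

theorem mg_res (F : EtModW.Mod Λ X) {ξ : Spec (.of Ω) ⟶ X} {U V : X.Etale} (g : V ⟶ U)
    (m : Spec (.of Ω) ⟶ V.left) (hm : m ≫ V.hom = ξ) (s : EtModW.sect Λ F U) :
    mg Λ F m hm (ModGerm.res Λ F g s) =
      mg Λ F (m ≫ g.left) (by rw [← hm, Category.assoc]; exact congrArg _ (Over.w g.hom)) s :=
  ModGerm.germ_res Λ ξ F g (Over.homMk m hm) s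

theorem mg_congr (F : EtModW.Mod Λ X) {ξ : Spec (.of Ω) ⟶ X} {U : X.Etale}
    {l l' : Spec (.of Ω) ⟶ U.left} (hl : l ≫ U.hom = ξ) (h : l = l') (s : EtModW.sect Λ F U) :
    mg Λ F l hl s = mg Λ F l' (by rw [← h, hl]) s := by
  subst h
  rfl

theorem mg_res' (F : EtModW.Mod Λ X) {ξ : Spec (.of Ω) ⟶ X} {U V : X.Etale} (g : V ⟶ U)
    (m : Spec (.of Ω) ⟶ V.left) (hm : m ≫ V.hom = ξ) (l : Spec (.of Ω) ⟶ U.left)
    (hl : l ≫ U.hom = ξ) (h : m ≫ g.left = l) (s : EtModW.sect Λ F U) :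
    mg Λ F m hm (ModGerm.res Λ F g s) = mg Λ F l hl s := by
  subst h
  exact mg_res Λ F g m hm s

end Basic

section Pull

variable {X Y : Scheme.{u}} (f : X ⟶ Y) {Ω : Type u} [Field Ω] [IsSepClosed Ω]

instance : HasLimitsOfSize.{u, u} (ModuleCat.{u + 1} Λ) := hasLimitsOfSizeShrink.{u, u, u + 1, u + 1} _

/-- The stalk of the inverse image. -/
noncomputable def mpull (F : EtModW.Mod Λ Y) (ξ : Spec (.of Ω) ⟶ X) :
    MStk Λ F (ξ ≫ f) ≅ MStk Λ ((EtModW.pull Λ f).obj F) ξ :=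
  (Etbase.StalkPull.sheafFiberIsoOfIso (Etbase.StalkPull.pointIso f ξ).symm (ModuleCat.{u + 1} Λ) ≪≫
    (Scheme.pointSmallEtale ξ).sheafFiberComapIso (EtCoh.bc f) (EtCoh.coverPreserving_bc f)
      (ModuleCat.{u + 1} Λ)).app F

/-- The unit map on sections. -/
noncomputable def munit (F : EtModW.Mod Λ Y) (V : Y.Etale) :
    EtModW.sect Λ F V →ₗ[Λ] EtModW.sect Λ ((EtModW.pull Λ f).obj F) ((EtCoh.bc f).obj V) :=
  ((((EtCoh.bc f).sheafAdjunctionContinuous (ModuleCat.{u + 1} Λ) Y.smallEtaleTopology X.smallEtaleTopology).unit.app F).hom.app (op V)).hom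

theorem mpull_germ (F : EtModW.Mod Λ Y) (ξ : Spec (.of Ω) ⟶ X) {U : Y.Etale}
    (l : Spec (.of Ω) ⟶ U.left) (hl : l ≫ U.hom = ξ ≫ f) (s : EtModW.sect Λ F U) :
    (mpull Λ f F ξ).hom (mg Λ F l hl s) =
      mg Λ ((EtModW.pull Λ f).obj F) (bcPt f ξ l hl) (bcPt_hom f ξ l hl) (munit Λ f F U s) := by
  have h := Sga4A.ComapGerm.toPresheafFiber_sheafFiberComapIso_hom
    (Scheme.pointSmallEtale ξ) (EtCoh.bc f) (EtCoh.coverPreserving_bc f) (ModuleCat.{u + 1} Λ) F U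
    (Over.homMk (bcPt f ξ l hl) (bcPt_hom f ξ l hl))
  have h2 := ConcreteCategory.congr_hom h s
  refine Eq.trans ?_ h2
  refine congrArg (((Scheme.pointSmallEtale ξ).sheafFiberComapIso (EtCoh.bc f)
    (EtCoh.coverPreserving_bc f) (ModuleCat.{u + 1} Λ)).hom.app F) ?_
  have h3 := Sga4B.PullGerm.germ_hom (ModuleCat.{u + 1} Λ) (Etbase.StalkPull.pointIso f ξ).hom F.obj U 
    (Over.homMk l hl)
  exact congrArg (fun φ => φ.hom s) h3

end Pull

end Groth.Agent.Etrest.LD
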