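import Groth.Agent.EtpbcB.BCCrit

/-!
# Lifting local families along a proper base change isomorphism in degree zero
-/

set_option autoImplicit false
set_option backward.isDefEq.respectTransparency.types false
universe u
open CategoryTheory CategoryTheory.Limits AlgebraicGeometry Opposite

namespace Groth.Agent.Etrest.LD

open EtpbcB.Big EtpbcB.BCCrit

section Gen

variable {X Y X' Y' : Scheme.{u}} (f : X ⟶ Y) (g : Y' ⟶ Y) (f' : X' ⟶ Y') (g' : X' ⟶ X)
  (w : g' ≫ f = f' ≫ g)

/-- If the base change map in degree zero is an isomorphism, then local families on `X' ×_{Y'} U` come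
locally on `U` from sections on `X ×_Y V`. -/
theorem exists_sect_of_isLoc (G : EtCoh.Ab X) (hbc : IsIso (EtCoh.baseChange0 f g f' g' w G)) 
    (U : Y'.Etale) (v : Fam G (((EtCoh.bc f').obj U).hom ≫ g')) (hv : IsLoc v) (y : U.left) : 
    ∃ (V : Y.Etale) (U' : Y'.Etale) (a : U' ⟶ U) (b : U' ⟶ (EtCoh.bc g).obj V)
        (σ : EtCoh.sect G ((EtCoh.bc f).obj V)) (y' : U'.left), a.left y' = y ∧
        v.res ((EtCoh.bc f').map a).left (by rw [← Category.assoc, et_w]) =
          (fam σ).res (kap f g f' g' w b) (kap_hom f g f' g' w b) := by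
  obtain ⟨s, hs⟩ := exists_of_isLoc g' G v hv
  have : IsIso ((EtCoh.baseChange0 f g f' g' w G).hom.app (op U)) := by
    have : IsIso (EtCoh.baseChange0 f g f' g' w G).hom :=
      inferInstanceAs (IsIso ((sheafToPresheaf _ _).map (EtCoh.baseChange0 f g f' g' w G)))
    infer_instance
  obtain ⟨τ, hτ⟩ := (ConcreteCategory.bijective_of_isIso 
    ((EtCoh.baseChange0 f g f' g' w G).hom.app (op U))).2 s
  obtain ⟨V, σ, W, a, b, y', hy', h⟩ := exists_locally_unit g ((EtCoh.push f).obj G) U τ y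
  refine ⟨V, W, a, b, σ, y', hy', ?_⟩
  have h1 := congrArg ((EtCoh.baseChange0 f g f' g' w G).hom.app (op W)) h
  have h2 := ConcreteCategory.congr_hom ((EtCoh.baseChange0 f g f' g' w G).hom.naturality a.op) τ
  have h3 : ((EtCoh.pull g').obj G).obj.map ((EtCoh.bc f').map a).op s = 
      ((EtCoh.pull g').obj G).obj.map ((EtCoh.bc f').map b ≫ (theta f g f' g' w V).hom).op
      (unitSec g' G ((EtCoh.bc f).obj V) σ) := by
    refine Eq.trans ?_ ((h2.symm.trans h1).trans (baseChange0_unit' f g f' g' w G V σ W b))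
    rw [← hτ]
    rfl
  have h4 := congrArg (val g' G) h3
  rw [val_kap, val_res, hs] at h4
  exact h4

end Gen

section Point

variable {X S X' : Scheme.{u}} (f : X ⟶ S) {K : Type u} [Field K] [IsSepClosed K] 
  (s : Spec (.of K) ⟶ S) (f' : X' ⟶ Spec (.of K)) (g' : X' ⟶ X) (w : g' ≫ f = f' ≫ s)

include w in
omit [IsSepClosed K] in
theorem lift_aux (V : S.Etale) (t : Spec (.of K) ⟶ V.left) (ht : t ≫ V.hom = s) :
    (f' ≫ t) ≫ V.hom = g' ≫ f := by
  rw [Category.assoc, ht, w]

/-- The morphism from the geometric fibre to `V ×_S X`. -/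
noncomputable def toBC (V : S.Etale) (t : Spec (.of K) ⟶ V.left) (ht : t ≫ V.hom = s) :
    X' ⟶ ((EtCoh.bc f).obj V).left := pullback.lift (f' ≫ t) g' (lift_aux f s f' g' w V t ht)

theorem toBC_hom (V : S.Etale) (t : Spec (.of K) ⟶ V.left) (ht : t ≫ V.hom = s) :
    toBC f s f' g' w V t ht ≫ ((EtCoh.bc f).obj V).hom = g' := pullback.lift_snd _ _ _

theorem toBC_fst (V : S.Etale) (t : Spec (.of K) ⟶ V.left) (ht : t ≫ V.hom = s) :
    toBC f s f' g' w V t ht ≫ bcFst f V = f' ≫ t := pullback.lift_fst _ _ _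

/-- Local families on the geometric fibre lift to sections on an étale neighbourhood. -/
theorem exists_lift_fam (G : EtCoh.Ab X) (hbc : IsIso (EtCoh.baseChange0 f s f' g' w G)) 
    (v : Fam G g') (hv : IsLoc v) : 
    ∃ (V : S.Etale) (t : Spec (.of K) ⟶ V.left) (ht : t ≫ V.hom = s) 
      (σ : EtCoh.sect G ((EtCoh.bc f).obj V)), 
        v = (fam σ).res (toBC f s f' g' w V t ht) (toBC_hom f s f' g' w V t ht) := by
  let U : (Spec (.of K)).Etale := EtCoh.top _
  obtain ⟨V, U', a, b, σ, y', hy', h⟩ := exists_sect_of_isLoc f s f' g' w G hbc U 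
    (v.res ((EtCoh.bc f').obj U).hom rfl) (hv.res _ _) (default : Spec (.of K))
  obtain ⟨c, hc, -⟩ := exists_lift (U'.hom : U'.left ⟶ Spec (.of K)) (𝟙 (Spec (.of K))) y' 
    (Subsingleton.elim (α := Spec (.of K)) _ _)
  have ht : (c ≫ b.left ≫ bcFst s V) ≫ V.hom = s := by
    rw [Category.assoc, Category.assoc, bc_condition, ← Category.assoc b.left, et_w, ← Category.assoc, hc,
      Category.id_comp]
  refine ⟨V, c ≫ b.left ≫ bcFst s V, ht, σ, ?_⟩
  let e : X' ⟶ ((EtCoh.bc f').obj U').left := pullback.lift (f' ≫ c) (𝟙 X') (by 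
    rw [Category.assoc, hc, Category.comp_id, Category.id_comp])
  have he1 : e ≫ bcFst f' U' = f' ≫ c := pullback.lift_fst _ _ _
  have he2 : e ≫ ((EtCoh.bc f').obj U').hom = 𝟙 X' := pullback.lift_snd _ _ _
  have hk : e ≫ kap f s f' g' w b = toBC f s f' g' w V (c ≫ b.left ≫ bcFst s V) ht := by
    apply hom_ext_bc f
    · rw [toBC_fst, Category.assoc, kap_fst, ← Category.assoc, he1, Category.assoc]
    · rw [toBC_hom, Category.assoc, kap_hom, ← Category.assoc, he2, Category.id_comp]
  have h1 := congrArg (fun v => Fam.res v e (show e ≫ ((EtCoh.bc f').obj U').hom ≫ g' = g' by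
    rw [← Category.assoc, he2, Category.id_comp])) h
  simp only [Fam.res_res] at h1
  rw [Fam.res_congr _ _ hk] at h1
  refine Eq.trans ?_ h1
  have h5 : e ≫ ((EtCoh.bc f').map a).left ≫ ((EtCoh.bc f').obj U).hom = 𝟙 X' := by
    rw [et_w, he2]
  refine Eq.trans ?_ (Fam.res_congr v (Category.id_comp _) h5.symm)
  ext Ω _ _ l ξ hl
  exact (v.congr (Category.comp_id l).symm _)

end Point

end Groth.Agent.Etrest.LD
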