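import Groth.Agent.Etrest.LDSupp
import Groth.Agent.Etrest.LDLift

/-!
# Lifting of finite locally constant spanning families of subsets from a geometric fibre
-/

set_option autoImplicit false
set_option backward.isDefEq.respectTransparency.types false
universe u
open CategoryTheory CategoryTheory.Limits AlgebraicGeometry Opposite

namespace Groth.Agent.Etrest.LD

open EtpbcB.Big

variable {Λ : Type (u + 1)} [CommRing Λ] {X : Scheme.{u}} {F : EtModW.Mod Λ X}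

theorem span_image_eq_top_iff {M N : Type*} [AddCommGroup M] [AddCommGroup N] [Module Λ M] [Module Λ N]
    (f : M →ₗ[Λ] N) (hf : Function.Bijective f) (A : Set M) :
    Submodule.span Λ (f '' A) = ⊤ ↔ Submodule.span Λ A = ⊤ := by
  rw [← Submodule.map_span]
  constructor
  · intro h
    refine Submodule.eq_top_iff'.2 fun x => ?_
    have : f x ∈ (Submodule.span Λ A).map f := by rw [h]; trivial
    obtain ⟨y, hy, e⟩ := this
    rwa [← hf.1 e]
  · intro h
    rw [h, Submodule.map_top, LinearMap.range_eq_top.2 hf.2]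

section Span

variable {Z : Scheme.{u}} {q : Z ⟶ X} 

theorem exists_nhd_span {T : SFam F q} (hT : IsLocS T) (z : Z) : ∃ (O : Set Z) (P : Prop), IsOpen O ∧ z ∈ O ∧ 
    ∀ (Ω : Type u) [Field Ω] [IsSepClosed Ω] (l : Spec (.of Ω) ⟶ Z) (ξ : Spec (.of Ω) ⟶ X) (h : l ≫ q = ξ),
      l default ∈ O → (Submodule.span Λ (T Ω l ξ h) = ⊤ ↔ P) := by
  obtain ⟨W, a, ha, w, V, b, hb, M, _, _, ψ, N, hw, hψ, hN, hT⟩ := hT z
  refine ⟨Set.range a, Submodule.span Λ N = ⊤, a.isOpenMap.isOpen_range, ⟨w, hw⟩, ?_⟩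
  rintro Ω _ _ l ξ h ⟨w', hw'⟩
  obtain ⟨m, hm, -⟩ := exists_lift a l w' hw'
  rw [T.congr hm.symm h, hT Ω m ξ (by rw [← Category.assoc, hm, h])]
  exact span_image_eq_top_iff ((mg Λ F (U := V) (ξ := ξ) (m ≫ b) 
          (by rw [Category.assoc, hb, ← Category.assoc, hm, h])).comp ψ) (IsConstVia.bij hψ _ _) N

/-- The locus where the family spans. -/
def spanLocus (T : SFam F q) : Set Z := 
  { z | ∃ (Ω : Type u) (_ : Field Ω) (_ : IsSepClosed Ω) (l : Spec (.of Ω) ⟶ Z) (ξ : Spec (.of Ω) ⟶ X) 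
    (h : l ≫ q = ξ), l default = z ∧ Submodule.span Λ (T Ω l ξ h) = ⊤ }

theorem span_of_mem {T : SFam F q} (hT : IsLocS T) {Ω : Type u} [Field Ω] [IsSepClosed Ω] 
    (l : Spec (.of Ω) ⟶ Z) (ξ : Spec (.of Ω) ⟶ X) (h : l ≫ q = ξ) (hl : l default ∈ spanLocus T) :
    Submodule.span Λ (T Ω l ξ h) = ⊤ := by
  obtain ⟨Ω', _, _, l', ξ', h', hl', e⟩ := hl
  obtain ⟨O, P, -, hO, hP⟩ := exists_nhd_span hT (l default)
  exact (hP Ω l ξ h hO).2 ((hP Ω' l' ξ' h' (hl' ▸ hO)).1 e)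

theorem isClopen_spanLocus {T : SFam F q} (hT : IsLocS T) : IsClopen (spanLocus T) := by
  constructor
  · rw [← isOpen_compl_iff, isOpen_iff_mem_nhds]
    intro z hz
    obtain ⟨O, P, hO, hzO, hP⟩ := exists_nhd_span hT z
    refine Filter.mem_of_superset (hO.mem_nhds hzO) fun z' hz' hD => hz ?_
    obtain ⟨Ω', _, _, l', ξ', h', hl', e⟩ := hD
    obtain ⟨Ω, _, _, l, hl⟩ := exists_geomPoint Z z
    exact ⟨Ω, inferInstance, inferInstance, l, l ≫ q, rfl, hl, (hP Ω l _ rfl (hl.symm ▸ hzO)).2 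
      ((hP Ω' l' ξ' h' (hl'.symm ▸ hz')).1 e)⟩
  · rw [isOpen_iff_mem_nhds]
    intro z hz
    obtain ⟨O, P, hO, hzO, hP⟩ := exists_nhd_span hT z
    refine Filter.mem_of_superset (hO.mem_nhds hzO) fun z' hz' => ?_
    obtain ⟨Ω', _, _, l', ξ', h', hl', e⟩ := hz
    obtain ⟨Ω, _, _, l, hl⟩ := exists_geomPoint Z z'
    exact ⟨Ω, inferInstance, inferInstance, l, l ≫ q, rfl, hl, (hP Ω l _ rfl (hl.symm ▸ hz')).2 
      ((hP Ω' l' ξ' h' (hl'.symm ▸ hzO)).1 e)⟩

end Span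

theorem SFam.res_res {Z Z' Z'' : Scheme.{u}} {q : Z ⟶ X} (T : SFam F q) (r : Z' ⟶ Z) {q' : Z' ⟶ X}
    (h : r ≫ q = q') (r' : Z'' ⟶ Z') {q'' : Z'' ⟶ X} (h' : r' ≫ q' = q'') :
    (T.res r h).res r' h' = T.res (r' ≫ r) (by rw [Category.assoc, h, h']) := by
  funext Ω _ _ l ξ hl
  exact T.congr (Category.assoc _ _ _) _

theorem SFam.res_congr {Z Z' : Scheme.{u}} {q : Z ⟶ X} (T : SFam F q) {r r' : Z' ⟶ Z} {q' : Z' ⟶ X}
    (h : r ≫ q = q') (e : r = r') : T.res r h = T.res r' (by rw [← e, h]) := by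
  subst e
  rfl

theorem exists_lift_opens {K : Type u} [Field K] {W : Scheme.{u}} (O : W.Opens) (t : Spec (.of K) ⟶ W) 
    (h : t default ∈ O) : ∃ t' : Spec (.of K) ⟶ O.toScheme, t' ≫ O.ι = t := by
  have hr : Set.range t ⊆ Set.range O.ι := by
    rintro _ ⟨x, rfl⟩
    rw [Scheme.Opens.range_ι]
    have : x = default := Subsingleton.elim (α := Spec (.of K)) _ _
    rw [this]
    exact h
  exact ⟨IsOpenImmersion.lift O.ι t hr, IsOpenImmersion.lift_fac _ _ _⟩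

theorem exists_open_sub {K : Type u} [Field K] {S : Scheme.{u}} (V : S.Etale) (O : Set V.left) (hO : IsOpen O) 
    (t : Spec (.of K) ⟶ V.left) (h : t default ∈ O) : ∃ (V₂ : S.Etale) (j : V₂ ⟶ V) 
      (t' : Spec (.of K) ⟶ V₂.left), t' ≫ j.left = t ∧ ∀ x, j.left x ∈ O := by
  let O' : V.left.Opens := ⟨O, hO⟩
  obtain ⟨t', ht'⟩ := exists_lift_opens O' t h
  exact ⟨Scheme.Etale.mk (O'.ι ≫ V.hom), etHom O'.ι rfl, t', ht', fun x => x.2⟩

section Lift

variable {S X' : Scheme.{u}} (f : X ⟶ S) {K : Type u} [Field K] [IsSepClosed K] 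
  (s : Spec (.of K) ⟶ S) (f' : X' ⟶ Spec (.of K)) (g' : X' ⟶ X) 

/-- Lifting of a finite locally constant spanning family of subsets from a geometric fibre to an 
étale neighbourhood. -/
theorem exists_lift_sfam [IsProper f] (hF : EtModW.IsFTLocConst Λ F) (hp : IsPullback g' f' f s)
    (hbc : IsIso (EtCoh.baseChange0 f s f' g' hp.w (ZF F))) 
    (T : SFam F g') (hT : IsLocS T) (hspan : ∀ (Ω : Type u) [Field Ω] [IsSepClosed Ω] (l : Spec (.of Ω) ⟶ X')
      (ξ : Spec (.of Ω) ⟶ X) (h : l ≫ g' = ξ), Submodule.span Λ (T Ω l ξ h) = ⊤) :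
    ∃ (V : S.Etale) (t : Spec (.of K) ⟶ V.left) (ht : t ≫ V.hom = s) 
      (T' : SFam F ((EtCoh.bc f).obj V).hom), IsLocS T' ∧ 
      T = T'.res (toBC f s f' g' hp.w V t ht) (toBC_hom f s f' g' hp.w V t ht) ∧ 
      ∀ (Ω : Type u) [Field Ω] [IsSepClosed Ω] (l : Spec (.of Ω) ⟶ ((EtCoh.bc f).obj V).left)
        (ξ : Spec (.of Ω) ⟶ X) (h : l ≫ ((EtCoh.bc f).obj V).hom = ξ), 
        Submodule.span Λ (T' Ω l ξ h) = ⊤ := by
  obtain ⟨V, t, ht, σ, hσ⟩ := exists_lift_fam f s f' g' hp.w (ZF F) hbc (toFam T) (isLoc_toFam hT)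
  have hT₁ := isLocS_supp hF σ
  have e₁ := supp_eq hT σ _ _ hσ
  -- the spanning locus
  have hD := isClopen_spanLocus hT₁
  have hE : IsPullback (toBC f s f' g' hp.w V t ht) f' (bcFst f V) t := by
    refine IsPullback.of_right (h₁₂ := ((EtCoh.bc f).obj V).hom) (v₁₃ := f) (h₂₂ := V.hom) ?_ 
      (toBC_fst f s f' g' hp.w V t ht) (isPullback_bc f V).flip
    rw [toBC_hom]
    exact ht.symm ▸ hp
  have hprop : IsProper (bcFst f V) := MorphismProperty.of_isPullback (isPullback_bc f V).flip inferInstance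
  let C : Set V.left := bcFst f V '' (spanLocus (supp σ))ᶜ
  have hC : IsClosed C := (bcFst f V).isClosedMap _ hD.compl.1
  have htC : t default ∉ C := by
    rintro ⟨e, he, het⟩
    obtain ⟨p, hp1, hp2⟩ := Scheme.Pullback.exists_preimage_pullback (f := bcFst f V) (g := t) e default het
    obtain ⟨Ω, _, _, l, hl⟩ := exists_geomPoint X' (hE.isoPullback.inv p)
    apply he
    refine ⟨Ω, inferInstance, inferInstance, l ≫ toBC f s f' g' hp.w V t ht, l ≫ g', ?_, ?_, ?_⟩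
    · rw [Category.assoc, toBC_hom]
    · rw [Scheme.Hom.comp_apply, hl, ← hp1, ← Scheme.Hom.comp_apply, hE.isoPullback_inv_fst]
    · have h1 := hspan Ω l (l ≫ g') rfl
      rw [e₁] at h1
      exact h1
  obtain ⟨V₂, j, t', ht', hj⟩ := exists_open_sub V Cᶜ hC.isOpen_compl t htC
  have ht₂ : t' ≫ V₂.hom = s := by
    rw [← et_w j, ← Category.assoc, ht', ht]
  refine ⟨V₂, t', ht₂, (supp σ).res ((EtCoh.bc f).map j).left (et_w _), hT₁.res _ _, ?_, ?_⟩
  · rw [SFam.res_res]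
    refine e₁.trans (SFam.res_congr _ _ ?_)
    apply hom_ext_bc f
    · rw [toBC_fst, Category.assoc, bc_map_fst, ← Category.assoc, toBC_fst, Category.assoc, ht']
    · rw [toBC_hom, Category.assoc, et_w, toBC_hom]
  · intro Ω _ _ l ξ h
    refine span_of_mem hT₁ (l ≫ ((EtCoh.bc f).map j).left) ξ (by rw [Category.assoc, et_w, h]) ?_
    by_contra hne
    have h1 : bcFst f V ((l ≫ ((EtCoh.bc f).map j).left) default) ∈ C := ⟨_, hne, rfl⟩
    have h2 : bcFst f V ((l ≫ ((EtCoh.bc f).map j).left) default) = j.left (bcFst f V₂ (l default)) := by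
      rw [← Scheme.Hom.comp_apply, ← Scheme.Hom.comp_apply, ← Scheme.Hom.comp_apply, Category.assoc, bc_map_fst]
    rw [h2] at h1
    exact hj _ h1

end Lift

end Groth.Agent.Etrest.LD
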