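import Groth.Agent.Etrest.LDFree

/-!
# Finite locally constant families of subsets of the stalks, and sections of `ℤ[F]`
-/

set_option autoImplicit false
set_option backward.isDefEq.respectTransparency.types false
universe u
open CategoryTheory CategoryTheory.Limits AlgebraicGeometry Opposite

namespace Groth.Agent.Etrest.LD

open EtpbcB.Big

section Ind

variable {α β : Type*}

open Classical in
/-- The indicator function of a finite set, as a formal sum. -/
noncomputable def ind (S : Set α) : α →₀ ℤ :=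
  if h : S.Finite then ∑ a ∈ h.toFinset, Finsupp.single a 1 else 0

theorem ind_apply {S : Set α} (h : S.Finite) (a : α) [Decidable (a ∈ S)] : ind S a = if a ∈ S then 1 else 0 := by
  classical
  rw [ind, dif_pos h, Finsupp.finsetSum_apply]
  simp only [Finsupp.single_apply]
  rw [Finset.sum_ite_eq' h.toFinset a]
  simp

theorem mem_support_ind {S : Set α} (h : S.Finite) (a : α) : a ∈ (ind S).support ↔ a ∈ S := by
  classical
  rw [Finsupp.mem_support_iff, ind_apply h]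
  simp

theorem mapDomain_ind {S : Set α} (h : S.Finite) (f : α → β) (hf : Set.InjOn f S) : 
    (ind S).mapDomain f = ind (f '' S) := by
  classical
  rw [ind, dif_pos h, ind, dif_pos (h.image f), Finsupp.mapDomain_finsetSum]
  simp only [Finsupp.mapDomain_single]
  have : (h.image f).toFinset = h.toFinset.image f := by
    ext b
    simp
  rw [this, Finset.sum_image]
  intro a ha b hb
  exact hf (by simpa using ha) (by simpa using hb)

end Ind

variable {Λ : Type (u + 1)} [CommRing Λ] {X : Scheme.{u}} 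

/-- Families of subsets of the stalks of `F` at the geometric points of `Z`. -/
def SFam (F : EtModW.Mod Λ X) {Z : Scheme.{u}} (q : Z ⟶ X) : Type (u + 1) :=
  ∀ (Ω : Type u) [Field Ω] [IsSepClosed Ω] (l : Spec (.of Ω) ⟶ Z) (ξ : Spec (.of Ω) ⟶ X)
    (_ : l ≫ q = ξ), Set (MStk Λ F ξ : Type (u + 1))

variable {F : EtModW.Mod Λ X}

theorem SFam.congr {Z : Scheme.{u}} {q : Z ⟶ X} (T : SFam F q) {Ω : Type u} [Field Ω]
    [IsSepClosed Ω] {l l' : Spec (.of Ω) ⟶ Z} (e : l = l') {ξ : Spec (.of Ω) ⟶ X} (h : l ≫ q = ξ) :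
    T Ω l ξ h = T Ω l' ξ (by rw [← e, h]) := by
  subst e
  rfl

/-- Pullback of families. -/
noncomputable def SFam.res {Z Z' : Scheme.{u}} {q : Z ⟶ X} (T : SFam F q) (r : Z' ⟶ Z) {q' : Z' ⟶ X}
    (h : r ≫ q = q') : SFam F q' :=
  fun Ω _ _ l ξ hl => T Ω (l ≫ r) ξ (by rw [Category.assoc, h, hl])

/-- A family is a finite locally constant family of subsets if, étale locally, it is given by a finite 
subset of `M` where `F` is constant with value `M`. -/
def IsLocS {Z : Scheme.{u}} {q : Z ⟶ X} (T : SFam F q) : Prop :=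
  ∀ z : Z, ∃ (W : Scheme.{u}) (a : W ⟶ Z) (_ : Etale a) (w : W) (V : X.Etale) (b : W ⟶ V.left)
    (hb : b ≫ V.hom = a ≫ q) (M : Type (u + 1)) (_ : AddCommGroup M) (_ : Module Λ M) 
    (ψ : M →ₗ[Λ] EtModW.sect Λ F V) (N : Set M), a w = z ∧ ModLoc.IsConstVia Λ F V ψ ∧ N.Finite ∧ 
      ∀ (Ω : Type u) [Field Ω] [IsSepClosed Ω] (l : Spec (.of Ω) ⟶ W) (ξ : Spec (.of Ω) ⟶ X) 
        (hl : l ≫ a ≫ q = ξ),
        T Ω (l ≫ a) ξ (by rw [Category.assoc, hl]) = (fun m => mg Λ F (U := V) (ξ := ξ) (l ≫ b) 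
          (by rw [Category.assoc, hb, hl]) (ψ m)) '' N

theorem IsConstVia.bij {V : X.Etale} {M : Type (u + 1)} [AddCommGroup M] [Module Λ M]
    {ψ : M →ₗ[Λ] EtModW.sect Λ F V} (h : ModLoc.IsConstVia Λ F V ψ) {Ω : Type u} [Field Ω] [IsSepClosed Ω] 
    {ξ : Spec (.of Ω) ⟶ X} (l : Spec (.of Ω) ⟶ V.left) (hl : l ≫ V.hom = ξ) :
    Function.Bijective (fun m => mg Λ F l hl (ψ m)) := h Ω ξ (Over.homMk l hl)

theorem IsLocS.res {Z Z' : Scheme.{u}} {q : Z ⟶ X} {T : SFam F q} (hT : IsLocS T) (r : Z' ⟶ Z)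
    {q' : Z' ⟶ X} (h : r ≫ q = q') : IsLocS (T.res r h) := by
  intro z'
  obtain ⟨W, a, ha, w, V, b, hb, M, _, _, ψ, N, hw, hψ, hN, hT⟩ := hT (r z')
  obtain ⟨p, hp1, hp2⟩ := Scheme.Pullback.exists_preimage_pullback (f := a) (g := r) w z' hw
  have e : pullback.snd a r ≫ q' = (pullback.fst a r ≫ a) ≫ q := by
    rw [← h, ← Category.assoc, ← pullback.condition]
  refine ⟨pullback a r, pullback.snd a r, inferInstance, p, V, pullback.fst a r ≫ b, ?_, M, 
    inferInstance, inferInstance, ψ, N, hp2, hψ, hN, ?_⟩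
  · rw [Category.assoc, hb, e, Category.assoc]
  · intro Ω _ _ l ξ hl
    have h1 := hT Ω (l ≫ pullback.fst a r) ξ (by rw [Category.assoc, ← Category.assoc (pullback.fst a r), ← e, hl])
    have h2 : (l ≫ pullback.fst a r) ≫ a = (l ≫ pullback.snd a r) ≫ r := by
      rw [Category.assoc, pullback.condition, Category.assoc]
    refine ((T.congr h2 _).symm.trans h1).trans ?_
    refine congrArg (· '' N) ?_
    funext m
    exact mg_congr Λ F _ (Category.assoc _ _ _) _

theorem IsLocS.finite {Z : Scheme.{u}} {q : Z ⟶ X} {T : SFam F q} (hT : IsLocS T) 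
    {Ω : Type u} [Field Ω] [IsSepClosed Ω] (l : Spec (.of Ω) ⟶ Z) (ξ : Spec (.of Ω) ⟶ X) 
    (h : l ≫ q = ξ) : (T Ω l ξ h).Finite := by
  obtain ⟨W, a, ha, w, V, b, hb, M, _, _, ψ, N, hw, hψ, hN, hT⟩ := hT (l default)
  obtain ⟨m, hm, -⟩ := exists_lift a l w hw
  rw [T.congr hm.symm h, hT Ω m ξ (by rw [← Category.assoc, hm, h])]
  exact hN.image _

/-- The local family of `ℤ[F]` given by the indicator functions. -/
noncomputable def toFam {Z : Scheme.{u}} {q : Z ⟶ X} (T : SFam F q) : Fam (ZF F) q :=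
  fun Ω _ _ l ξ h => Function.surjInv (kap_bijective F ξ).2 (ind (T Ω l ξ h))

theorem kap_toFam {Z : Scheme.{u}} {q : Z ⟶ X} (T : SFam F q) (Ω : Type u) [Field Ω] [IsSepClosed Ω]
    (l : Spec (.of Ω) ⟶ Z) (ξ : Spec (.of Ω) ⟶ X) (h : l ≫ q = ξ) : 
    kap F ξ (toFam T Ω l ξ h) = ind (T Ω l ξ h) := 
  Function.surjInv_eq (kap_bijective F ξ).2 _

theorem isLoc_toFam {Z : Scheme.{u}} {q : Z ⟶ X} {T : SFam F q} (hT : IsLocS T) : IsLoc (toFam T) := by
  intro z
  obtain ⟨W, a, ha, w, V, b, hb, M, _, _, ψ, N, hw, hψ, hN, hT⟩ := hT z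
  refine ⟨W, a, ha, w, V, b, hb, dl F (ind (ψ '' N)), hw, ?_⟩
  ext Ω _ _ l ξ hl
  apply (kap_bijective F ξ).1
  rw [Fam.res_apply, kap_toFam, Fam.res_apply, fam_apply, kap_germ, mapDomain_ind (hN.image _), hT Ω l ξ hl, 
    Set.image_image]
  rintro _ ⟨m, hm, rfl⟩ _ ⟨m', hm', rfl⟩ e
  exact congrArg ψ ((IsConstVia.bij hψ _ _).1 e)

end Groth.Agent.Etrest.LD
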