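import Groth.Agent.Etrest.LDSub

/-!
# The support of a section of `ℤ[F]`, and the locus where a family of subsets spans
-/

set_option autoImplicit false
set_option backward.isDefEq.respectTransparency.types false
universe u
open CategoryTheory CategoryTheory.Limits AlgebraicGeometry Opposite

namespace Groth.Agent.Etrest.LD

open EtpbcB.Big

variable {Λ : Type (u + 1)} [CommRing Λ] {X : Scheme.{u}} {F : EtModW.Mod Λ X}

/-- The support of a section of `ℤ[F]`. -/
noncomputable def supp {E : X.Etale} (σ : EtCoh.sect (ZF F) E) : SFam F E.hom :=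
  fun Ω _ _ l ξ h => ((kap F ξ (fam σ Ω l ξ h)).support : Set _)

theorem exists_common_lift {V : X.Etale} {M : Type (u + 1)} [AddCommGroup M] [Module Λ M]
    {ψ : M →ₗ[Λ] EtModW.sect Λ F V} (hψ : ModLoc.IsConstVia Λ F V ψ) (v : V.left) 
    (A : Finset (EtModW.sect Λ F V)) : ∃ (W : X.Etale) (k : W ⟶ V) (w : W.left), k.left w = v ∧ 
      ∀ s ∈ A, ∃ m : M, ModGerm.res Λ F k s = ModGerm.res Λ F k (ψ m) := by
  classical
  induction A using Finset.induction_on with
  | empty => exact ⟨V, 𝟙 V, v, rfl, by simp⟩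
  | insert s A _ ih =>
    obtain ⟨W, k, w, hw, h⟩ := ih
    obtain ⟨W', k', w', m, hw', h'⟩ := hψ.surjective k w (ModGerm.res Λ F k s)
    refine ⟨W', k' ≫ k, w', ?_, ?_⟩
    · rw [← hw, ← hw']; rfl
    · intro s' hs'
      rcases Finset.mem_insert.1 hs' with rfl | hs'
      · exact ⟨m, by rw [← h', ModGerm.res_comp]⟩
      · obtain ⟨m', hm'⟩ := h s' hs'
        exact ⟨m', by rw [ModGerm.res_comp, hm', ModGerm.res_comp]⟩

theorem isLocS_supp (hF : EtModW.IsFTLocConst Λ F) {E : X.Etale} (σ : EtCoh.sect (ZF F) E) : 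
    IsLocS (supp σ) := by
  classical
  intro x
  obtain ⟨V, g, v, c, hv, hc⟩ := exists_dl F σ x
  obtain ⟨U, u, M, _, _, _, ψ, hu, hψ⟩ := (ModLoc.ftlc_iff F).1 hF (E.hom x)
  have hvu : V.hom v = U.hom u := by
    rw [hu, ← hv, ← et_w g]; rfl
  obtain ⟨p, hp1, hp2⟩ := Scheme.Pullback.exists_preimage_pullback (f := V.hom) (g := U.hom) v u hvu
  let V' : X.Etale := Scheme.Etale.mk (pullback.fst V.hom U.hom ≫ V.hom)
  let p1 : V' ⟶ V := etHom (pullback.fst V.hom U.hom) rfl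
  let p2 : V' ⟶ U := etHom (pullback.snd V.hom U.hom) pullback.condition.symm
  have hψ' := hψ.res p2
  obtain ⟨W, k, w, hw, h⟩ := exists_common_lift hψ' p (c.support.image (ModGerm.res Λ F p1))
  have h' : ∀ s ∈ c.support, ∃ m : M, ModGerm.res Λ F (k ≫ p1) s = ModGerm.res Λ F (k ≫ p2) (ψ m) := by
    intro s hs
    obtain ⟨m, hm⟩ := h _ (Finset.mem_image_of_mem _ hs)
    exact ⟨m, by rw [ModGerm.res_comp, hm, ModGerm.res_comp]; rfl⟩
  choose! μ hμ using h'
  let ψ₂ : M →ₗ[Λ] EtModW.sect Λ F W := (ModGerm.res Λ F (k ≫ p2)).comp ψ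
  have hψ₂ : ModLoc.IsConstVia Λ F W ψ₂ := hψ.res (k ≫ p2)
  have hσ : (ZF F).obj.map (k ≫ p1 ≫ g).op σ = dl F ((c.mapDomain μ).mapDomain ψ₂) := by
    have h1 : (ZF F).obj.map (k ≫ p1).op ((ZF F).obj.map g.op σ) = (ZF F).obj.map (k ≫ p1).op (dl F c) :=
      congrArg _ hc
    rw [map_dl, et_map_map, Category.assoc] at h1
    rw [h1, ← Finsupp.mapDomain_comp]
    exact congrArg (dl F) (Finsupp.mapDomain_congr fun s hs => hμ s hs)
  refine ⟨W.left, (k ≫ p1 ≫ g).left, inferInstance, w, W, 𝟙 _, ?_, M, inferInstance, inferInstance, ψ₂, 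
    ((c.mapDomain μ).support : Set M), ?_, hψ₂, Finset.finite_toSet _, ?_⟩
  · rw [et_w, Category.id_comp]
  · rw [← hv, ← hp1, ← hw]; rfl
  · intro Ω _ _ l ξ hl
    have hl' : l ≫ W.hom = ξ := by rw [← hl, et_w]
    have h1 := Fam.congr_fun (fam_map (k ≫ p1 ≫ g) σ) l hl'
    rw [hσ, fam_apply, Fam.res_apply] at h1
    change ((kap F ξ (fam σ Ω (l ≫ (k ≫ p1 ≫ g).left) ξ _)).support : Set (MStk Λ F ξ)) = _
    rw [← h1, kap_germ, ← Finsupp.mapDomain_comp]
    have h2 := IsConstVia.bij hψ₂ l hl'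
    refine (congrArg _ (Finsupp.mapDomain_support_of_injective h2.1 _)).trans ?_
    rw [Finset.coe_image]
    refine congrArg (· '' _) ?_
    funext m
    exact mg_congr Λ F _ (Category.comp_id _).symm _

theorem supp_eq {Z : Scheme.{u}} {E : X.Etale} {q : Z ⟶ X} {T : SFam F q} (hT : IsLocS T) 
    (σ : EtCoh.sect (ZF F) E) (r : Z ⟶ E.left) (hr : r ≫ E.hom = q) (h : toFam T = (fam σ).res r hr) : 
    T = (supp σ).res r hr := by
  funext Ω _ _ l ξ hl
  have h1 := congrArg (kap F ξ) (Fam.congr_fun h l hl)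
  rw [kap_toFam, Fam.res_apply] at h1
  change _ = ((kap F ξ (fam σ Ω (l ≫ r) ξ _)).support : Set (MStk Λ F ξ))
  rw [← h1]
  ext a
  rw [Finset.mem_coe, mem_support_ind (hT.finite l ξ hl)]

end Groth.Agent.Etrest.LD
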