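import Groth.Agent.Etrest.ModStalk
import Groth.Agent.Sga4B.PullGerm
import Mathlib.AlgebraicGeometry.Morphisms.Proper
import Mathlib.AlgebraicGeometry.PullbackCarrier

/-!
# Local uniformity of the torsion of a finite type locally constant sheaf along a proper morphism
-/

set_option autoImplicit false
universe u

open CategoryTheory CategoryTheory.Limits AlgebraicGeometry Opposite

namespace Groth.Agent.Etrest.ModTor

open Groth.Agent.EtpbcA.Germ (Fib fmap pt hom_pt exists_geomPt_aux)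
open Groth.Agent.Etrest.ModAb Groth.Agent.Etrest.ModStalk

variable {Λ : Type (u + 1)} [CommRing Λ] {X : Scheme.{u}}

/-- An abelian sheaf is killed by `n` if its geometric stalks are. -/
theorem killedBy_of_stalks (G : EtCoh.Ab X) (n : ℕ)
    (h : ∀ (Ω : Type u) [Field Ω] [IsSepClosed Ω] (ξ : Spec (CommRingCat.of Ω) ⟶ X)
      (s : ((EtCoh.stalk ξ).obj G : Type (u + 1))), n • s = 0) : EtCoh.KilledBy n G := by
  intro U s
  refine EtpbcA.Germ.sect_ext_germ G _ _ ?_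
  intro Ω _ _ ξ t
  rw [map_nsmul, map_zero]
  exact h Ω ξ _

/-- The inverse image of a sheaf of modules is killed by `n` if the corresponding stalks are. -/
theorem killedBy_pull_of_stalks {X' : Scheme.{u}} (g : X' ⟶ X) (F : EtModW.Mod Λ X) (n : ℕ)
    (h : ∀ (Ω : Type u) [Field Ω] [IsSepClosed Ω] (ξ : Spec (CommRingCat.of Ω) ⟶ X')
      (s : ((EtModW.stalk Λ (ξ ≫ g)).obj F : Type (u + 1))), n • s = 0) :
    EtCoh.KilledBy n ((ab Λ X').obj ((EtModW.pull Λ g).obj F)) := by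
  refine killedBy_of_stalks _ n ?_
  intro Ω _ _ ξ s
  let e₁ : (EtCoh.stalk ξ).obj ((ab Λ X').obj ((EtModW.pull Λ g).obj F)) ≅
      (EtCoh.stalk ξ).obj ((EtCoh.pull g).obj ((ab Λ X).obj F)) :=
    (EtCoh.stalk ξ).mapIso ((pullIso Λ g).app F)
  let e₂ : (EtCoh.stalk (ξ ≫ g)).obj ((ab Λ X).obj F) ≅
      (EtCoh.stalk ξ).obj ((EtCoh.pull g).obj ((ab Λ X).obj F)) :=
    (Groth.Agent.Etbase.StalkPull.stalkPullIso g ξ).app _
  let e : ((EtCoh.stalk ξ).obj ((ab Λ X').obj ((EtModW.pull Λ g).obj F)) : Type (u + 1)) ≃+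
      ((EtModW.stalk Λ (ξ ≫ g)).obj F : Type (u + 1)) :=
    ((e₁ ≪≫ e₂.symm).addCommGroupIsoToAddEquiv).trans (stalkEquiv Λ (ξ ≫ g) F)
  apply e.injective
  rw [map_nsmul, map_zero]
  exact h Ω ξ (e s)

/-- A natural number nonzero at a field-valued point is invertible near its image. -/
theorem mem_basicOpen_of_ne_zero {S : Scheme.{u}} {Ω : Type u} [Field Ω] (s : Spec (CommRingCat.of Ω) ⟶ S)
    (n : ℕ) (hn : (n : Ω) ≠ 0) : s default ∈ S.basicOpen (n : Γ(S, ⊤)) := by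
  change default ∈ s ⁻¹ᵁ S.basicOpen (n : Γ(S, ⊤))
  rw [Scheme.preimage_basicOpen_top, map_natCast]
  have h1 : IsUnit (n : Γ(Spec (CommRingCat.of Ω), ⊤)) := by
    have h2 : IsUnit (n : Ω) := hn.isUnit
    have h3 := h2.map (Scheme.ΓSpecIso (CommRingCat.of Ω)).inv.hom
    rwa [map_natCast] at h3
  rw [Scheme.basicOpen_of_isUnit _ h1]
  trivial

/-- **Uniform torsion**: for `f` proper and `F` locally constant of finite type with stalks killed by integers prime to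
the residue characteristic, every point of the base has an open neighbourhood `V` and an integer `n > 0` invertible on
`V` such that `n` kills all stalks of `F` above `V`. -/
theorem exists_open_killed {S : Scheme.{u}} (f : X ⟶ S) [QuasiCompact f] [UniversallyClosed f]
    (F : EtModW.Mod Λ X) (hF : EtModW.IsFTLocConst Λ F)
    (htor : ∀ (Ω : Type u) [Field Ω] [IsSepClosed Ω] (ξ : Spec (CommRingCat.of Ω) ⟶ X),
      ∃ n : ℕ, 0 < n ∧ (n : Ω) ≠ 0 ∧ ∀ s : (EtModW.stalk Λ ξ).obj F, n • s = 0) (s : S) :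
    ∃ (V : S.Opens) (n : ℕ), s ∈ V ∧ 0 < n ∧ V ≤ S.basicOpen (n : Γ(S, ⊤)) ∧
      ∀ (Ω : Type u) [Field Ω] [IsSepClosed Ω] (ξ : Spec (CommRingCat.of Ω) ⟶ X), f (ξ default) ∈ V →
        ∀ m : ((EtModW.stalk Λ ξ).obj F : Type (u + 1)), n • m = 0 := by
  -- local statement
  have hloc : ∀ x : X, ∃ (O : X.Opens) (n : ℕ), x ∈ O ∧ 0 < n ∧ f x ∈ S.basicOpen (n : Γ(S, ⊤)) ∧
      ∀ (Ω : Type u) [Field Ω] [IsSepClosed Ω] (ξ : Spec (CommRingCat.of Ω) ⟶ X), ξ default ∈ O →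
        ∀ m : ((EtModW.stalk Λ ξ).obj F : Type (u + 1)), n • m = 0 := by
    intro x
    obtain ⟨Ω, _, _, ξ, hξ⟩ := exists_geomPt_aux X x
    obtain ⟨n, hn, hnΩ, hnF⟩ := htor Ω ξ
    obtain ⟨U, u, M, _, _, _, φ, hu, hφ⟩ := (ModLoc.ftlc_iff F).1 hF x
    obtain ⟨t, -⟩ := Scheme.pointSmallEtaleFiberObjToPreimage_surjective ξ hξ U ⟨u, hu⟩
    have hM : ∀ m : M, n • m = 0 := by
      intro m
      apply (hφ Ω ξ t).1
      change ModGerm.germ Λ ξ F t (φ (n • m)) = ModGerm.germ Λ ξ F t (φ 0)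
      rw [map_nsmul, map_nsmul, map_zero φ, map_zero]
      exact hnF _
    have hU : Etale U.hom := U.prop
    refine ⟨⟨Set.range U.hom, U.hom.isOpenMap.isOpen_range⟩, n, ⟨u, hu⟩, hn, ?_, ?_⟩
    · rw [← hξ, ← Scheme.Hom.comp_apply]
      exact mem_basicOpen_of_ne_zero (ξ ≫ f) n hnΩ
    · intro Ω' _ _ ξ' hξ' m
      obtain ⟨v, hv⟩ := hξ'
      obtain ⟨t', -⟩ := Scheme.pointSmallEtaleFiberObjToPreimage_surjective ξ' rfl U ⟨v, hv⟩
      obtain ⟨m', rfl⟩ := (hφ Ω' ξ' t').2 m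
      change n • ModGerm.germ Λ ξ' F t' (φ m') = 0
      rw [← map_nsmul, ← map_nsmul, hM, map_zero, map_zero]
  choose O n hxO hn hnS hO using hloc
  -- compactness of the fibre
  have hK : IsCompact (f ⁻¹' {s}) := Scheme.Hom.isCompact_preimage_singleton f s
  obtain ⟨T, hT⟩ := hK.elim_nhds_subcover' (fun x _ => (O x : Set X)) (fun x _ => (O x).2.mem_nhds (hxO x))
  let W : Set X := ⋃ x ∈ T, (O x.1 : Set X)
  have hW : IsOpen W := isOpen_biUnion fun x _ => (O x.1).2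
  let V₁ : S.Opens := ⟨(f '' Wᶜ)ᶜ, (f.isClosedMap _ hW.isClosed_compl).isOpen_compl⟩
  have hV₁ : ∀ x : X, f x ∈ V₁ → x ∈ W := by
    intro x hx
    by_contra h
    exact hx ⟨x, h, rfl⟩
  have hsV₁ : s ∈ V₁ := by
    rintro ⟨x, hx, rfl⟩
    exact hx (hT rfl)
  let N : ℕ := ∏ x ∈ T, n x.1
  have hN : (N : Γ(S, ⊤)) = ∏ x ∈ T, (n x.1 : Γ(S, ⊤)) := by
    simp [N]
  refine ⟨V₁ ⊓ S.basicOpen (N : Γ(S, ⊤)), N, ⟨hsV₁, ?_⟩, Finset.prod_pos fun x _ => hn x.1, inf_le_right, ?_⟩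
  · -- `N` is invertible at `s`
    have key : ∀ (T' : Finset (f ⁻¹' {s} : Set X)), s ∈ S.basicOpen (∏ x ∈ T', (n x.1 : Γ(S, ⊤))) := by
      intro T'
      classical
      induction T' using Finset.induction_on with
      | empty =>
        rw [Finset.prod_empty, Scheme.basicOpen_of_isUnit _ isUnit_one]
        trivial
      | insert a T' ha ih =>
        rw [Finset.prod_insert ha, Scheme.basicOpen_mul]
        refine ⟨?_, ih⟩
        have := hnS a.1
        have ha' : f a.1 = s := a.2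
        rwa [ha'] at this
    rw [hN]
    exact key T
  · intro Ω _ _ ξ hξ m
    obtain ⟨x, hx⟩ := Set.mem_iUnion.1 (hV₁ _ hξ.1)
    obtain ⟨hxT, hx⟩ := Set.mem_iUnion.1 hx
    obtain ⟨k, hk⟩ := Finset.dvd_prod_of_mem (fun x : (f ⁻¹' {s} : Set X) => n x.1) hxT
    have h1 := hO x.1 Ω ξ hx m
    change (∏ x ∈ T, n x.1) • m = 0
    rw [hk, mul_comm, mul_smul, h1, smul_zero]

/-- `exists_open_killed` in terms of inverse images. -/
theorem exists_open_killedBy {S : Scheme.{u}} (f : X ⟶ S) [QuasiCompact f] [UniversallyClosed f]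
    (F : EtModW.Mod Λ X) (hF : EtModW.IsFTLocConst Λ F)
    (htor : ∀ (Ω : Type u) [Field Ω] [IsSepClosed Ω] (ξ : Spec (CommRingCat.of Ω) ⟶ X),
      ∃ n : ℕ, 0 < n ∧ (n : Ω) ≠ 0 ∧ ∀ s : (EtModW.stalk Λ ξ).obj F, n • s = 0) (s : S) :
    ∃ (V : S.Opens) (n : ℕ), s ∈ V ∧ 0 < n ∧ IsUnit (n : Γ(S, V)) ∧
      ∀ {X' : Scheme.{u}} (g : X' ⟶ X), (∀ x, f (g x) ∈ V) →
        EtCoh.KilledBy n ((ab Λ X').obj ((EtModW.pull Λ g).obj F)) := by
  obtain ⟨V, n, hs, hn, hV, h⟩ := exists_open_killed f F hF htor s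
  refine ⟨V, n, hs, hn, ?_, ?_⟩
  · have h0 := S.toRingedSpace.isUnit_res_basicOpen (n : Γ(S, ⊤))
    have h1 := h0.map (S.presheaf.map (homOfLE hV : V ⟶ S.basicOpen (n : Γ(S, ⊤))).op).hom
    have h2 : (S.presheaf.map (homOfLE hV : V ⟶ S.basicOpen (n : Γ(S, ⊤))).op).hom
        ((S.presheaf.map (homOfLE (S.basicOpen_le (n : Γ(S, ⊤))) : S.basicOpen (n : Γ(S, ⊤)) ⟶ ⊤).op).hom
          (n : Γ(S, ⊤))) = (n : Γ(S, V)) := by
      rw [map_natCast, map_natCast]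
    rw [← h2]
    exact h1
  · intro X' g hg
    refine killedBy_pull_of_stalks g F n ?_
    intro Ω _ _ ξ m
    refine h Ω (ξ ≫ g) ?_ m
    rw [Scheme.Hom.comp_apply]
    exact hg _

end Groth.Agent.Etrest.ModTor
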