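import Mathlib.Algebra.Exact.Basic
import Mathlib.Algebra.Group.Equiv.Basic
import Mathlib.Tactic.Abel

/-!
# Mayer–Vietoris from a morphism of long exact sequences

Given a morphism `(a, b, c)` of long exact sequences `A → B → C → A[1]`, `A' → B' → C' → A'[1]` with
all `a` bijective, and identifications `C ≃ Z`, `C' ≃ E`, we get the long exact sequence
`B → B' × Z → E → B[1]`.
-/

set_option autoImplicit false

namespace Groth.Agent.Etrest.MVAlg

variable {A B C A' B' C' Z E : ℕ → Type*}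
  [∀ n, AddCommGroup (A n)] [∀ n, AddCommGroup (B n)] [∀ n, AddCommGroup (C n)]
  [∀ n, AddCommGroup (A' n)] [∀ n, AddCommGroup (B' n)] [∀ n, AddCommGroup (C' n)]
  [∀ n, AddCommGroup (Z n)] [∀ n, AddCommGroup (E n)]

theorem mv (u : ∀ n, A n →+ B n) (v : ∀ n, B n →+ C n) (d : ∀ n, C n →+ A (n + 1))
    (u' : ∀ n, A' n →+ B' n) (v' : ∀ n, B' n →+ C' n) (d' : ∀ n, C' n →+ A' (n + 1))
    (a : ∀ n, A n →+ A' n) (b : ∀ n, B n →+ B' n) (c : ∀ n, C n →+ C' n)
    (iZ : ∀ n, C n →+ Z n) (iE : ∀ n, C' n →+ E n)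
    (vZ : ∀ n, B n →+ Z n) (vE : ∀ n, B' n →+ E n) (cZ : ∀ n, Z n →+ E n)
    (huv : ∀ n, Function.Exact (u n) (v n)) (hvd : ∀ n, Function.Exact (v n) (d n))
    (hdu : ∀ n, Function.Exact (d n) (u (n + 1)))
    (huv' : ∀ n, Function.Exact (u' n) (v' n)) (hvd' : ∀ n, Function.Exact (v' n) (d' n))
    (hdu' : ∀ n, Function.Exact (d' n) (u' (n + 1)))
    (hu' : Function.Injective (u' 0))
    (ha : ∀ n, Function.Bijective (a n)) (hiZ : ∀ n, Function.Bijective (iZ n))
    (hiE : ∀ n, Function.Bijective (iE n))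
    (hab : ∀ n x, b n (u n x) = u' n (a n x)) (hbc : ∀ n x, c n (v n x) = v' n (b n x))
    (hca : ∀ n x, a (n + 1) (d n x) = d' n (c n x))
    (hvZ : ∀ n x, iZ n (v n x) = vZ n x) (hvE : ∀ n x, iE n (v' n x) = vE n x)
    (hcZ : ∀ n x, cZ n (iZ n x) = iE n (c n x)) :
    ∃ δ : ∀ n, E n →+ B (n + 1),
      Function.Injective (fun e : B 0 => (b 0 e, vZ 0 e)) ∧
      ∀ n, Function.Exact (fun e : B n => (b n e, vZ n e))
          (fun uv : B' n × Z n => vE n uv.1 - cZ n uv.2) ∧
        Function.Exact (fun uv : B' n × Z n => vE n uv.1 - cZ n uv.2) (δ n) ∧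
        Function.Exact (δ n) (fun e : B (n + 1) => (b (n + 1) e, vZ (n + 1) e)) := by
  let ai : ∀ n, A' n →+ A n := fun n => (AddEquiv.ofBijective (a n) (ha n)).symm.toAddMonoidHom
  have hai : ∀ n x, a n (ai n x) = x := fun n x => (AddEquiv.ofBijective (a n) (ha n)).apply_symm_apply x
  have hai' : ∀ n x, ai n (a n x) = x := fun n x => (AddEquiv.ofBijective (a n) (ha n)).symm_apply_apply x
  let ei : ∀ n, E n →+ C' n := fun n => (AddEquiv.ofBijective (iE n) (hiE n)).symm.toAddMonoidHom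
  have hei : ∀ n x, iE n (ei n x) = x := fun n x => (AddEquiv.ofBijective (iE n) (hiE n)).apply_symm_apply x
  have hei' : ∀ n x, ei n (iE n x) = x := fun n x => (AddEquiv.ofBijective (iE n) (hiE n)).symm_apply_apply x
  refine ⟨fun n => ((u (n + 1)).comp (ai (n + 1))).comp ((d' n).comp (ei n)), ?_, ?_⟩
  · intro x y h
    rw [← sub_eq_zero]
    have h1 : b 0 (x - y) = 0 := by
      rw [map_sub, sub_eq_zero]; exact congrArg Prod.fst h
    have h2 : vZ 0 (x - y) = 0 := by
      rw [map_sub, sub_eq_zero]; exact congrArg Prod.snd h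
    have h3 : v 0 (x - y) = 0 := by
      apply (hiZ 0).1
      rw [hvZ, h2, map_zero]
    obtain ⟨t, ht⟩ := (huv 0 _).1 h3
    have h4 : u' 0 (a 0 t) = 0 := by rw [← hab, ht, h1]
    have h5 : t = 0 := by
      apply (ha 0).1
      rw [map_zero]
      apply hu'
      rw [h4, map_zero]
    rw [← ht, h5, map_zero]
  · intro n
    refine ⟨?_, ?_, ?_⟩
    · rintro ⟨x, z⟩
      constructor
      · intro h
        obtain ⟨c0, rfl⟩ := (hiZ n).2 z
        have h1 : v' n x = c n c0 := by
          apply (hiE n).1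
          rw [hvE, ← hcZ]
          exact sub_eq_zero.1 h
        have h2 : d n c0 = 0 := by
          apply (ha (n + 1)).1
          rw [hca, ← h1, (hvd' n).apply_apply_eq_zero, map_zero]
        obtain ⟨b0, rfl⟩ := (hvd n _).1 h2
        have h3 : v' n (x - b n b0) = 0 := by
          rw [map_sub, ← hbc, h1, sub_self]
        obtain ⟨a0', ha0'⟩ := (huv' n _).1 h3
        obtain ⟨a0, rfl⟩ := (ha n).2 a0'
        refine ⟨b0 + u n a0, ?_⟩
        refine Prod.ext ?_ ?_
        · change b n (b0 + u n a0) = x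
          rw [map_add, hab, ha0']; abel
        · change vZ n (b0 + u n a0) = iZ n (v n b0)
          rw [← hvZ, map_add, (huv n).apply_apply_eq_zero, add_zero]
      · rintro ⟨e, he⟩
        have h1 : b n e = x := congrArg Prod.fst he
        have h2 : vZ n e = z := congrArg Prod.snd he
        change vE n x - cZ n z = 0
        rw [← h1, ← h2, ← hvE, ← hvZ, hcZ, hbc, sub_self]
    · intro x
      constructor
      · intro h
        have h0 : u (n + 1) (ai (n + 1) (d' n (ei n x))) = 0 := h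
        obtain ⟨c0, hc0⟩ := (hdu n _).1 h0
        have h1 : d' n (ei n x - c n c0) = 0 := by
          rw [map_sub, ← hca, hc0, hai, sub_self]
        obtain ⟨u0, hu0⟩ := (hvd' n _).1 h1
        refine ⟨(u0, - iZ n c0), ?_⟩
        change vE n u0 - cZ n (- iZ n c0) = x
        rw [← hvE, hu0, map_neg, hcZ, map_sub, hei]; abel
      · rintro ⟨⟨y, z⟩, hyz⟩
        obtain ⟨c0, rfl⟩ := (hiZ n).2 z
        have h1 : x = iE n (v' n y - c n c0) := by
          rw [← hyz, map_sub, hvE, ← hcZ]
        change u (n + 1) (ai (n + 1) (d' n (ei n x))) = 0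
        rw [h1, hei', map_sub, (hvd' n).apply_apply_eq_zero, zero_sub, map_neg, map_neg, ← hca, hai',
          (hdu n).apply_apply_eq_zero, neg_zero]
    · intro e
      constructor
      · intro h
        have h1 : b (n + 1) e = 0 := congrArg Prod.fst h
        have h2 : vZ (n + 1) e = 0 := congrArg Prod.snd h
        have h3 : v (n + 1) e = 0 := by
          apply (hiZ (n + 1)).1
          rw [hvZ, h2, map_zero]
        obtain ⟨a0, rfl⟩ := (huv (n + 1) _).1 h3
        have h4 : u' (n + 1) (a (n + 1) a0) = 0 := by rw [← hab, h1]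
        obtain ⟨c', hc'⟩ := (hdu' n _).1 h4
        refine ⟨iE n c', ?_⟩
        change u (n + 1) (ai (n + 1) (d' n (ei n (iE n c')))) = _
        rw [hei', hc', hai']
      · rintro ⟨x, rfl⟩
        refine Prod.ext ?_ ?_
        · change b (n + 1) (u (n + 1) (ai (n + 1) (d' n (ei n x)))) = 0
          rw [hab, hai, (hdu' n).apply_apply_eq_zero]
        · change vZ (n + 1) (u (n + 1) (ai (n + 1) (d' n (ei n x)))) = 0
          rw [← hvZ, (huv (n + 1)).apply_apply_eq_zero, map_zero]

end Groth.Agent.Etrest.MVAlg
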