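import Groth.Agent.Etrest.ModFT
import Groth.Agent.Sga4B.DeltaH

/-!
# Weak Serre classes and dévissage along a delta functor

* `WeakSerre W`: `W` contains `0` and is stable under isomorphisms, kernels, cokernels, extensions;
* `WeakSerre.five`, `WeakSerre.of_ker_coker`;
* `step`: the descending step: `K → E → F`, `K₂ → E₂ → K` short exact, `T^q` and `T^{q+1}` of `E`, `E₂`
  in `W`, `T^{q+1}` of `K`, `K₂` in `W`, then `T^q F` is in `W`;
* `primes`: reduction of `n`-torsion objects to objects killed by a prime divisor of `n`;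
* `weakSerre_ftlc`, `mono_rpush_zero`: the instances for finite type locally constant sheaves.
-/

set_option autoImplicit false
universe u v₁ u₁ v₂ u₂

open CategoryTheory CategoryTheory.Limits AlgebraicGeometry Opposite

namespace Groth.Agent.Etrest.ModDev

open Groth.Agent.Localalg.DeltaFun Groth.Agent.Sga4B.DeltaH
open scoped ZeroObject

section Abstract

variable {B : Type u₂} [Category.{v₂} B] [Abelian B]

/-- Weak Serre classes. -/
structure WeakSerre (W : B → Prop) : Prop where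
  zero : W 0
  iso : ∀ {X Y : B}, (X ≅ Y) → W X → W Y
  ker : ∀ {X Y : B} (f : X ⟶ Y), W X → W Y → W (kernel f)
  coker : ∀ {X Y : B} (f : X ⟶ Y), W X → W Y → W (cokernel f)
  ext : ∀ {S : ShortComplex B}, S.ShortExact → W S.X₁ → W S.X₃ → W S.X₂

theorem WeakSerre.of_isZero {W : B → Prop} (hW : WeakSerre W) {X : B} (h : IsZero X) : W X :=
  hW.iso ((isZero_zero B).iso h) hW.zero

/-- If `X₁ → X₂ → X₃ → X₄ → X₅` is exact at `X₂`, `X₃`, `X₄`, and `coker (X₁ → X₂)` and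
`ker (X₄ → X₅)` are in `W`, then so is `X₃`. -/
theorem WeakSerre.of_ker_coker {W : B → Prop} (hW : WeakSerre W) {X₁ X₂ X₃ X₄ X₅ : B}
    (f₁ : X₁ ⟶ X₂) (f₂ : X₂ ⟶ X₃) (f₃ : X₃ ⟶ X₄) (f₄ : X₄ ⟶ X₅)
    (w₁ : f₁ ≫ f₂ = 0) (w₂ : f₂ ≫ f₃ = 0) (w₃ : f₃ ≫ f₄ = 0)
    (h₁ : (ShortComplex.mk f₁ f₂ w₁).Exact) (h₂ : (ShortComplex.mk f₂ f₃ w₂).Exact)
    (h₃ : (ShortComplex.mk f₃ f₄ w₃).Exact)
    (hc : W (cokernel f₁)) (hk : W (kernel f₄)) : W X₃ := by
  have hm : Mono (cokernel.desc f₁ f₂ w₁) := h₁.mono_cokernelDesc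
  have he : Epi (kernel.lift f₄ f₃ w₃) := h₃.epi_kernelLift
  have w : cokernel.desc f₁ f₂ w₁ ≫ kernel.lift f₄ f₃ w₃ = 0 := by
    rw [← cancel_epi (cokernel.π f₁), ← cancel_mono (kernel.ι f₄)]
    simp [w₂]
  refine hW.ext (S := ShortComplex.mk _ _ w) ?_ hc hk
  refine { exact := ?_, mono_f := hm, epi_g := he }
  -- compare with `h₂`
  let φ : ShortComplex.mk f₂ (kernel.lift f₄ f₃ w₃) (by
      rw [← cancel_mono (kernel.ι f₄)]; simp [w₂]) ⟶
      ShortComplex.mk f₂ f₃ w₂ :=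
    { τ₁ := 𝟙 _, τ₂ := 𝟙 _, τ₃ := kernel.ι f₄ }
  let ψ : ShortComplex.mk f₂ (kernel.lift f₄ f₃ w₃) (by
      rw [← cancel_mono (kernel.ι f₄)]; simp [w₂]) ⟶
      ShortComplex.mk (cokernel.desc f₁ f₂ w₁) (kernel.lift f₄ f₃ w₃) w :=
    { τ₁ := cokernel.π f₁, τ₂ := 𝟙 _, τ₃ := 𝟙 _ }
  have e₁ : Epi φ.τ₁ := inferInstanceAs (Epi (𝟙 X₂))
  have e₂ : IsIso φ.τ₂ := inferInstanceAs (IsIso (𝟙 X₃))
  have e₃ : Mono φ.τ₃ := inferInstanceAs (Mono (kernel.ι f₄))
  have d₁ : Epi ψ.τ₁ := inferInstanceAs (Epi (cokernel.π f₁))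
  have d₂ : IsIso ψ.τ₂ := inferInstanceAs (IsIso (𝟙 X₃))
  have d₃ : Mono ψ.τ₃ := inferInstanceAs (Mono (𝟙 _))
  exact (ShortComplex.exact_iff_of_epi_of_isIso_of_mono ψ).1
    ((ShortComplex.exact_iff_of_epi_of_isIso_of_mono φ).2 h₂)

/-- The five lemma for weak Serre classes. -/
theorem WeakSerre.five {W : B → Prop} (hW : WeakSerre W) {X₁ X₂ X₃ X₄ X₅ : B}
    (f₁ : X₁ ⟶ X₂) (f₂ : X₂ ⟶ X₃) (f₃ : X₃ ⟶ X₄) (f₄ : X₄ ⟶ X₅)
    (w₁ : f₁ ≫ f₂ = 0) (w₂ : f₂ ≫ f₃ = 0) (w₃ : f₃ ≫ f₄ = 0)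
    (h₁ : (ShortComplex.mk f₁ f₂ w₁).Exact) (h₂ : (ShortComplex.mk f₂ f₃ w₂).Exact)
    (h₃ : (ShortComplex.mk f₃ f₄ w₃).Exact)
    (i₁ : W X₁) (i₂ : W X₂) (i₄ : W X₄) (i₅ : W X₅) : W X₃ :=
  hW.of_ker_coker f₁ f₂ f₃ f₄ w₁ w₂ w₃ h₁ h₂ h₃ (hW.coker f₁ i₁ i₂) (hW.ker f₄ i₄ i₅)

/-- The image of a map between objects of `W`. -/
theorem WeakSerre.ker_coker_pi {W : B → Prop} (hW : WeakSerre W) {X Y : B} (f : X ⟶ Y) (hX : W X)
    (hY : W Y) : W (kernel (cokernel.π f)) :=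
  hW.ker _ hY (hW.coker f hX hY)

/-- Third isomorphism theorem: `coker (coker e → coker (e ≫ a)) ≅ coker a`. -/
noncomputable def cokerIso {X Y Z : B} (e : X ⟶ Y) (a : Y ⟶ Z) :
    cokernel (cokernel.desc e (a ≫ cokernel.π (e ≫ a)) (by
      rw [← Category.assoc]; exact cokernel.condition _)) ≅ cokernel a where
  hom := cokernel.desc _ (cokernel.desc (e ≫ a) (cokernel.π a) (by simp)) (by
    rw [← cancel_epi (cokernel.π e)]
    simp)
  inv := cokernel.desc _ (cokernel.π (e ≫ a) ≫ cokernel.π _) (by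
    have h := cokernel.condition (cokernel.desc e (a ≫ cokernel.π (e ≫ a)) (by
      rw [← Category.assoc]; exact cokernel.condition _))
    have h' := congrArg (fun z => cokernel.π e ≫ z) h
    rw [cokernel.π_desc_assoc, comp_zero] at h'
    exact (Category.assoc _ _ _).symm.trans h')
  hom_inv_id := by
    rw [← cancel_epi (cokernel.π _), ← cancel_epi (cokernel.π _)]
    simp
  inv_hom_id := by
    rw [← cancel_epi (cokernel.π _)]
    simp

/-- The cokernel of a map out of an object which is only known up to a bounded part. -/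
theorem WeakSerre.coker_of {W : B → Prop} (hW : WeakSerre W) {X Y Z P Q : B} (e : X ⟶ Y) (a : Y ⟶ Z)
    (d : Y ⟶ P) (c : P ⟶ Q) (w : e ≫ d = 0) (w' : d ≫ c = 0)
    (h : (ShortComplex.mk e d w).Exact) (h' : (ShortComplex.mk d c w').Exact)
    (hX : W X) (hZ : W Z) (hP : W P) (hQ : W Q) : W (cokernel a) := by
  -- `coker e ≅ ker c`
  have hm : Mono (cokernel.desc e d w) := h.mono_cokernelDesc
  have he : Epi (kernel.lift c d w') := h'.epi_kernelLift
  let s : cokernel e ⟶ kernel c := kernel.lift c (cokernel.desc e d w) (by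
    rw [← cancel_epi (cokernel.π e)]
    simp [w'])
  have hs : Mono s := by
    have : Mono (s ≫ kernel.ι c) := by simpa [s] using hm
    exact mono_of_mono s (kernel.ι c)
  have hs' : Epi s := by
    have : Epi (cokernel.π e ≫ s) := by
      have e1 : cokernel.π e ≫ s = kernel.lift c d w' := by
        rw [← cancel_mono (kernel.ι c)]
        simp [s]
      rw [e1]
      exact he
    exact epi_of_epi (cokernel.π e) s
  have : IsIso s := isIso_of_mono_of_epi s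
  have h1 : W (cokernel e) := hW.iso (asIso s).symm (hW.ker c hP hQ)
  exact hW.iso (cokerIso e a) (hW.coker _ h1 (hW.coker (e ≫ a) hX hZ))

variable {A : Type u₁} [Category.{v₁} A] [Abelian A]

/-- The descending induction step. -/
theorem step (T : DeltaFunctor A B) {W : B → Prop} (hW : WeakSerre W) {S S₂ : ShortComplex A}
    (hS : S.ShortExact) (hS₂ : S₂.ShortExact) (e : S₂.X₃ ≅ S.X₁) (q : ℕ)
    (hE : W ((T.T q).obj S.X₂)) (hE' : W ((T.T (q + 1)).obj S.X₂))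
    (hE₂ : W ((T.T q).obj S₂.X₂)) (hE₂' : W ((T.T (q + 1)).obj S₂.X₂))
    (hK : W ((T.T (q + 1)).obj S.X₁)) (hK₂ : W ((T.T (q + 1)).obj S₂.X₁)) :
    W ((T.T q).obj S.X₃) := by
  refine hW.of_ker_coker ((T.T q).map S.f) ((T.T q).map S.g) (T.δ hS q) ((T.T (q + 1)).map S.f)
    _ (T.zero₃ hS q) (T.zero₁ hS q) (T.exact₂ hS q) (T.exact₃ hS q) (T.exact₁ hS q) ?_
    (hW.ker _ hK hE')
  -- the sequence `T^q E₂ → T^q K → T^{q+1} K₂ → T^{q+1} E₂`
  have h1 : W (cokernel ((T.T q).map e.hom ≫ (T.T q).map S.f)) :=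
    hW.coker_of ((T.T q).map S₂.g) _ (T.δ hS₂ q) ((T.T (q + 1)).map S₂.f)
      (T.zero₃ hS₂ q) (T.zero₁ hS₂ q) (T.exact₃ hS₂ q) (T.exact₁ hS₂ q) hE₂ hE hK₂ hE₂'
  exact hW.iso (cokernelEpiComp ((T.T q).map e.hom) ((T.T q).map S.f)) h1

/-- The two out of three property in a short exact sequence, for `T^q` in all degrees. -/
theorem middle (T : DeltaFunctor A B) {W : B → Prop} (hW : WeakSerre W) {S : ShortComplex A}
    (hS : S.ShortExact) (h0 : Mono ((T.T 0).map S.f))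
    (h1 : ∀ q, W ((T.T q).obj S.X₁)) (h3 : ∀ q, W ((T.T q).obj S.X₃)) (q : ℕ) :
    W ((T.T q).obj S.X₂) := by
  rcases q with _ | q
  · refine hW.five (0 : 0 ⟶ (T.T 0).obj S.X₁) ((T.T 0).map S.f) ((T.T 0).map S.g) (T.δ hS 0)
      zero_comp _ (T.zero₃ hS 0) ?_ (T.exact₂ hS 0) (T.exact₃ hS 0) hW.zero (h1 0) (h3 0) (h1 1)
    exact (ShortComplex.exact_iff_mono (ShortComplex.mk (0 : 0 ⟶ (T.T 0).obj S.X₁)
      ((T.T 0).map S.f) zero_comp) rfl).2 h0
  · exact hW.five (T.δ hS q) ((T.T (q + 1)).map S.f) ((T.T (q + 1)).map S.g) (T.δ hS (q + 1))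
      (T.zero₁ hS q) _ (T.zero₃ hS (q + 1)) (T.exact₁ hS q) (T.exact₂ hS (q + 1))
      (T.exact₃ hS (q + 1)) (h3 q) (h1 (q + 1)) (h3 (q + 1)) (h1 (q + 2))

/-- Reduction of `n`-torsion objects to objects killed by a prime divisor of `n`. -/
theorem primes (T : DeltaFunctor A B) {W : B → Prop} (hW : WeakSerre W)
    (h0 : ∀ (S : ShortComplex A), S.ShortExact → Mono ((T.T 0).map S.f))
    {P : A → Prop} (hP : WeakSerre P) (n : ℕ) (hn : 0 < n)
    (hl : ∀ l : ℕ, l.Prime → l ∣ n → ∀ F : A, P F → (l : ℤ) • 𝟙 F = 0 →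
      ∀ q, W ((T.T q).obj F)) :
    ∀ F : A, P F → (n : ℤ) • 𝟙 F = 0 → ∀ q, W ((T.T q).obj F) := by
  induction n using Nat.recOnMul with
  | zero => exact absurd hn (lt_irrefl 0)
  | one =>
    intro F _ hF q
    have hF0 : IsZero F := by
      rw [IsZero.iff_id_eq_zero]
      simpa using hF
    exact hW.of_isZero ((T.T q).map_isZero hF0)
  | prime p hp =>
    intro F hF h
    exact hl p hp dvd_rfl F hF h
  | mul a b iha ihb =>
    intro F hF h q
    have ha : 0 < a := Nat.pos_of_ne_zero (by rintro rfl; simp at hn)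
    have hb : 0 < b := Nat.pos_of_ne_zero (by rintro rfl; simp at hn)
    let m : F ⟶ F := (a : ℤ) • 𝟙 F
    let S : ShortComplex A := ShortComplex.mk (kernel.ι m) (cokernel.π (kernel.ι m))
      (cokernel.condition _)
    have hS : S.ShortExact := shortExact_cokernel _
    have hPK : P (kernel m) := hP.ker m hF hF
    have hPC : P (cokernel (kernel.ι m)) := hP.coker _ hPK hF
    refine middle T hW hS (h0 S hS) ?_ ?_ q
    · refine iha ha (fun l hl' hd => hl l hl' (dvd_mul_of_dvd_left hd b)) (kernel m) hPK ?_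
      rw [← cancel_mono (kernel.ι m), zero_comp, Preadditive.zsmul_comp, Category.id_comp]
      have := kernel.condition m
      simpa [m] using this
    · refine ihb hb (fun l hl' hd => hl l hl' (dvd_mul_of_dvd_right hd a))
        (cokernel (kernel.ι m)) hPC ?_
      -- the induced map `coker (ker m → F) → F` is a monomorphism
      have hm : Mono (cokernel.desc (kernel.ι m) m (kernel.condition m)) :=
        (ShortComplex.exact_kernel m).mono_cokernelDesc
      rw [← cancel_mono (cokernel.desc (kernel.ι m) m (kernel.condition m)),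
        ← cancel_epi (cokernel.π (kernel.ι m)), zero_comp, comp_zero,
        Preadditive.zsmul_comp, Category.id_comp, Preadditive.comp_zsmul, cokernel.π_desc]
      simp only [m, smul_smul]
      rw [← h]
      congr 1
      push_cast
      ring

end Abstract

section Sheaves

variable (Λ : Type (u + 1)) [CommRing Λ]

/-- Finite type locally constant sheaves form a weak Serre class (Noetherian coefficients). -/
theorem weakSerre_ftlc [IsNoetherianRing Λ] (X : Scheme.{u}) :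
    WeakSerre (fun F : EtModW.Mod Λ X => EtModW.IsFTLocConst Λ F) where
  zero := ModFT.ftlc_of_isZero (isZero_zero _)
  iso e h := ModFT.ftlc_of_iso e h
  ker f h h' := ModFT.ftlc_kernel f h h'
  coker f h h' := ModFT.ftlc_cokernel f h h'
  ext hS h h' := ModFT.ftlc_extension hS h h'

/-- `f_*` (as the zeroth derived functor) preserves monomorphisms. -/
theorem mono_rightDerived_zero {A : Type u₁} [Category.{v₁} A] [Abelian A] [EnoughInjectives A]
    {B : Type u₂} [Category.{v₂} B] [Abelian B] (G : A ⥤ B) [G.Additive]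
    [PreservesFiniteLimits G] {X Y : A} (f : X ⟶ Y) [Mono f] :
    Mono (((ofRightDerived G).T 0).map f) := by
  have h := G.rightDerivedZeroIsoSelf.hom.naturality f
  have : Mono ((G.rightDerived 0).map f ≫ G.rightDerivedZeroIsoSelf.hom.app Y) := by
    rw [h]
    infer_instance
  exact mono_of_mono ((G.rightDerived 0).map f) (G.rightDerivedZeroIsoSelf.hom.app Y)

variable {X S : Scheme.{u}}

/-- The step for `R^q f_*`. -/
theorem step_Rpush [IsNoetherianRing Λ] (f : X ⟶ S) {S₁ S₂ : ShortComplex (EtModW.Mod Λ X)}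
    (hS₁ : S₁.ShortExact) (hS₂ : S₂.ShortExact) (e : S₂.X₃ ≅ S₁.X₁) (q : ℕ)
    (hE : EtModW.IsFTLocConst Λ ((EtModW.Rpush Λ f q).obj S₁.X₂))
    (hE' : EtModW.IsFTLocConst Λ ((EtModW.Rpush Λ f (q + 1)).obj S₁.X₂))
    (hE₂ : EtModW.IsFTLocConst Λ ((EtModW.Rpush Λ f q).obj S₂.X₂))
    (hE₂' : EtModW.IsFTLocConst Λ ((EtModW.Rpush Λ f (q + 1)).obj S₂.X₂))
    (hK : EtModW.IsFTLocConst Λ ((EtModW.Rpush Λ f (q + 1)).obj S₁.X₁))
    (hK₂ : EtModW.IsFTLocConst Λ ((EtModW.Rpush Λ f (q + 1)).obj S₂.X₁)) :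
    EtModW.IsFTLocConst Λ ((EtModW.Rpush Λ f q).obj S₁.X₃) :=
  step (ofRightDerived (EtModW.push Λ f)) (weakSerre_ftlc Λ S) hS₁ hS₂ e q hE hE' hE₂ hE₂' hK hK₂

/-- Reduction to sheaves killed by a prime, for `R^q f_*`. -/
theorem primes_Rpush [IsNoetherianRing Λ] (f : X ⟶ S) (n : ℕ) (hn : 0 < n)
    (hl : ∀ l : ℕ, l.Prime → l ∣ n → ∀ F : EtModW.Mod Λ X, EtModW.IsFTLocConst Λ F →
      (l : ℤ) • 𝟙 F = 0 → ∀ q, EtModW.IsFTLocConst Λ ((EtModW.Rpush Λ f q).obj F))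
    (F : EtModW.Mod Λ X) (hF : EtModW.IsFTLocConst Λ F) (h : (n : ℤ) • 𝟙 F = 0) (q : ℕ) :
    EtModW.IsFTLocConst Λ ((EtModW.Rpush Λ f q).obj F) := by
  refine primes (ofRightDerived (EtModW.push Λ f)) (weakSerre_ftlc Λ S) ?_ (weakSerre_ftlc Λ X) n hn
    hl F hF h q
  intro S₁ hS₁
  have := hS₁.mono_f
  exact mono_rightDerived_zero (EtModW.push Λ f) S₁.f

end Sheaves

end Groth.Agent.Etrest.ModDev
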