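import Groth.Agent.Etrest.ModTens2
import Mathlib.RingTheory.Ideal.Quotient.Defs

/-!
# `N ⊗ F₀`: torsion, and the morphism `Λ/n ⊗ F₀ ⟶ F`
-/

set_option autoImplicit false
universe u

open CategoryTheory CategoryTheory.Limits AlgebraicGeometry Opposite
open scoped TensorProduct

namespace Groth.Agent.Etrest.ModTens

open Groth.Agent.EtpbcA.Germ (Fib fmap pt mem_iff exists_common exists_geomPt exists_lift fmap_comp
  pt_fmap hom_pt)
open Groth.Agent.Etrest.ModGerm Groth.Agent.Etrest.ModLoc Groth.Agent.Etrest.ModAb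

variable {Λ : Type (u + 1)} [CommRing Λ]
variable {X : Scheme.{u}} {F₀ : EtCoh.Ab X}

theorem nsmul_tens_eq_zero {n : ℕ} {A B : Type (u + 1)} [AddCommGroup A] [AddCommGroup B]
    (h : ∀ b : B, n • b = 0) (y : A ⊗[ℤ] B) : n • y = 0 := by
  induction y using TensorProduct.induction_on with
  | zero => exact smul_zero _
  | tmul a b => rw [← TensorProduct.tmul_smul, h, TensorProduct.tmul_zero]
  | add y z hy hz => rw [smul_add, hy, hz, add_zero]

/-- `N ⊗ F₀` is killed by `n` if `F₀` is. -/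
theorem killedBy_tens {n : ℕ} (h : EtCoh.KilledBy n F₀) (N : ModuleCat.{u + 1} Λ) :
    EtCoh.KilledBy n ((ab Λ X).obj ((tens Λ F₀).obj N)) := by
  intro U s
  have key : n • (show EtModW.sect Λ ((tens Λ F₀).obj N) U from s) = 0 := by
    refine sect_ext Λ _ _ _ fun x => ?_
    obtain ⟨W, k, w, y, hw, e⟩ := exists_tmk F₀ N U s x
    refine ⟨W, k, ⟨w, hw⟩, ?_⟩
    rw [map_nsmul, map_zero, e, ← map_nsmul, nsmul_tens_eq_zero (h W) y, map_zero]
  exact key

section LiftQ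

variable {F : EtModW.Mod Λ X} (i : F₀ ⟶ (ab Λ X).obj F) {n : ℕ}
  (hF : EtCoh.KilledBy n ((ab Λ X).obj F))

/-- The ring `Λ/n` as a module. -/
noncomputable abbrev Lq (Λ : Type (u + 1)) [CommRing Λ] (n : ℕ) : ModuleCat.{u + 1} Λ :=
  ModuleCat.of Λ (Λ ⧸ (Ideal.span {(n : Λ)}))

theorem smul_Lq (x : Lq Λ n) : n • x = 0 := by
  obtain ⟨r, rfl⟩ := Submodule.Quotient.mk_surjective _ (show Λ ⧸ (Ideal.span {(n : Λ)}) from x)
  change n • (Submodule.Quotient.mk r : Λ ⧸ (Ideal.span {(n : Λ)})) = 0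
  rw [← Submodule.Quotient.mk_smul, Submodule.Quotient.mk_eq_zero, nsmul_eq_mul]
  exact Ideal.mul_mem_right _ _ (Ideal.subset_span rfl)

/-- `r ↦ (s ↦ r • i(s))`. -/
noncomputable def pairSec (V : X.Etale) : Λ →ₗ[Λ] (EtCoh.sect F₀ V →ₗ[ℤ] EtModW.sect Λ F V) where
  toFun := fun r =>
    { toFun := fun s => r • iev i V s
      map_add' := fun s s' => by rw [iev_add, smul_add]
      map_smul' := fun z s => by
        rw [iev_zsmul, RingHom.id_apply, smul_comm] }
  map_add' := fun r r' => by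
    ext s
    exact add_smul r r' _
  map_smul' := fun a r => by
    ext s
    exact mul_smul a r _

include hF in
theorem le_ker_pairSec (V : X.Etale) :
    (Ideal.span {(n : Λ)}) ≤ LinearMap.ker (pairSec i V) := by
  rw [Ideal.span_le, Set.singleton_subset_iff]
  change pairSec i V (n : Λ) = 0
  ext s
  change (n : Λ) • iev i V s = 0
  rw [Nat.cast_smul_eq_nsmul]
  exact hF V _

/-- The linear map `Λ/n ⊗ F₀(V) → F(V)`. -/
noncomputable def liftSecQ (V : X.Etale) :
    (Lq Λ n) ⊗[ℤ] EtCoh.sect F₀ V →ₗ[Λ] EtModW.sect Λ F V :=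
  TensorProduct.AlgebraTensorModule.lift
    ((Ideal.span {(n : Λ)}).liftQ (pairSec i V) (le_ker_pairSec i hF V))

/-- The reduction map `Λ → Λ/n`. -/
noncomputable def redQ (Λ : Type (u + 1)) [CommRing Λ] (n : ℕ) : ModuleCat.of Λ Λ ⟶ Lq Λ n :=
  ModuleCat.ofHom (Ideal.span {(n : Λ)}).mkQ

theorem liftSecQ_red (V : X.Etale) (r : Λ) (s : EtCoh.sect F₀ V) :
    liftSecQ i hF V (((redQ Λ n).hom (show ModuleCat.of Λ Λ from r)) ⊗ₜ s) = r • iev i V s := rfl

/-- The morphism of presheaves `Λ/n ⊗ F₀ ⟶ F`. -/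
noncomputable def liftPreQ : tensPreObj Λ F₀.obj (Lq Λ n) ⟶ F.obj where
  app V := ModuleCat.ofHom (liftSecQ i hF V.unop)
  naturality V W g := by
    ext1
    apply TensorProduct.AlgebraTensorModule.ext
    intro x s
    obtain ⟨r, rfl⟩ := Submodule.Quotient.mk_surjective _ (show Λ ⧸ (Ideal.span {(n : Λ)}) from x)
    have h := iev_res i g.unop s
    change r • iev i W.unop (EtpbcA.Germ.res F₀ g.unop s) =
      res Λ F g.unop (r • iev i V.unop s)
    rw [h, map_smul]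

/-- The morphism `Λ/n ⊗ F₀ ⟶ F` attached to `F₀ ⟶ F^ab` if `F` is killed by `n`. -/
noncomputable def tensLiftQ : (tens Λ F₀).obj (Lq Λ n) ⟶ F :=
  ((sheafificationAdjunction X.smallEtaleTopology (ModuleCat.{u + 1} Λ)).homEquiv _ _).symm
    (liftPreQ i hF)

theorem ev_tensLiftQ (V : X.Etale) (y : (Lq Λ n) ⊗[ℤ] EtCoh.sect F₀ V) :
    ev Λ (tensLiftQ i hF) V (tmk F₀ (Lq Λ n) V y) = liftSecQ i hF V y := by
  have h : toSheafify X.smallEtaleTopology (tensPreObj Λ F₀.obj (Lq Λ n)) ≫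
      (tensLiftQ i hF).hom = liftPreQ i hF :=
    ((sheafificationAdjunction X.smallEtaleTopology (ModuleCat.{u + 1} Λ)).homEquiv _ _).apply_symm_apply
      (liftPreQ i hF)
  exact congrArg (fun φ => (φ.app (op V)).hom y) h

/-- `Λ ⊗ F₀ ⟶ F` factors through `Λ/n ⊗ F₀`. -/
theorem map_redQ_tensLiftQ : (tens Λ F₀).map (redQ Λ n) ≫ tensLiftQ i hF = tensLift i := by
  have h1 : (tensPre Λ F₀.obj).map (redQ Λ n) ≫ liftPreQ i hF = liftPre i := by
    ext V : 2
    ext1
    apply TensorProduct.AlgebraTensorModule.ext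
    intro r s
    rfl
  have h2 := (sheafificationAdjunction X.smallEtaleTopology
    (ModuleCat.{u + 1} Λ)).homEquiv_naturality_left_symm ((tensPre Λ F₀.obj).map (redQ Λ n))
      (liftPreQ i hF)
  rw [h1] at h2
  exact h2.symm

theorem epi_tensLiftQ (h : ∀ (Ω : Type u) [Field Ω] [IsSepClosed Ω]
    (ξ : Spec (CommRingCat.of Ω) ⟶ X), Submodule.span Λ (stalkRange i ξ) = ⊤) :
    Epi (tensLiftQ i hF) := by
  have := epi_tensLift i h
  rw [← map_redQ_tensLiftQ i hF] at this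
  exact epi_of_epi ((tens Λ F₀).map (redQ Λ n)) _

end LiftQ

end Groth.Agent.Etrest.ModTens
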