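import Groth.Agent.Etrest.ModAbR
import Groth.Agent.Etrest.ModCons
import Groth.Agent.Etrest.FLCLocal
import Groth.Agent.Etrest.Eff
import Groth.Agent.Etcore.LPullComp

/-!
# Sheaves of `Λ`-modules: étale localization

* `pullIsoRestr`: inverse image along an étale morphism is restriction.
* `isFTLC_iff_pull`, `ftlc_of_local`, `ftlc_of_local_opens`: finite type local constancy is étale local.
* `pushPullIso`, `pull_Rpush_iso`: higher direct images commute with restriction along an étale morphism.
-/

set_option autoImplicit false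
universe u
open CategoryTheory CategoryTheory.Limits AlgebraicGeometry Opposite

namespace Groth.Agent.Etrest.ModEtLoc

open Groth.Agent.EtpbcA Groth.Agent.EtpbcA.OverSite Groth.Agent.Etcore
open EtShriek EtCoh

variable (Λ : Type (u + 1)) [CommRing Λ]

theorem hasLimitsOfSize_aux : HasLimitsOfSize.{u, u + 1} (ModuleCat.{u + 1} Λ) :=
  hasLimitsOfSizeShrink.{u, u + 1, u + 1, u + 1} _

section Restr

variable {X U : Scheme.{u}} (j : U ⟶ X) [Etale j]

/-- Restriction of sheaves of modules along an étale morphism. -/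
noncomputable abbrev restrAlong : EtModW.Mod Λ X ⥤ EtModW.Mod Λ U :=
  (compEtale j).sheafPushforwardContinuous (ModuleCat.{u + 1} Λ) U.smallEtaleTopology
    X.smallEtaleTopology

/-- Restriction along an etale `j` is left adjoint to direct image. -/
noncomputable def restrPushAdj : restrAlong Λ j ⊣ EtModW.push Λ j :=
  (compEtaleAdj j).sheafPushforwardContinuous (E := ModuleCat.{u + 1} Λ)
    U.smallEtaleTopology X.smallEtaleTopology

/-- Pullback along an etale morphism is restriction. -/
noncomputable def pullIsoRestr : EtModW.pull Λ j ≅ restrAlong Λ j :=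
  (ModAb.pullPushAdj Λ j).leftAdjointUniq (restrPushAdj Λ j)

end Restr

section Over

variable {X : Scheme.{u}} (V : X.Etale)

attribute [local instance] hasLimitsOfSize_aux

/-- Transport of sheaves along the equivalence `Over V ≌ V.left.Etale`. -/
noncomputable abbrev transport :
    EtModW.Mod Λ V.left ⥤ Sheaf (X.smallEtaleTopology.over V) (ModuleCat.{u + 1} Λ) :=
  (ofOver V).sheafPushforwardContinuous (ModuleCat.{u + 1} Λ) (X.smallEtaleTopology.over V)
    V.left.smallEtaleTopology

noncomputable def restrIso :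
    restrAlong Λ (str V) ⋙ transport Λ V ≅
      X.smallEtaleTopology.overPullback (ModuleCat.{u + 1} Λ) V :=
  Functor.sheafPushforwardContinuousComp' (ofOverCompIso V) (ModuleCat.{u + 1} Λ)
    (X.smallEtaleTopology.over V) V.left.smallEtaleTopology X.smallEtaleTopology

noncomputable def pullTransportIso :
    EtModW.pull Λ (str V) ⋙ transport Λ V ≅
      X.smallEtaleTopology.overPullback (ModuleCat.{u + 1} Λ) V :=
  Functor.isoWhiskerRight (pullIsoRestr Λ (str V)) (transport Λ V) ≪≫ restrIso Λ V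

noncomputable def constTransportIso :
    constantSheaf (X.smallEtaleTopology.over V) (ModuleCat.{u + 1} Λ) ≅
      constantSheaf V.left.smallEtaleTopology (ModuleCat.{u + 1} Λ) ⋙ transport Λ V :=
  equivCommuteConstant' (X.smallEtaleTopology.over V) (ModuleCat.{u + 1} Λ)
    V.left.smallEtaleTopology (ofOver V) (OverSite2.topT V) (OverSite2.topT' V)

noncomputable abbrev shEquiv :
    Sheaf (X.smallEtaleTopology.over V) (ModuleCat.{u + 1} Λ) ≌ EtModW.Mod Λ V.left :=
  Functor.IsDenseSubsite.sheafEquiv (X.smallEtaleTopology.over V) V.left.smallEtaleTopology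
    (ofOver V) (ModuleCat.{u + 1} Λ)

instance : (transport Λ V).IsEquivalence := (shEquiv Λ V).isEquivalence_inverse

variable {Λ}

/-- `F|_V` is constant with value `M` on the over-site iff `pull V.hom F` is constant. -/
theorem restr_iso_const_iff (F : EtModW.Mod Λ X) (M : ModuleCat.{u + 1} Λ) :
    Nonempty (EtModW.restr Λ F V ≅
      (constantSheaf (X.smallEtaleTopology.over V) (ModuleCat.{u + 1} Λ)).obj M) ↔
      Nonempty ((EtModW.pull Λ (str V)).obj F ≅
        (constantSheaf V.left.smallEtaleTopology (ModuleCat.{u + 1} Λ)).obj M) := by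
  constructor
  · rintro ⟨e⟩
    exact ⟨(transport Λ V).preimageIso
      ((pullTransportIso Λ V).app F ≪≫ e ≪≫ (constTransportIso Λ V).app M)⟩
  · rintro ⟨e⟩
    exact ⟨((pullTransportIso Λ V).app F).symm ≪≫ (transport Λ V).mapIso e ≪≫
      ((constTransportIso Λ V).app M).symm⟩

/-- Finite type locally constant sheaves in terms of pullbacks to small etale sites. -/
theorem isFTLC_iff_pull (F : EtModW.Mod Λ X) :
    EtModW.IsFTLocConst Λ F ↔
      ∃ (ι : Type u) (U : ι → X.Etale), Covers U ∧ ∀ i, ∃ (M : Type (u + 1)) (_ : AddCommGroup M)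
        (_ : Module Λ M) (_ : Module.Finite Λ M),
        Nonempty ((EtModW.pull Λ (str (U i))).obj F ≅ EtModW.constMod Λ (U i).left M) := by
  unfold EtModW.IsFTLocConst
  refine exists_congr fun ι => exists_congr fun U => and_congr_right fun _ => forall_congr' fun i =>
    exists_congr fun M => exists_congr fun _ => exists_congr fun _ => exists_congr fun _ => ?_
  exact restr_iso_const_iff (U i) F _

end Over

/-- A sheaf of modules is zero if the underlying abelian sheaf is. -/
theorem isZero_of_ab {X : Scheme.{u}} (F : EtModW.Mod Λ X) (h : IsZero ((ModAb.ab Λ X).obj F)) :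
    IsZero F := by
  rw [IsZero.iff_id_eq_zero] at h ⊢
  apply (ModAb.ab Λ X).map_injective
  rw [CategoryTheory.Functor.map_id, h, Functor.map_zero]

variable {Λ}

/-- Finite type local constancy is etale local. -/
theorem ftlc_of_local {X : Scheme.{u}} (F : EtModW.Mod Λ X)
    (h : ∀ x : X, ∃ (V : X.Etale), (∃ v : V.left, V.hom.base v = x) ∧
      EtModW.IsFTLocConst Λ ((EtModW.pull Λ (OverSite.str V)).obj F)) :
    EtModW.IsFTLocConst Λ F := by
  choose V hv hV using h
  rw [isFTLC_iff_pull]
  have h2 := fun x => (isFTLC_iff_pull _).1 (hV x)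
  choose ι U hU hM using h2
  refine ⟨Σ x, ι x, fun p => (EtShriek.compEtale (OverSite.str (V p.1))).obj (U p.1 p.2), ?_, ?_⟩
  · intro x
    obtain ⟨v, hv⟩ := hv x
    obtain ⟨i, y, hy⟩ := hU x v
    refine ⟨⟨x, i⟩, y, ?_⟩
    have e : (OverSite.str (V x)).base ((OverSite.str (U x i)).base y) = x := by
      have hy' : (OverSite.str (U x i)).base y = v := hy
      rw [hy']
      exact hv
    exact e
  · rintro ⟨x, i⟩
    obtain ⟨M, i1, i2, i3, ⟨e⟩⟩ := hM x i
    exact ⟨M, i1, i2, i3,
      ⟨((LPullComp.pullComp Λ (OverSite.str (U x i)) (OverSite.str (V x))).app F).symm ≪≫ e⟩⟩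

/-- Finite type local constancy is etale local: version with étale morphisms. -/
theorem ftlc_of_local' {X : Scheme.{u}} (F : EtModW.Mod Λ X)
    (h : ∀ x : X, ∃ (V : Scheme.{u}) (j : V ⟶ X) (_ : Etale j), x ∈ Set.range j ∧
      EtModW.IsFTLocConst Λ ((EtModW.pull Λ j).obj F)) :
    EtModW.IsFTLocConst Λ F := by
  apply ftlc_of_local
  intro x
  obtain ⟨V, j, hj, ⟨v, hv⟩, hV⟩ := h x
  exact ⟨MorphismProperty.Over.mk ⊤ j hj, ⟨v, hv⟩, hV⟩

/-- Finite type local constancy is Zariski local. -/
theorem ftlc_of_local_opens {X : Scheme.{u}} (F : EtModW.Mod Λ X)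
    (h : ∀ x : X, ∃ (V : X.Opens), x ∈ V ∧ EtModW.IsFTLocConst Λ ((EtModW.pull Λ V.ι).obj F)) :
    EtModW.IsFTLocConst Λ F := by
  apply ftlc_of_local'
  intro x
  obtain ⟨V, hx, hV⟩ := h x
  exact ⟨V, V.ι, inferInstance, ⟨⟨x, hx⟩, rfl⟩, hV⟩

section BaseChange

variable {V' V Y X : Scheme.{u}} (j : V ⟶ X) [Etale j] (g : Y ⟶ X) (j' : V' ⟶ Y) [Etale j']
  (g' : V' ⟶ V) (h : IsPullback j' g' g j)

variable (Λ)

include h in
/-- The base change square on direct images/restrictions. -/
noncomputable def restrPushSq :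
    restrAlong Λ j' ⋙ EtModW.push Λ g' ≅ EtModW.push Λ g ⋙ restrAlong Λ j := by
  letI := Functor.isContinuous_comp (bc g') (compEtale j') V.smallEtaleTopology
    V'.smallEtaleTopology Y.smallEtaleTopology
  exact Functor.sheafPushforwardContinuousComp (bc g') (compEtale j') (ModuleCat.{u + 1} Λ) _ _ _ ≪≫
    (Functor.sheafPushforwardContinuousComp' (F := compEtale j) (G := bc g)
      (FG := bc g' ⋙ compEtale j')
      (OverSite2.bcCompIso j g j' g' h).symm (ModuleCat.{u + 1} Λ) _ _ _).symm

include h in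
/-- Degree zero étale base change, natural in the sheaf. -/
noncomputable def pushPullIso :
    EtModW.push Λ g ⋙ EtModW.pull Λ j ≅ EtModW.pull Λ j' ⋙ EtModW.push Λ g' :=
  Functor.isoWhiskerLeft (EtModW.push Λ g) (pullIsoRestr Λ j) ≪≫
    (restrPushSq Λ j g j' g' h).symm ≪≫
    Functor.isoWhiskerRight (pullIsoRestr Λ j').symm (EtModW.push Λ g')

include h in
theorem isZero_Rpush_pull (I : EtModW.Mod Λ Y) (n : ℕ) (hI : IsZero ((EtModW.Rpush Λ g n).obj I)) :
    IsZero ((EtModW.Rpush Λ g' n).obj ((EtModW.pull Λ j').obj I)) := by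
  have h1 : IsZero ((ModAb.ab Λ V).obj ((EtModW.Rpush Λ g' n).obj ((EtModW.pull Λ j').obj I))) := by
    refine IsZero.of_iso ?_ ((ModAb.rpushIso Λ g' n).app ((EtModW.pull Λ j').obj I))
    refine IsZero.of_iso ?_ ((EtCoh.Rpush g' n).mapIso ((ModAb.pullIso Λ j').app I))
    obtain ⟨e⟩ := FLCLocal.pull_Rpush_iso j g j' g' h ((ModAb.ab Λ Y).obj I) n
    refine IsZero.of_iso ?_ e.symm
    refine Functor.map_isZero (EtCoh.pull j) ?_
    exact ((ModAb.ab Λ X).map_isZero hI).of_iso ((ModAb.rpushIso Λ g n).app I).symm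
  exact isZero_of_ab Λ _ h1

include h in
/-- Higher direct images commute with pullback along an etale morphism. -/
theorem pull_Rpush_iso (F : EtModW.Mod Λ Y) (n : ℕ) :
    Nonempty ((EtModW.pull Λ j).obj ((EtModW.Rpush Λ g n).obj F) ≅
      (EtModW.Rpush Λ g' n).obj ((EtModW.pull Λ j').obj F)) := by
  refine Eff.nonempty_iso (EtModW.push Λ g) (EtModW.pull Λ j) (EtModW.pull Λ j')
    (EtModW.push Λ g') (pushPullIso Λ j g j' g' h) ⊤ (fun _ _ _ => trivial) ?_ F trivial n
  intro F _
  refine ⟨Injective.under F, Injective.ι F, inferInstance, trivial, fun q hq => ?_⟩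
  obtain ⟨q, rfl⟩ := Nat.exists_eq_succ_of_ne_zero hq.ne'
  have h1 : IsZero ((EtModW.Rpush Λ g (q + 1)).obj (Injective.under F)) :=
    (EtModW.push Λ g).isZero_rightDerived_obj_injective_succ q (Injective.under F)
  exact ⟨h1, isZero_Rpush_pull Λ j g j' g' h _ _ h1⟩

end BaseChange

end Groth.Agent.Etrest.ModEtLoc
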