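import Groth.Agent.Etrest.ModFT

/-!
# Locally finitely generated sheaves of modules: four and five lemma

`LFG F`: étale locally there is a finitely generated module mapping to the sections of `F` which
surjects onto all geometric stalks.

* `lfg_four`: `B → C → D → E` exact, `B` LFG and `D`, `E` locally constant of finite type ⟹ `C` LFG;
* `ftlc_five'`: five lemma in which the first term is only assumed LFG.
-/

set_option autoImplicit false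
universe u

open CategoryTheory CategoryTheory.Limits AlgebraicGeometry Opposite

namespace Groth.Agent.Etrest.ModLFG

open Groth.Agent.EtpbcA.Germ (Fib fmap pt mem_iff exists_common exists_geomPt exists_lift fmap_comp
  pt_fmap hom_pt)
open Groth.Agent.EtpbcA.FLCExact (exists_fib)
open Groth.Agent.Etrest.ModGerm Groth.Agent.Etrest.ModLoc Groth.Agent.Etrest.ModAb
open Groth.Agent.Etrest.ModFT
open scoped ZeroObject

variable {Λ : Type (u + 1)} [CommRing Λ]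
variable {X : Scheme.{u}}

/-- `φ : M → F(U)` is surjective on all geometric stalks over `U`. -/
def SurjVia {M : Type (u + 1)} [AddCommGroup M] [Module Λ M] (F : EtModW.Mod Λ X) (U : X.Etale)
    (φ : M →ₗ[Λ] EtModW.sect Λ F U) : Prop :=
  ∀ (Ω : Type u) [Field Ω] [IsSepClosed Ω] (ξ : Spec (CommRingCat.of Ω) ⟶ X) (t : Fib ξ U),
    Function.Surjective fun m : M => germ Λ ξ F t (φ m)

theorem SurjVia.res {M : Type (u + 1)} [AddCommGroup M] [Module Λ M] {F : EtModW.Mod Λ X}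
    {U V : X.Etale} {φ : M →ₗ[Λ] EtModW.sect Λ F U} (h : SurjVia F U φ) (g : V ⟶ U) :
    SurjVia F V ((ModGerm.res Λ F g).comp φ) := by
  intro Ω _ _ ξ t c
  obtain ⟨m, hm⟩ := h Ω ξ (fmap ξ g t) c
  refine ⟨m, ?_⟩
  rw [← hm]
  exact germ_res Λ ξ F g t (φ m)

theorem SurjVia.of_isConstVia {M : Type (u + 1)} [AddCommGroup M] [Module Λ M]
    {F : EtModW.Mod Λ X} {U : X.Etale} {φ : M →ₗ[Λ] EtModW.sect Λ F U}
    (h : IsConstVia Λ F U φ) : SurjVia F U φ := fun Ω _ _ ξ t => (h Ω ξ t).2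

/-- Locally finitely generated sheaves. -/
def LFG (F : EtModW.Mod Λ X) : Prop :=
  ∀ x : X, ∃ (U : X.Etale) (u : U.left) (M : Type (u + 1)) (_ : AddCommGroup M) (_ : Module Λ M)
    (_ : Module.Finite Λ M) (φ : M →ₗ[Λ] EtModW.sect Λ F U), U.hom u = x ∧ SurjVia F U φ

theorem lfg_of_ftlc {F : EtModW.Mod Λ X} (hF : EtModW.IsFTLocConst Λ F) : LFG F := by
  rw [ftlc_iff] at hF
  intro x
  obtain ⟨W, w, M, i1, i2, i3, φ, h1, h2⟩ := hF x
  exact ⟨W, w, M, i1, i2, i3, φ, h1, SurjVia.of_isConstVia h2⟩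

/-- An LFG sheaf has small neighbourhoods with a surjection from a finitely generated module. -/
theorem exists_surj_nbhd {F : EtModW.Mod Λ X} (hF : LFG F)
    {Ω : Type u} [Field Ω] [IsSepClosed Ω] (ξ : Spec (CommRingCat.of Ω) ⟶ X) {U : X.Etale}
    (t : Fib ξ U) : ∃ (V : X.Etale) (g : V ⟶ U) (t' : Fib ξ V) (M : Type (u + 1))
      (_ : AddCommGroup M) (_ : Module Λ M) (_ : Module.Finite Λ M)
      (φ : M →ₗ[Λ] EtModW.sect Λ F V), fmap ξ g t' = t ∧ SurjVia F V φ := by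
  obtain ⟨W, w, M, _, _, _, φ, h1, h2⟩ := hF (ξ default)
  obtain ⟨t', -⟩ := exists_fib ξ W w h1
  obtain ⟨V, a, b, t'', ht, -⟩ := exists_common ξ U W t t'
  exact ⟨V, a, t'', M, inferInstance, inferInstance, inferInstance, (res Λ F b).comp φ, ht, h2.res b⟩

/-- Local version of the four lemma. -/
theorem four_core [IsNoetherianRing Λ] {B C D E : EtModW.Mod Λ X}
    (f₂ : B ⟶ C) (f₃ : C ⟶ D) (f₄ : D ⟶ E)
    (h₂ : StalkExact f₂ f₃) (h₃ : StalkExact f₃ f₄)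
    {Ω : Type u} [Field Ω] [IsSepClosed Ω] (ξ : Spec (CommRingCat.of Ω) ⟶ X) {U : X.Etale}
    (t : Fib ξ U) {MB MD ME : Type (u + 1)} [AddCommGroup MB] [AddCommGroup MD]
    [AddCommGroup ME] [Module Λ MB] [Module Λ MD] [Module Λ ME]
    [Module.Finite Λ MB] [Module.Finite Λ MD]
    (φB : MB →ₗ[Λ] EtModW.sect Λ B U) (φD : MD →ₗ[Λ] EtModW.sect Λ D U)
    (φE : ME →ₗ[Λ] EtModW.sect Λ E U)
    (hB : SurjVia B U φB) (hD : IsConstVia Λ D U φD) (hE : IsConstVia Λ E U φE) :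
    ∃ (V : X.Etale) (g : V ⟶ U) (t' : Fib ξ V) (P : Type (u + 1)) (_ : AddCommGroup P)
      (_ : Module Λ P) (_ : Module.Finite Λ P) (γ : P →ₗ[Λ] EtModW.sect Λ C V),
      fmap ξ g t' = t ∧ SurjVia C V γ := by
  obtain ⟨V', g', t'', k₄, rfl, e₄⟩ := exists_local_hom ξ f₄ t φD φE hE
  -- the stalk of `C`
  let P : Type (u + 1) := (EtModW.stalk Λ ξ).obj C
  have eB := hB Ω ξ (fmap ξ g' t'')
  have eD := hD Ω ξ (fmap ξ g' t'')
  have : Module.Finite Λ ((EtModW.stalk Λ ξ).obj B : Type (u + 1)) :=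
    Module.Finite.of_surjective ((germ Λ ξ B _).comp φB) eB
  have : Module.Finite Λ ((EtModW.stalk Λ ξ).obj D : Type (u + 1)) :=
    Module.Finite.of_surjective ((germ Λ ξ D _).comp φD) eD.2
  have : Module.Finite Λ P := finite_of_exact _ _ (h₂ Ω ξ)
  obtain ⟨W, k, w, γ, rfl, hγ⟩ := ModSpec.exists_spread_hom_over Λ ξ C (A := P) LinearMap.id t''
  -- `MB → P`
  let k₂ : MB →ₗ[Λ] P := (stalkMap Λ ξ f₂).comp ((germ Λ ξ B w).comp
    ((res Λ B (k ≫ g')).comp φB))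
  obtain ⟨W', q, w', rfl, e₂⟩ := exists_nbhd_hom_eq ξ C w
    ((ev Λ f₂ W).comp ((res Λ B (k ≫ g')).comp φB)) (γ.comp k₂) (by
      intro m
      change germ Λ ξ C w (ev Λ f₂ W _) = germ Λ ξ C w (γ (k₂ m))
      rw [hγ, ← stalkMap_germ]
      rfl)
  obtain ⟨T, q', r, k₃, rfl, e₃⟩ := exists_local_hom ξ f₃ w' ((res Λ C q).comp γ)
    ((res Λ D (q ≫ k ≫ g')).comp φD) (hD.res _)
  let G : T ⟶ U := q' ≫ q ≫ k ≫ g'
  have hP : Function.Bijective fun m : P => germ Λ ξ C r (res Λ C (q' ≫ q) (γ m)) := by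
    have : (fun m : P => germ Λ ξ C r (res Λ C (q' ≫ q) (γ m))) = fun m => m := by
      funext m
      rw [germ_res, fmap_comp]
      exact hγ m
    rw [this]
    exact Function.bijective_id
  have hB' := hB.res G
  have hD' := hD.res G
  have hE' := hE.res G
  -- compatibilities over `T`
  have c₂ : ∀ m, ev Λ f₂ T (res Λ B G (φB m)) = res Λ C (q' ≫ q) (γ (k₂ m)) := by
    intro m
    have h := congrArg (res Λ C q') (DFunLike.congr_fun e₂ m)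
    change res Λ C q' (res Λ C q (ev Λ f₂ W (res Λ B (k ≫ g') (φB m)))) =
      res Λ C q' (res Λ C q (γ (k₂ m))) at h
    rw [← res_comp, ← res_comp, ← ev_res, ← res_comp] at h
    simpa only [G, Category.assoc] using h
  have c₃ : ∀ m, ev Λ f₃ T (res Λ C (q' ≫ q) (γ m)) = res Λ D G (φD (k₃ m)) := by
    intro m
    have h := e₃ m
    change ev Λ f₃ T (res Λ C q' (res Λ C q (γ m))) =
      res Λ D q' (res Λ D (q ≫ k ≫ g') (φD (k₃ m))) at h
    rwa [← res_comp, ← res_comp] at h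
  have c₄ : ∀ m, ev Λ f₄ T (res Λ D G (φD m)) = res Λ E G (φE (k₄ m)) := by
    intro m
    have h := congrArg (res Λ E (q' ≫ q ≫ k)) (e₄ m)
    change res Λ E (q' ≫ q ≫ k) (ev Λ f₄ V' (res Λ D g' (φD m))) =
      res Λ E (q' ≫ q ≫ k) (res Λ E g' (φE (k₄ m))) at h
    rw [← ev_res] at h
    simp only [← res_comp] at h
    simpa only [G, Category.assoc] using h
  have x₂ : Function.Exact k₂ k₃ :=
    EtpbcA.FLCExact.exact_of_bij k₂.toAddMonoidHom k₃.toAddMonoidHom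
      (stalkMap Λ ξ f₂).toAddMonoidHom (stalkMap Λ ξ f₃).toAddMonoidHom
      ((germ Λ ξ B r).comp ((res Λ B G).comp φB)).toAddMonoidHom
      ((germ Λ ξ C r).comp ((res Λ C (q' ≫ q)).comp γ)).toAddMonoidHom
      ((germ Λ ξ D r).comp ((res Λ D G).comp φD)).toAddMonoidHom
      (fun m => (stalkMap_germ Λ ξ f₂ r _).trans (congrArg _ (c₂ m)))
      (fun m => (stalkMap_germ Λ ξ f₃ r _).trans (congrArg _ (c₃ m)))
      (hB' Ω ξ r) hP.1 (hD' Ω ξ r).1 (h₂ Ω ξ)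
  have x₃ : Function.Exact k₃ k₄ :=
    EtpbcA.FLCExact.exact_of_bij k₃.toAddMonoidHom k₄.toAddMonoidHom
      (stalkMap Λ ξ f₃).toAddMonoidHom (stalkMap Λ ξ f₄).toAddMonoidHom
      ((germ Λ ξ C r).comp ((res Λ C (q' ≫ q)).comp γ)).toAddMonoidHom
      ((germ Λ ξ D r).comp ((res Λ D G).comp φD)).toAddMonoidHom
      ((germ Λ ξ E r).comp ((res Λ E G).comp φE)).toAddMonoidHom
      (fun m => (stalkMap_germ Λ ξ f₃ r _).trans (congrArg _ (c₃ m)))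
      (fun m => (stalkMap_germ Λ ξ f₄ r _).trans (congrArg _ (c₄ m)))
      hP.2 (hD' Ω ξ r).1 (hE' Ω ξ r).1 (h₃ Ω ξ)
  refine ⟨T, G, r, P, inferInstance, inferInstance, inferInstance, (res Λ C (q' ≫ q)).comp γ, ?_, ?_⟩
  · simp only [G, fmap_comp]
  · -- the four lemma at any geometric point
    intro Ω' _ _ ξ' s
    exact AddMonoidHom.surjective_of_surjective_of_surjective_of_injective
      k₂.toAddMonoidHom k₃.toAddMonoidHom k₄.toAddMonoidHom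
      (stalkMap Λ ξ' f₂).toAddMonoidHom
      (stalkMap Λ ξ' f₃).toAddMonoidHom (stalkMap Λ ξ' f₄).toAddMonoidHom
      ((germ Λ ξ' B s).comp ((res Λ B G).comp φB)).toAddMonoidHom
      ((germ Λ ξ' C s).comp ((res Λ C (q' ≫ q)).comp γ)).toAddMonoidHom
      ((germ Λ ξ' D s).comp ((res Λ D G).comp φD)).toAddMonoidHom
      ((germ Λ ξ' E s).comp ((res Λ E G).comp φE)).toAddMonoidHom
      (AddMonoidHom.ext fun m => (stalkMap_germ Λ ξ' f₂ s _).trans (congrArg _ (c₂ m)))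
      (AddMonoidHom.ext fun m => (stalkMap_germ Λ ξ' f₃ s _).trans (congrArg _ (c₃ m)))
      (AddMonoidHom.ext fun m => (stalkMap_germ Λ ξ' f₄ s _).trans (congrArg _ (c₄ m)))
      x₃ (h₂ Ω' ξ') (h₃ Ω' ξ')
      (hB' Ω' ξ' s) (hD' Ω' ξ' s).2 (hE' Ω' ξ' s).1

/-- The four lemma for locally finitely generated sheaves. -/
theorem lfg_four [IsNoetherianRing Λ] {B C D E : EtModW.Mod Λ X}
    (f₂ : B ⟶ C) (f₃ : C ⟶ D) (f₄ : D ⟶ E)
    (h₂ : StalkExact f₂ f₃) (h₃ : StalkExact f₃ f₄)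
    (hB : LFG B) (hD : EtModW.IsFTLocConst Λ D) (hE : EtModW.IsFTLocConst Λ E) : LFG C := by
  intro x
  obtain ⟨Ω, _, _, ξ, t₀, ht₀⟩ := exists_geomPt (U := EtCoh.top X) x
  obtain ⟨U₂, g₂, t₂, MB, _, _, _, φB, e₂, hB⟩ := exists_surj_nbhd hB ξ t₀
  obtain ⟨U₃, g₃, t₃, MD, _, _, _, φD, e₃, hD⟩ := exists_const_nbhd hD ξ t₂
  obtain ⟨U₄, g₄, t₄, ME, _, _, _, φE, e₄, hE⟩ := exists_const_nbhd hE ξ t₃
  obtain ⟨V, g, t, P, _, _, _, γ, e, hC⟩ := four_core f₂ f₃ f₄ h₂ h₃ ξ t₄ _ _ _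
    (hB.res (g₄ ≫ g₃)) (hD.res g₄) hE
  refine ⟨V, pt ξ t, P, inferInstance, inferInstance, inferInstance, γ, ?_, hC⟩
  rw [hom_pt ξ t, ← hom_pt ξ t₀, ht₀]
  rfl

/-- Local version of the five lemma. -/
theorem five_core' [IsNoetherianRing Λ] {A B C D E : EtModW.Mod Λ X}
    (f₁ : A ⟶ B) (f₂ : B ⟶ C) (f₃ : C ⟶ D) (f₄ : D ⟶ E)
    (h₁ : StalkExact f₁ f₂) (h₂ : StalkExact f₂ f₃) (h₃ : StalkExact f₃ f₄)
    {Ω : Type u} [Field Ω] [IsSepClosed Ω] (ξ : Spec (CommRingCat.of Ω) ⟶ X) {U : X.Etale}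
    (t : Fib ξ U) {MA MB MD ME : Type (u + 1)} [AddCommGroup MA] [AddCommGroup MB] [AddCommGroup MD]
    [AddCommGroup ME] [Module Λ MA] [Module Λ MB] [Module Λ MD] [Module Λ ME]
    [Module.Finite Λ MA] [Module.Finite Λ MB] [Module.Finite Λ MD]
    (φA : MA →ₗ[Λ] EtModW.sect Λ A U)
    (φB : MB →ₗ[Λ] EtModW.sect Λ B U) (φD : MD →ₗ[Λ] EtModW.sect Λ D U)
    (φE : ME →ₗ[Λ] EtModW.sect Λ E U)
    (hA : SurjVia A U φA) (hB : IsConstVia Λ B U φB) (hD : IsConstVia Λ D U φD)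
    (hE : IsConstVia Λ E U φE) :
    ∃ (V : X.Etale) (g : V ⟶ U) (t' : Fib ξ V) (P : Type (u + 1)) (_ : AddCommGroup P)
      (_ : Module Λ P) (_ : Module.Finite Λ P) (γ : P →ₗ[Λ] EtModW.sect Λ C V),
      fmap ξ g t' = t ∧ IsConstVia Λ C V γ := by
  -- the homomorphisms `MA → MB` and `MD → ME`
  obtain ⟨V, g, t', k₁, rfl, e₁⟩ := exists_local_hom ξ f₁ t φA φB hB
  obtain ⟨V', g', t'', k₄, rfl, e₄⟩ := exists_local_hom ξ f₄ t' ((res Λ D g).comp φD)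
    ((res Λ E g).comp φE) (hE.res g)
  -- the stalk of `C`
  let P : Type (u + 1) := (EtModW.stalk Λ ξ).obj C
  have eB := hB Ω ξ (fmap ξ g (fmap ξ g' t''))
  have eD := hD Ω ξ (fmap ξ g (fmap ξ g' t''))
  have : Module.Finite Λ ((EtModW.stalk Λ ξ).obj B : Type (u + 1)) :=
    Module.Finite.of_surjective ((germ Λ ξ B _).comp φB) eB.2
  have : Module.Finite Λ ((EtModW.stalk Λ ξ).obj D : Type (u + 1)) :=
    Module.Finite.of_surjective ((germ Λ ξ D _).comp φD) eD.2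
  have : Module.Finite Λ P := finite_of_exact _ _ (h₂ Ω ξ)
  obtain ⟨W, k, w, γ, rfl, hγ⟩ := ModSpec.exists_spread_hom_over Λ ξ C (A := P) LinearMap.id t''
  -- `MB → P`
  let k₂ : MB →ₗ[Λ] P := (stalkMap Λ ξ f₂).comp ((germ Λ ξ B w).comp
    ((res Λ B (k ≫ g' ≫ g)).comp φB))
  obtain ⟨W', q, w', rfl, e₂⟩ := exists_nbhd_hom_eq ξ C w
    ((ev Λ f₂ W).comp ((res Λ B (k ≫ g' ≫ g)).comp φB)) (γ.comp k₂) (by
      intro m
      change germ Λ ξ C w (ev Λ f₂ W _) = germ Λ ξ C w (γ (k₂ m))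
      rw [hγ, ← stalkMap_germ]
      rfl)
  obtain ⟨T, q', r, k₃, rfl, e₃⟩ := exists_local_hom ξ f₃ w' ((res Λ C q).comp γ)
    ((res Λ D (q ≫ k ≫ g' ≫ g)).comp φD) (hD.res _)
  let G : T ⟶ U := q' ≫ q ≫ k ≫ g' ≫ g
  refine ⟨T, G, r, P, inferInstance, inferInstance, inferInstance, (res Λ C (q' ≫ q)).comp γ, ?_, ?_⟩
  · simp only [G, fmap_comp]
  have hA' := hA.res G
  have hB' := hB.res G
  have hD' := hD.res G
  have hE' := hE.res G
  -- compatibilities over `T`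
  have c₁ : ∀ m, ev Λ f₁ T (res Λ A G (φA m)) = res Λ B G (φB (k₁ m)) := by
    intro m
    have := congrArg (res Λ B (q' ≫ q ≫ k ≫ g')) (e₁ m)
    rw [← ev_res, ← res_comp, ← res_comp] at this
    simpa only [G, Category.assoc] using this
  have c₂ : ∀ m, ev Λ f₂ T (res Λ B G (φB m)) = res Λ C (q' ≫ q) (γ (k₂ m)) := by
    intro m
    have h := congrArg (res Λ C q') (DFunLike.congr_fun e₂ m)
    change res Λ C q' (res Λ C q (ev Λ f₂ W (res Λ B (k ≫ g' ≫ g) (φB m)))) =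
      res Λ C q' (res Λ C q (γ (k₂ m))) at h
    rw [← res_comp, ← res_comp, ← ev_res, ← res_comp] at h
    simpa only [G, Category.assoc] using h
  have c₃ : ∀ m, ev Λ f₃ T (res Λ C (q' ≫ q) (γ m)) = res Λ D G (φD (k₃ m)) := by
    intro m
    have h := e₃ m
    change ev Λ f₃ T (res Λ C q' (res Λ C q (γ m))) =
      res Λ D q' (res Λ D (q ≫ k ≫ g' ≫ g) (φD (k₃ m))) at h
    rwa [← res_comp, ← res_comp] at h
  have c₄ : ∀ m, ev Λ f₄ T (res Λ D G (φD m)) = res Λ E G (φE (k₄ m)) := by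
    intro m
    have h := congrArg (res Λ E (q' ≫ q ≫ k)) (e₄ m)
    change res Λ E (q' ≫ q ≫ k) (ev Λ f₄ V' (res Λ D g' (res Λ D g (φD m)))) =
      res Λ E (q' ≫ q ≫ k) (res Λ E g' (res Λ E g (φE (k₄ m)))) at h
    rw [← ev_res] at h
    simp only [← res_comp] at h
    simpa only [G, Category.assoc] using h
  -- exactness of `MA → MB → P → MD → ME`
  have hP : Function.Bijective fun m : P => germ Λ ξ C r (res Λ C (q' ≫ q) (γ m)) := by
    have : (fun m : P => germ Λ ξ C r (res Λ C (q' ≫ q) (γ m))) = fun m => m := by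
      funext m
      rw [germ_res, fmap_comp]
      exact hγ m
    rw [this]
    exact Function.bijective_id
  have x₁ : Function.Exact k₁ k₂ :=
    EtpbcA.FLCExact.exact_of_bij k₁.toAddMonoidHom k₂.toAddMonoidHom
      (stalkMap Λ ξ f₁).toAddMonoidHom (stalkMap Λ ξ f₂).toAddMonoidHom
      ((germ Λ ξ A r).comp ((res Λ A G).comp φA)).toAddMonoidHom
      ((germ Λ ξ B r).comp ((res Λ B G).comp φB)).toAddMonoidHom
      ((germ Λ ξ C r).comp ((res Λ C (q' ≫ q)).comp γ)).toAddMonoidHom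
      (fun m => (stalkMap_germ Λ ξ f₁ r _).trans (congrArg _ (c₁ m)))
      (fun m => (stalkMap_germ Λ ξ f₂ r _).trans (congrArg _ (c₂ m)))
      (hA' Ω ξ r) (hB' Ω ξ r).1 hP.1 (h₁ Ω ξ)
  have x₂ : Function.Exact k₂ k₃ :=
    EtpbcA.FLCExact.exact_of_bij k₂.toAddMonoidHom k₃.toAddMonoidHom
      (stalkMap Λ ξ f₂).toAddMonoidHom (stalkMap Λ ξ f₃).toAddMonoidHom
      ((germ Λ ξ B r).comp ((res Λ B G).comp φB)).toAddMonoidHom
      ((germ Λ ξ C r).comp ((res Λ C (q' ≫ q)).comp γ)).toAddMonoidHom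
      ((germ Λ ξ D r).comp ((res Λ D G).comp φD)).toAddMonoidHom
      (fun m => (stalkMap_germ Λ ξ f₂ r _).trans (congrArg _ (c₂ m)))
      (fun m => (stalkMap_germ Λ ξ f₃ r _).trans (congrArg _ (c₃ m)))
      (hB' Ω ξ r).2 hP.1 (hD' Ω ξ r).1 (h₂ Ω ξ)
  have x₃ : Function.Exact k₃ k₄ :=
    EtpbcA.FLCExact.exact_of_bij k₃.toAddMonoidHom k₄.toAddMonoidHom
      (stalkMap Λ ξ f₃).toAddMonoidHom (stalkMap Λ ξ f₄).toAddMonoidHom
      ((germ Λ ξ C r).comp ((res Λ C (q' ≫ q)).comp γ)).toAddMonoidHom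
      ((germ Λ ξ D r).comp ((res Λ D G).comp φD)).toAddMonoidHom
      ((germ Λ ξ E r).comp ((res Λ E G).comp φE)).toAddMonoidHom
      (fun m => (stalkMap_germ Λ ξ f₃ r _).trans (congrArg _ (c₃ m)))
      (fun m => (stalkMap_germ Λ ξ f₄ r _).trans (congrArg _ (c₄ m)))
      hP.2 (hD' Ω ξ r).1 (hE' Ω ξ r).1 (h₃ Ω ξ)
  -- the five lemma at any geometric point
  intro Ω' _ _ ξ' s
  exact AddMonoidHom.bijective_of_surjective_of_bijective_of_bijective_of_injective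
    k₁.toAddMonoidHom k₂.toAddMonoidHom k₃.toAddMonoidHom k₄.toAddMonoidHom
    (stalkMap Λ ξ' f₁).toAddMonoidHom (stalkMap Λ ξ' f₂).toAddMonoidHom
    (stalkMap Λ ξ' f₃).toAddMonoidHom (stalkMap Λ ξ' f₄).toAddMonoidHom
    ((germ Λ ξ' A s).comp ((res Λ A G).comp φA)).toAddMonoidHom
    ((germ Λ ξ' B s).comp ((res Λ B G).comp φB)).toAddMonoidHom
    ((germ Λ ξ' C s).comp ((res Λ C (q' ≫ q)).comp γ)).toAddMonoidHom
    ((germ Λ ξ' D s).comp ((res Λ D G).comp φD)).toAddMonoidHom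
    ((germ Λ ξ' E s).comp ((res Λ E G).comp φE)).toAddMonoidHom
    (AddMonoidHom.ext fun m => (stalkMap_germ Λ ξ' f₁ s _).trans (congrArg _ (c₁ m)))
    (AddMonoidHom.ext fun m => (stalkMap_germ Λ ξ' f₂ s _).trans (congrArg _ (c₂ m)))
    (AddMonoidHom.ext fun m => (stalkMap_germ Λ ξ' f₃ s _).trans (congrArg _ (c₃ m)))
    (AddMonoidHom.ext fun m => (stalkMap_germ Λ ξ' f₄ s _).trans (congrArg _ (c₄ m)))
    x₁ x₂ x₃ (h₁ Ω' ξ') (h₂ Ω' ξ') (h₃ Ω' ξ')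
    (hA' Ω' ξ' s) (hB' Ω' ξ' s) (hD' Ω' ξ' s) (hE' Ω' ξ' s).1

/-- The five lemma for finite type locally constant sheaves. -/
theorem ftlc_five' [IsNoetherianRing Λ] {A B C D E : EtModW.Mod Λ X}
    (f₁ : A ⟶ B) (f₂ : B ⟶ C) (f₃ : C ⟶ D) (f₄ : D ⟶ E)
    (h₁ : StalkExact f₁ f₂) (h₂ : StalkExact f₂ f₃) (h₃ : StalkExact f₃ f₄)
    (hA : LFG A) (hB : EtModW.IsFTLocConst Λ B)
    (hD : EtModW.IsFTLocConst Λ D) (hE : EtModW.IsFTLocConst Λ E) :
    EtModW.IsFTLocConst Λ C := by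
  rw [ftlc_iff]
  intro x
  obtain ⟨Ω, _, _, ξ, t₀, ht₀⟩ := exists_geomPt (U := EtCoh.top X) x
  obtain ⟨U₁, g₁, t₁, MA, _, _, _, φA, e₁, hA⟩ := exists_surj_nbhd hA ξ t₀
  obtain ⟨U₂, g₂, t₂, MB, _, _, _, φB, e₂, hB⟩ := exists_const_nbhd hB ξ t₁
  obtain ⟨U₃, g₃, t₃, MD, _, _, _, φD, e₃, hD⟩ := exists_const_nbhd hD ξ t₂
  obtain ⟨U₄, g₄, t₄, ME, _, _, _, φE, e₄, hE⟩ := exists_const_nbhd hE ξ t₃
  obtain ⟨V, g, t, P, _, _, _, γ, e, hC⟩ := five_core' f₁ f₂ f₃ f₄ h₁ h₂ h₃ ξ t₄ _ _ _ _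
    (hA.res (g₄ ≫ g₃ ≫ g₂)) (hB.res (g₄ ≫ g₃)) (hD.res g₄) hE
  refine ⟨V, pt ξ t, P, inferInstance, inferInstance, inferInstance, γ, ?_, hC⟩
  rw [hom_pt ξ t, ← hom_pt ξ t₀, ht₀]
  rfl


end Groth.Agent.Etrest.ModLFG
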