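import Groth.Agent.Etrest.ModAb
import Mathlib.CategoryTheory.Abelian.RightDerived

/-!
# Multiplication by scalars on sheaves of `Λ`-modules and linear functors

* `rightDerived_map_endo`: if `α : 𝟭 A ⟶ 𝟭 A`, `β : 𝟭 B ⟶ 𝟭 B` and `T.map (α.app X) = β.app (T.obj X)`, the same holds
  for `T.rightDerived q`.
* `smulEnd r F : F ⟶ F`, natural (`smulNat r`).
* `push_smulEnd`, `rpush_smulEnd`, `pull_smulEnd`: direct images, higher direct images and inverse images are linear.
-/

set_option autoImplicit false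
universe v v' u u'

open CategoryTheory CategoryTheory.Limits AlgebraicGeometry Opposite

noncomputable section

namespace Groth.Agent.Etrest.ModSmul

section Abstract

variable {A : Type u} [Category.{v} A] [Abelian A] {B : Type u'} [Category.{v'} B] [Abelian B]

/-- an endomorphism of the identity acts on complexes -/
def cxEndo (α : 𝟭 A ⟶ 𝟭 A) {ι : Type*} {c : ComplexShape ι} (K : HomologicalComplex A c) : K ⟶ K where
  f i := α.app (K.X i)
  comm' i j _ := (α.naturality (K.d i j)).symm

theorem homologyMap_cxEndo (α : 𝟭 A ⟶ 𝟭 A) {ι : Type*} {c : ComplexShape ι} (K : HomologicalComplex A c) (i : ι) :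
    HomologicalComplex.homologyMap (cxEndo α K) i = α.app (K.homology i) := by
  have h1 : HomologicalComplex.cyclesMap (cxEndo α K) i = α.app (K.cycles i) := by
    rw [← cancel_mono (K.iCycles i), HomologicalComplex.cyclesMap_i]
    exact (α.naturality (K.iCycles i))
  rw [← cancel_epi (K.homologyπ i), HomologicalComplex.homologyπ_naturality, h1]
  exact (α.naturality (K.homologyπ i)).symm

theorem rightDerived_map_endo [HasInjectiveResolutions A] (T : A ⥤ B) [T.Additive] (α : 𝟭 A ⟶ 𝟭 A)
    (β : 𝟭 B ⟶ 𝟭 B) (h : ∀ X, T.map (α.app X) = β.app (T.obj X)) (q : ℕ) (X : A) :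
    (T.rightDerived q).map (α.app X) = β.app ((T.rightDerived q).obj X) := by
  let P := injectiveResolution X
  have hw : P.ι ≫ cxEndo α P.cocomplex = (CochainComplex.single₀ A).map (α.app X) ≫ P.ι := by
    ext
    rw [HomologicalComplex.comp_f, HomologicalComplex.comp_f, CochainComplex.single₀_map_f_zero]
    exact (α.naturality (P.ι.f 0))
  rw [T.rightDerived_map_eq q (α.app X) (cxEndo α P.cocomplex) hw]
  have h1 : (T.mapHomologicalComplex (ComplexShape.up ℕ)).map (cxEndo α P.cocomplex) =
      cxEndo β ((T.mapHomologicalComplex (ComplexShape.up ℕ)).obj P.cocomplex) := by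
    ext i
    exact h _
  have h2 : (T.mapHomologicalComplex (ComplexShape.up ℕ) ⋙ HomologicalComplex.homologyFunctor B _ q).map
      (cxEndo α P.cocomplex) = β.app (((T.mapHomologicalComplex (ComplexShape.up ℕ)).obj P.cocomplex).homology q) := by
    rw [Functor.comp_map, h1]
    exact homologyMap_cxEndo β _ q
  rw [h2]
  have h3 := β.naturality (P.isoRightDerivedObj T q).hom
  simp only [Functor.id_obj, Functor.id_map] at h3
  rw [← Category.assoc]
  refine (congrArg (· ≫ (P.isoRightDerivedObj T q).inv) h3).trans ?_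
  rw [Category.assoc, Iso.hom_inv_id, Category.comp_id]

omit [Abelian A] [Abelian B] in
theorem leftAdjoint_map_endo {L : A ⥤ B} {R : B ⥤ A} (adj : L ⊣ R) (α : 𝟭 A ⟶ 𝟭 A)
    (β : 𝟭 B ⟶ 𝟭 B) (h : ∀ Y, R.map (β.app Y) = α.app (R.obj Y)) (X : A) :
    L.map (α.app X) = β.app (L.obj X) := by
  apply (adj.homEquiv _ _).injective
  rw [adj.homEquiv_unit, adj.homEquiv_unit]
  dsimp only [Functor.id_obj]
  rw [h (L.obj X)]
  refine (adj.unit_naturality (α.app X)).trans ?_
  exact (α.naturality (adj.unit.app X)).symm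

end Abstract

section Smul

variable (Λ : Type (u + 1)) [CommRing Λ]

/-- Multiplication by `r`. -/
def smulNat (X : Scheme.{u}) (r : Λ) : 𝟭 (EtModW.Mod Λ X) ⟶ 𝟭 (EtModW.Mod Λ X) where
  app F := ⟨{
    app := fun U => ModuleCat.ofHom (r • LinearMap.id)
    naturality := fun U V f => by
      ext s
      exact (map_smul (F.obj.map f).hom r s).symm }⟩
  naturality F G φ := by
    apply Sheaf.hom_ext
    ext U s
    exact (map_smul (φ.hom.app U).hom r s).symm

variable {Λ} {X Y : Scheme.{u}}

/-- Multiplication by `r` on `F`. -/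
abbrev smulEnd (r : Λ) (F : EtModW.Mod Λ X) : F ⟶ F := (smulNat Λ X r).app F

theorem smulEnd_apply (r : Λ) (F : EtModW.Mod Λ X) (U : (X.Etale)ᵒᵖ) (s : F.obj.obj U) :
    (smulEnd r F).hom.app U s = r • s := rfl

theorem smulEnd_naturality (r : Λ) {F G : EtModW.Mod Λ X} (φ : F ⟶ G) : smulEnd r F ≫ φ = φ ≫ smulEnd r G :=
  ((smulNat Λ X r).naturality φ).symm

theorem push_smulEnd (f : X ⟶ Y) (r : Λ) (F : EtModW.Mod Λ X) :
    (EtModW.push Λ f).map (smulEnd r F) = smulEnd r ((EtModW.push Λ f).obj F) := rfl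

/-- Higher direct images are linear. -/
theorem rpush_smulEnd (f : X ⟶ Y) (q : ℕ) (r : Λ) (F : EtModW.Mod Λ X) :
    (EtModW.Rpush Λ f q).map (smulEnd r F) = smulEnd r ((EtModW.Rpush Λ f q).obj F) :=
  rightDerived_map_endo (EtModW.push Λ f) (smulNat Λ X r) (smulNat Λ Y r) (push_smulEnd f r) q F

/-- Inverse images are linear. -/
theorem pull_smulEnd (f : X ⟶ Y) (r : Λ) (F : EtModW.Mod Λ Y) :
    (EtModW.pull Λ f).map (smulEnd r F) = smulEnd r ((EtModW.pull Λ f).obj F) :=
  leftAdjoint_map_endo (ModAb.pullPushAdj Λ f) (smulNat Λ Y r) (smulNat Λ X r) (push_smulEnd f r) F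

end Smul

end Groth.Agent.Etrest.ModSmul
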