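import Groth.Agent.Etrest.ModFT
import Groth.Agent.Etrest.ModSmul
import Groth.Agent.Etrest.CofanAb
import Mathlib.RingTheory.TensorProduct.Finite

/-!
# Universal coefficients: abstract core

`isFTLocConst_of_cofan`: let `G` be a sheaf of `Λ`-modules, `G₀` a finite locally constant abelian sheaf, `N` a
finitely generated `Λ`-module and `μ : N → Hom (G₀, G)` additive and `Λ`-linear such that for a family `b` of
generators of the group `N` the maps `μ (b i)` exhibit `G` as the direct sum of copies of `G₀`.  Then `G` is locally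
constant of finite type.
-/

set_option autoImplicit false
universe u

open CategoryTheory CategoryTheory.Limits AlgebraicGeometry Opposite
open scoped TensorProduct

noncomputable section

namespace Groth.Agent.Etrest.ModUCCore

open Groth.Agent.EtpbcA.Germ (Fib fmap pt)
open Groth.Agent.Etrest.ModLoc Groth.Agent.Etrest.ModAb Groth.Agent.Etrest.ModSmul

variable {Λ : Type (u + 1)} [CommRing Λ] {T : Scheme.{u}} {G₀ : EtCoh.Ab T} {G : EtModW.Mod Λ T}
  {N : Type (u + 1)} [AddCommGroup N] [Module Λ N]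

/-- Every element of `N ⊗ H` is a finite sum of `b i ⊗ h i`. -/
theorem exists_rep {H : Type*} [AddCommGroup H] {B : Type*} (b : B → N)
    (hb : AddSubgroup.closure (Set.range b) = ⊤) (m : N ⊗[ℤ] H) :
    ∃ h : B →₀ H, m = h.sum fun i x => b i ⊗ₜ[ℤ] x := by
  classical
  let σ : (B →₀ H) →+ N ⊗[ℤ] H :=
    Finsupp.liftAddHom (fun i => (TensorProduct.mk ℤ N H (b i)).toAddMonoidHom)
  have hσ : ∀ h : B →₀ H, σ h = h.sum fun i x => b i ⊗ₜ[ℤ] x := fun h => rfl
  have hs : ∀ i x, σ (Finsupp.single i x) = b i ⊗ₜ[ℤ] x := fun i x => by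
    rw [hσ, Finsupp.sum_single_index]
    exact TensorProduct.tmul_zero _ _
  have key : ∀ (n : N) (x : H), n ⊗ₜ[ℤ] x ∈ σ.range := by
    intro n x
    have hn : n ∈ AddSubgroup.closure (Set.range b) := by rw [hb]; trivial
    refine AddSubgroup.closure_induction (p := fun n _ => n ⊗ₜ[ℤ] x ∈ σ.range) ?_ ?_ ?_ ?_ hn
    · rintro _ ⟨i, rfl⟩
      exact ⟨_, hs i x⟩
    · rw [TensorProduct.zero_tmul]
      exact zero_mem _
    · intro y z _ _ hy hz
      rw [TensorProduct.add_tmul]
      exact add_mem hy hz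
    · intro y _ hy
      rw [TensorProduct.neg_tmul]
      exact neg_mem hy
  have : m ∈ σ.range := by
    induction m using TensorProduct.induction_on with
    | zero => exact zero_mem _
    | tmul n x => exact key n x
    | add x y hx hy => exact add_mem hx hy
  obtain ⟨h, rfl⟩ := this
  exact ⟨h, hσ h⟩

theorem finite_tensor [Module.Finite Λ N] (H : Type) [AddCommGroup H] [Finite H] :
    Module.Finite Λ (N ⊗[ℤ] H) := by
  classical
  have := Fintype.ofFinite H
  let σ : (H → N) →ₗ[Λ] N ⊗[ℤ] H :=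
    { toFun := fun f => ∑ h : H, f h ⊗ₜ[ℤ] h
      map_add' := fun f g => by
        rw [← Finset.sum_add_distrib]
        refine Finset.sum_congr rfl fun h _ => ?_
        rw [Pi.add_apply, TensorProduct.add_tmul]
      map_smul' := fun r f => by
        rw [RingHom.id_apply, Finset.smul_sum]
        rfl }
  refine Module.Finite.of_surjective σ ?_
  intro m
  induction m using TensorProduct.induction_on with
  | zero => exact ⟨0, map_zero σ⟩
  | tmul n x =>
    refine ⟨Pi.single x n, ?_⟩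
    change ∑ h : H, (Pi.single x n : H → N) h ⊗ₜ[ℤ] h = _
    rw [Finset.sum_eq_single_of_mem x (Finset.mem_univ _), Pi.single_eq_same]
    intro h _ hne
    rw [Pi.single_eq_of_ne hne, TensorProduct.zero_tmul]
  | add x y hx hy =>
    obtain ⟨f, rfl⟩ := hx
    obtain ⟨g, rfl⟩ := hy
    exact ⟨f + g, map_add σ f g⟩

section Section

variable (μ : N →+ (G₀ ⟶ (ab Λ T).obj G)) (hμ : ∀ (r : Λ) (n : N), μ (r • n) = μ n ≫ (ab Λ T).map (smulEnd r G))
  {U : T.Etale} {H : Type} [AddCommGroup H] (ψ : H →+ EtCoh.sect G₀ U)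

/-- `n ⊗ h ↦ μ n (ψ h)`. -/
def toSect (hμ : ∀ (r : Λ) (n : N), μ (r • n) = μ n ≫ (ab Λ T).map (smulEnd r G)) :
    N ⊗[ℤ] H →ₗ[Λ] EtModW.sect Λ G U :=
  TensorProduct.AlgebraTensorModule.lift
    { toFun := fun n =>
        { toFun := fun h => (EtpbcA.Germ.ev (μ n) U (ψ h) : EtModW.sect Λ G U)
          map_add' := fun x y => by rw [map_add, map_add]; rfl
          map_smul' := fun c x => by
            rw [map_zsmul, map_zsmul]
            rfl }
      map_add' := fun n n' => by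
        ext h
        change EtpbcA.Germ.ev (μ (n + n')) U (ψ h) = EtpbcA.Germ.ev (μ n) U (ψ h) + EtpbcA.Germ.ev (μ n') U (ψ h)
        rw [map_add]
        rfl
      map_smul' := fun r n => by
        ext h
        change EtpbcA.Germ.ev (μ (r • n)) U (ψ h) = _
        rw [hμ]
        rfl }

theorem toSect_tmul (n : N) (h : H) :
    toSect μ ψ hμ (n ⊗ₜ[ℤ] h) = (EtpbcA.Germ.ev (μ n) U (ψ h) : EtModW.sect Λ G U) := rfl

open Classical in
/-- Projection to a summand. -/
def proj {B : Type (u + 1)} {j : B → (G₀ ⟶ (ab Λ T).obj G)}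
    (hcol : IsColimit (Cofan.mk ((ab Λ T).obj G) j)) (i : B) : (ab Λ T).obj G ⟶ G₀ :=
  Cofan.IsColimit.desc hcol (fun i' => if i' = i then 𝟙 _ else 0)

theorem proj_self {B : Type (u + 1)} {j : B → (G₀ ⟶ (ab Λ T).obj G)}
    (hcol : IsColimit (Cofan.mk ((ab Λ T).obj G) j)) (i : B) : j i ≫ proj hcol i = 𝟙 _ := by
  classical
  have := Cofan.IsColimit.fac hcol (fun i' => if i' = i then 𝟙 G₀ else 0) i
  refine this.trans ?_
  rw [if_pos rfl]

theorem proj_ne {B : Type (u + 1)} {j : B → (G₀ ⟶ (ab Λ T).obj G)}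
    (hcol : IsColimit (Cofan.mk ((ab Λ T).obj G) j)) {i i' : B} (h : i' ≠ i) : j i' ≫ proj hcol i = 0 := by
  classical
  have := Cofan.IsColimit.fac hcol (fun i' => if i' = i then 𝟙 G₀ else 0) i'
  refine this.trans ?_
  rw [if_neg h]

include hμ in
theorem isConstVia_toSect {B : Type (u + 1)} (b : B → N) (hb : AddSubgroup.closure (Set.range b) = ⊤)
    (hcol : IsColimit (Cofan.mk ((ab Λ T).obj G) (fun i => μ (b i)))) (hψ : EtpbcA.FLC.IsConstVia G₀ U ψ) :
    IsConstVia Λ G U (toSect μ ψ hμ) := by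
  rw [← ModFT.isConstVia_ab_iff]
  intro Ω _ _ ξ t
  let κ : N ⊗[ℤ] H →+ ((EtCoh.stalk ξ).obj ((ab Λ T).obj G) : Type (u + 1)) :=
    (EtpbcA.Germ.germ ξ ((ab Λ T).obj G) t).comp (ModFT.toAb G U (toSect μ ψ hμ))
  have hκ : ∀ n h, κ (n ⊗ₜ[ℤ] h) = EtpbcA.Germ.stalkMap (μ n) ξ (EtpbcA.Germ.germ ξ G₀ t (ψ h)) := by
    intro n h
    rw [EtpbcA.Germ.stalkMap_germ]
    rfl
  change Function.Bijective κ
  constructor
  · rw [injective_iff_map_eq_zero]
    intro m hm
    obtain ⟨h, rfl⟩ := exists_rep b hb m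
    have h0 : h = 0 := by
      ext i
      apply (hψ Ω ξ t).1
      change EtpbcA.Germ.germ ξ G₀ t (ψ (h i)) = EtpbcA.Germ.germ ξ G₀ t (ψ 0)
      rw [map_zero, map_zero]
      have h1 : EtpbcA.Germ.stalkMap (proj hcol i) ξ (κ (h.sum fun i x => b i ⊗ₜ[ℤ] x)) = 0 := by
        rw [hm, map_zero]
      rw [Finsupp.sum, map_sum, map_sum] at h1
      have h2 : ∀ i' x, EtpbcA.Germ.stalkMap (proj hcol i) ξ (κ (b i' ⊗ₜ[ℤ] x)) =
          EtpbcA.Germ.stalkMap (μ (b i') ≫ proj hcol i) ξ (EtpbcA.Germ.germ ξ G₀ t (ψ x)) := by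
        intro i' x
        rw [hκ]
        change _ = (EtCoh.stalk ξ).map (μ (b i') ≫ proj hcol i) _
        rw [Functor.map_comp]
        rfl
      by_cases hi : i ∈ h.support
      · rw [Finset.sum_eq_single_of_mem i hi] at h1
        · rw [h2, proj_self hcol i] at h1
          change (EtCoh.stalk ξ).map (𝟙 G₀) _ = 0 at h1
          rw [CategoryTheory.Functor.map_id] at h1
          exact h1
        · intro i' _ hne
          rw [h2, proj_ne hcol hne]
          change (EtCoh.stalk ξ).map 0 _ = 0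
          rw [Functor.map_zero]
          rfl
      · rw [Finsupp.notMem_support_iff.1 hi, map_zero, map_zero]
    rw [h0, Finsupp.sum_zero_index]
  · intro z
    have hst : IsColimit (Cofan.mk ((EtCoh.stalk ξ).obj ((ab Λ T).obj G))
        (fun i : B => (EtCoh.stalk ξ).map (μ (b i)))) := by
      have : PreservesColimit (Discrete.functor fun _ : B => G₀) (EtCoh.stalk ξ) := inferInstance
      exact isColimitCofanMkObjOfIsColimit (EtCoh.stalk ξ) _ _ hcol
    have hz : z ∈ AddSubgroup.closure (⋃ i : B, Set.range ((EtCoh.stalk ξ).map (μ (b i)))) := by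
      rw [CofanAb.closure_eq_top _ hst]; trivial
    have hle : AddSubgroup.closure (⋃ i : B, Set.range ((EtCoh.stalk ξ).map (μ (b i)))) ≤ κ.range := by
      rw [AddSubgroup.closure_le]
      intro z hz
      obtain ⟨i, a, rfl⟩ := Set.mem_iUnion.1 hz
      obtain ⟨h, rfl⟩ := (hψ Ω ξ t).2 a
      exact ⟨_, hκ (b i) h⟩
    exact hle hz

end Section

/-- Universal coefficients, abstract form. -/
theorem isFTLocConst_of_cofan [Module.Finite Λ N] (μ : N →+ (G₀ ⟶ (ab Λ T).obj G))
    (hμ : ∀ (r : Λ) (n : N), μ (r • n) = μ n ≫ (ab Λ T).map (smulEnd r G)) {B : Type (u + 1)} (b : B → N)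
    (hb : AddSubgroup.closure (Set.range b) = ⊤)
    (hcol : IsColimit (Cofan.mk ((ab Λ T).obj G) (fun i => μ (b i))))
    (hG₀ : EtCoh.IsFiniteLocallyConstant G₀) : EtModW.IsFTLocConst Λ G := by
  rw [ftlc_iff]
  intro x
  obtain ⟨U, u', H, _, _, ψ, hu, hψ⟩ := (EtpbcA.FLC.flc_iff G₀).1 hG₀ x
  have hfin : Module.Finite Λ (N ⊗[ℤ] H) := finite_tensor H
  exact ⟨U, u', N ⊗[ℤ] H, inferInstance, inferInstance, hfin, toSect μ ψ hμ, hu,
    isConstVia_toSect μ hμ ψ b hb hcol hψ⟩

end Groth.Agent.Etrest.ModUCCore
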