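import Groth.Agent.Etrest.CechQC
import Groth.Agent.Etrest.RDer2
import Groth.Agent.EtpbcA.SectColim
import Mathlib.CategoryTheory.Limits.Constructions.Filtered
import Mathlib.CategoryTheory.Limits.Preserves.Shapes.Products
import Mathlib.CategoryTheory.Abelian.GrothendieckAxioms.Basic

/-!
# Higher direct images commute with direct sums indexed by `Type (u + 1)`

* `isIso_sigmaComparison_rightDerived`: `G : A ⥤ B` left exact, preserving coproducts of shape `J`, such that
  coproducts of injectives are `G`-acyclic; then every `R^q G` preserves coproducts of shape `J`.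
* `preservesColimitsOfShape_Rpush`: `R^q f_*` preserves coproducts indexed by `ι : Type (u + 1)` for `f` quasi-compact
  quasi-separated.
-/

set_option autoImplicit false
universe t v v' u u'

open CategoryTheory CategoryTheory.Limits AlgebraicGeometry Opposite

noncomputable section

namespace Groth.Agent.Etrest.RpushSum

section Abstract

variable {A : Type u} [Category.{v} A] [Abelian A] [EnoughInjectives A] {B : Type u'} [Category.{v'} B] [Abelian B]
  (G : A ⥤ B) [G.Additive] {J : Type t} [HasCoproductsOfShape J A] [HasCoproductsOfShape J B]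

omit [EnoughInjectives A] in
/-- The coproduct of short exact sequences. -/
theorem sigma_shortExact [HasExactColimitsOfShape (Discrete J) A] (S : J → ShortComplex A)
    (hS : ∀ j, (S j).ShortExact) :
    ∃ w : Limits.Sigma.map (fun j => (S j).f) ≫ Limits.Sigma.map (fun j => (S j).g) = 0,
      (ShortComplex.mk (Limits.Sigma.map (fun j => (S j).f)) (Limits.Sigma.map (fun j => (S j).g)) w).ShortExact := by
  have w : Limits.Sigma.map (fun j => (S j).f) ≫ Limits.Sigma.map (fun j => (S j).g) = 0 := by
    apply Limits.Sigma.hom_ext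
    intro j
    rw [Limits.Sigma.ι_map_assoc, Limits.Sigma.ι_map, ← Category.assoc, (S j).zero, zero_comp, comp_zero]
  refine ⟨w, ?_⟩
  have hm : Mono (Limits.Sigma.map (fun j => (S j).f)) := by
    have := fun j => (hS j).mono_f
    have h1 : Mono (Discrete.natTrans (F := Discrete.functor fun j => (S j).X₁)
        (G := Discrete.functor fun j => (S j).X₂) (fun X => (S X.as).f)) := by
      have : ∀ X, Mono ((Discrete.natTrans (F := Discrete.functor fun j => (S j).X₁)
        (G := Discrete.functor fun j => (S j).X₂) (fun X => (S X.as).f)).app X) := fun X => (hS X.as).mono_f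
      exact NatTrans.mono_of_mono_app _
    exact (inferInstance : Mono (colim.map (Discrete.natTrans (F := Discrete.functor fun j => (S j).X₁)
        (G := Discrete.functor fun j => (S j).X₂) (fun X => (S X.as).f))))
  have he : Epi (Limits.Sigma.map (fun j => (S j).g)) := by
    refine ⟨fun {Z} a b hab => ?_⟩
    apply Limits.Sigma.hom_ext
    intro j
    have := (hS j).epi_g
    rw [← cancel_epi (S j).g, ← Limits.Sigma.ι_map_assoc (fun j => (S j).g), hab, Limits.Sigma.ι_map_assoc]
  refine { exact := ?_, mono_f := hm, epi_g := he }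
  apply ShortComplex.exact_of_g_is_cokernel
  refine CokernelCofork.IsColimit.ofπ' _ _ ?_
  intro Z k hk
  have hk' : ∀ j, (S j).f ≫ Limits.Sigma.ι (fun j => (S j).X₂) j ≫ k = 0 := by
    intro j
    rw [← Limits.Sigma.ι_map_assoc (fun j => (S j).f)]
    rw [hk, comp_zero]
  have hep := fun j => (hS j).epi_g
  refine ⟨Limits.Sigma.desc (fun j => (hS j).exact.desc _ (hk' j)), ?_⟩
  apply Limits.Sigma.hom_ext
  intro j
  change _ ≫ Limits.Sigma.map (fun j => (S j).g) ≫ _ = _
  rw [Limits.Sigma.ι_map_assoc, Limits.Sigma.ι_desc, ShortComplex.Exact.g_desc]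

variable [PreservesFiniteLimits G] [HasExactColimitsOfShape (Discrete J) A]

open RDer1 RDer2

/-- Dimension shifting. -/
theorem isIso_sigmaComparison_rightDerived [PreservesColimitsOfShape (Discrete J) G]
    (hJ : ∀ I : J → A, (∀ j, Injective (I j)) → IsAcyc G (∐ I)) (q : ℕ) :
    ∀ K : J → A, IsIso (sigmaComparison (G.rightDerived q) K) := by
  induction q with
  | zero =>
    intro K
    have : PreservesColimitsOfShape (Discrete J) (G.rightDerived 0) :=
      preservesColimitsOfShape_of_natIso G.rightDerivedZeroIsoSelf.symm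
    infer_instance
  | succ q ih =>
    intro K
    let S : J → ShortComplex A := fun j =>
      ShortComplex.mk (Injective.ι (K j)) (cokernel.π (Injective.ι (K j))) (cokernel.condition _)
    have hS : ∀ j, (S j).ShortExact := fun j =>
      { exact := ShortComplex.exact_of_g_is_cokernel _ (cokernelIsCokernel _)
        mono_f := inferInstanceAs (Mono (Injective.ι (K j)))
        epi_g := inferInstanceAs (Epi (cokernel.π (Injective.ι (K j)))) }
    obtain ⟨w, hT⟩ := sigma_shortExact S hS
    let T : ShortComplex A := ShortComplex.mk (Limits.Sigma.map (fun j => (S j).f))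
      (Limits.Sigma.map (fun j => (S j).g)) w
    let φ : ∀ j, S j ⟶ T := fun j =>
      { τ₁ := Limits.Sigma.ι (fun j => (S j).X₁) j
        τ₂ := Limits.Sigma.ι (fun j => (S j).X₂) j
        τ₃ := Limits.Sigma.ι (fun j => (S j).X₃) j
        comm₁₂ := Limits.Sigma.ι_map (fun j => (S j).f) j
        comm₂₃ := Limits.Sigma.ι_map (fun j => (S j).g) j }
    let cI := sigmaComparison (G.rightDerived q) (fun j => (S j).X₂)
    let cQ := sigmaComparison (G.rightDerived q) (fun j => (S j).X₃)
    let c := sigmaComparison (G.rightDerived (q + 1)) (fun j => (S j).X₁)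
    have hcI : IsIso cI := ih _
    have hcQ : IsIso cQ := ih _
    have hι : ∀ (n : ℕ) (L : J → A) (j : J), Limits.Sigma.ι (fun j => (G.rightDerived n).obj (L j)) j ≫
        sigmaComparison (G.rightDerived n) L = (G.rightDerived n).map (Limits.Sigma.ι L j) := fun n L j =>
      Limits.Sigma.ι_desc _ _
    let p : (∐ fun j => (G.rightDerived q).obj (S j).X₃) ⟶ ∐ fun j => (G.rightDerived (q + 1)).obj (S j).X₁ :=
      Limits.Sigma.map (fun j => δ G (hS j) q)
    let δ' := δ G hT q
    have hp : Epi p := by
      refine ⟨fun {Z} a b hab => ?_⟩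
      apply Limits.Sigma.hom_ext
      intro j
      have : Injective (S j).X₂ := inferInstanceAs (Injective (Injective.under (K j)))
      have he : Epi (δ G (hS j) q) :=
        (exact₁ G (hS j) q).epi_f ((isAcyc_of_injective G (S j).X₂ q).eq_of_tgt _ _)
      rw [← cancel_epi (δ G (hS j) q), ← Limits.Sigma.ι_map_assoc (fun j => δ G (hS j) q)]
      change _ ≫ p ≫ a = _
      rw [hab, Limits.Sigma.ι_map_assoc]
    have hδ' : Epi δ' := (exact₁ G hT q).epi_f
      ((hJ (fun j => (S j).X₂) (fun j => inferInstanceAs (Injective (Injective.under (K j)))) q).eq_of_tgt _ _)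
    have h1 : p ≫ c = cQ ≫ δ' := by
      apply Limits.Sigma.hom_ext
      intro j
      rw [Limits.Sigma.ι_map_assoc, hι (q + 1) (fun j => (S j).X₁) j, ← Category.assoc,
        hι q (fun j => (S j).X₃) j]
      exact δ_naturality G (hS j) hT (φ j) q
    have h2 : Limits.Sigma.map (fun j => (G.rightDerived q).map (S j).g) ≫ cQ =
        cI ≫ (G.rightDerived q).map T.g := by
      apply Limits.Sigma.hom_ext
      intro j
      rw [Limits.Sigma.ι_map_assoc, hι q (fun j => (S j).X₃) j, ← Category.assoc, hι q (fun j => (S j).X₂) j,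
        ← Functor.map_comp, ← Functor.map_comp]
      exact congrArg (G.rightDerived q).map (φ j).comm₂₃.symm
    have h3 : Limits.Sigma.map (fun j => (G.rightDerived q).map (S j).g) ≫ p = 0 := by
      apply Limits.Sigma.hom_ext
      intro j
      rw [Limits.Sigma.ι_map_assoc, Limits.Sigma.ι_map, ← Category.assoc, comp_δ, zero_comp, comp_zero]
    have h4 : (G.rightDerived q).map T.g ≫ inv cQ ≫ p = 0 := by
      rw [← cancel_epi cI, ← Category.assoc, ← h2, Category.assoc, IsIso.hom_inv_id_assoc, h3, comp_zero]
    have hc1 : Epi c := epi_of_epi_fac h1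
    let e := (exact₃ G hT q).desc (inv cQ ≫ p) h4
    have he : δ' ≫ e = inv cQ ≫ p := (exact₃ G hT q).g_desc _ _
    have h5 : c ≫ e = 𝟙 _ := by
      rw [← cancel_epi p, ← Category.assoc, h1, Category.assoc, he, IsIso.hom_inv_id_assoc, Category.comp_id]
    have hc2 : Mono c := mono_of_mono_fac h5
    exact isIso_of_mono_of_epi c

theorem preservesColimitsOfShape_rightDerived [PreservesColimitsOfShape (Discrete J) G]
    (hJ : ∀ I : J → A, (∀ j, Injective (I j)) → IsAcyc G (∐ I)) (q : ℕ) :
    PreservesColimitsOfShape (Discrete J) (G.rightDerived q) := by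
  have h : ∀ K : J → A, PreservesColimit (Discrete.functor K) (G.rightDerived q) := fun K => by
    have := isIso_sigmaComparison_rightDerived G hJ q K
    exact PreservesCoproduct.of_iso_comparison _ _
  exact preservesColimitsOfShape_of_discrete _

end Abstract

section Etale

variable {X Y : Scheme.{u}} (ι : Type (u + 1))

theorem hasCoproducts_ab : HasColimitsOfShape (Discrete ι) AddCommGrpCat.{u + 1} := inferInstance

theorem hasExact_ab :
    haveI := hasCoproducts_ab.{u} ι
    HasExactColimitsOfShape (Discrete ι) AddCommGrpCat.{u + 1} := by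
  have h : AB4OfSize.{u + 1} AddCommGrpCat.{u + 1} := inferInstance
  exact AB4OfSize.ofShape ι

instance hasColimitsOfShape_discrete (X : Scheme.{u}) : HasColimitsOfShape (Discrete ι) (EtCoh.Ab X) :=
  @Sheaf.instHasColimitsOfShape _ _ X.smallEtaleTopology AddCommGrpCat.{u + 1} _ (Discrete ι) _ _
    (hasCoproducts_ab.{u} ι)

instance hasExactColimitsOfShape_discrete (X : Scheme.{u}) :
    HasExactColimitsOfShape (Discrete ι) (EtCoh.Ab X) :=
  @Sheaf.hasExactColimitsOfShape _ _ _ _ _ _ X.smallEtaleTopology _ _ (hasCoproducts_ab.{u} ι)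
    (hasExact_ab.{u} ι)

theorem hasFinset_ab : HasColimitsOfShape (Finset (Discrete ι)) AddCommGrpCat.{u + 1} := inferInstance

theorem presFinset_ab : PreservesColimitsOfShape (Finset (Discrete ι)) (forget AddCommGrpCat.{u + 1}) :=
  inferInstance

instance hasColimitsOfShape_finset (X : Scheme.{u}) : HasColimitsOfShape (Finset (Discrete ι)) (EtCoh.Ab X) :=
  @Sheaf.instHasColimitsOfShape _ _ X.smallEtaleTopology AddCommGrpCat.{u + 1} _ (Finset (Discrete ι)) _ _
    (hasFinset_ab.{u} ι)

variable {ι}

theorem partId_univ {C : Type*} [Category C] [Preadditive C] {κ : Type*} [Fintype κ] {K : κ → C} {c : Cofan K}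
    (hc : IsColimit c) : S0682.partId hc Finset.univ = 𝟙 _ := by
  refine Cofan.IsColimit.hom_ext hc _ _ fun i => ?_
  rw [S0682.inj_partId hc Finset.univ i (Finset.mem_univ _)]
  exact (Category.comp_id _).symm

/-- Sections of a direct sum over a quasi-compact quasi-separated object are finite sums. -/
theorem exists_finset_sum (K : ι → EtCoh.Ab X) (U : X.Etale) [CompactSpace U.left] [QuasiSeparatedSpace U.left]
    (s : EtCoh.sect (∐ K) U) : ∃ (I : Finset (Discrete ι)) (t : ∀ i : I, EtCoh.sect (K i.1.as) U),
      s = ∑ i : I, (Limits.Sigma.ι K i.1.as).hom.app (op U) (t i) := by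
  classical
  have h0 := presFinset_ab.{u} ι
  let hc := CoproductsFromFiniteFiltered.isColimitFiniteSubproductsCocone K
  obtain ⟨I, t, ht⟩ := EtpbcA.SectColim.exists_rep hc U s
  let K' : I → EtCoh.Ab X := fun x => (Discrete.functor K).obj x.1
  let hI : IsColimit (Cofan.mk (∐ K') (Limits.Sigma.ι K')) := coproductIsCoproduct K'
  refine ⟨I, fun i => (S0682.proj hI i).hom.app (op U) t, ?_⟩
  have h1 : t = (S0682.partId hI Finset.univ).hom.app (op U) t := by
    rw [partId_univ]
    rfl
  have h2 : (S0682.partId hI Finset.univ).hom.app (op U) t =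
      ∑ i : I, (Limits.Sigma.ι K' i).hom.app (op U) ((S0682.proj hI i).hom.app (op U) t) :=
    map_sum (S0682.evalHom U t) _ _
  let γ : ∐ K' ⟶ ∐ K := (CoproductsFromFiniteFiltered.finiteSubcoproductsCocone K).ι.app I
  have h3 : ∀ i, Limits.Sigma.ι K' i ≫ γ = Limits.Sigma.ι K i.1.as := fun i => Limits.Sigma.ι_desc _ _
  have h4 : s = γ.hom.app (op U) (∑ i : I, (Limits.Sigma.ι K' i).hom.app (op U)
      ((S0682.proj hI i).hom.app (op U) t)) :=
    ht.symm.trans (congrArg (γ.hom.app (op U)) (h1.trans h2))
  rw [h4]
  refine (map_sum (γ.hom.app (op U)).hom _ _).trans ?_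
  refine Finset.sum_congr rfl fun i _ => ?_
  exact congrArg (fun α : K' i ⟶ ∐ K => α.hom.app (op U) ((S0682.proj hI i).hom.app (op U) t)) (h3 i)

variable (f : X ⟶ Y)

/-- Direct images along quasi-compact quasi-separated morphisms commute with big direct sums. -/
theorem isIso_sigmaComparison_push [QuasiCompact f] [QuasiSeparated f] (K : ι → EtCoh.Ab X) :
    IsIso (sigmaComparison (EtCoh.push f) K) := by
  classical
  let c := sigmaComparison (EtCoh.push f) K
  have hι : ∀ i, Limits.Sigma.ι (fun i => (EtCoh.push f).obj (K i)) i ≫ c =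
      (EtCoh.push f).map (Limits.Sigma.ι K i) := fun i => Limits.Sigma.ι_desc _ _
  have hsum : ∀ (V : Y.Etale) (I : Finset (Discrete ι)) (t : ∀ i : I, EtCoh.sect (K i.1.as) ((EtCoh.bc f).obj V)),
      c.hom.app (op V) (∑ i : I, (Limits.Sigma.ι (fun i => (EtCoh.push f).obj (K i)) i.1.as).hom.app (op V) (t i)) =
      ∑ i : I, (Limits.Sigma.ι K i.1.as).hom.app (op ((EtCoh.bc f).obj V)) (t i) := by
    intro V I t
    refine (map_sum (c.hom.app (op V)).hom _ _).trans ?_
    refine Finset.sum_congr rfl fun i _ => ?_
    exact congrArg (fun α : (EtCoh.push f).obj (K i.1.as) ⟶ (EtCoh.push f).obj (∐ K) => α.hom.app (op V) (t i))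
      (hι i.1.as)
  have hqc : ∀ (V : Y.Etale), IsAffine V.left → CechQC.QC ((EtCoh.bc f).obj V) := fun V hV =>
    CechQC.QC.bc f (CechQC.QC.of_isAffine V hV)
  have hzero : ∀ (V : Y.Etale) (_ : IsAffine V.left) (z : EtCoh.sect (∐ fun i => (EtCoh.push f).obj (K i)) V),
      c.hom.app (op V) z = 0 → z = 0 := by
    intro V hV z hz
    obtain ⟨I, t, rfl⟩ := exists_finset_sum (fun i => (EtCoh.push f).obj (K i)) V z
    have h1 : ∑ i : I, (Limits.Sigma.ι K i.1.as).hom.app (op ((EtCoh.bc f).obj V)) (t i) = 0 :=
      (hsum V I t).symm.trans hz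
    have ht : ∀ j : I, t j = 0 := by
      intro j
      let hK : IsColimit (Cofan.mk (∐ K) (Limits.Sigma.ι K)) := coproductIsCoproduct K
      have h2 : (S0682.proj hK j.1.as).hom.app (op ((EtCoh.bc f).obj V))
          (∑ i : I, (Limits.Sigma.ι K i.1.as).hom.app (op ((EtCoh.bc f).obj V)) (t i)) = t j := by
        refine (map_sum ((S0682.proj hK j.1.as).hom.app (op ((EtCoh.bc f).obj V))).hom _ _).trans ?_
        rw [Finset.sum_eq_single_of_mem j (Finset.mem_univ _)]
        · exact congrArg (fun α : K j.1.as ⟶ K j.1.as => α.hom.app (op ((EtCoh.bc f).obj V)) (t j))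
            (S0682.inj_proj_self hK j.1.as)
        · intro i _ hne
          have hne' : i.1.as ≠ j.1.as := fun h => hne (Subtype.ext (Discrete.ext h))
          exact congrArg (fun α : K i.1.as ⟶ K j.1.as => α.hom.app (op ((EtCoh.bc f).obj V)) (t i))
            (S0682.inj_proj_ne hK hne')
      rw [← h2, h1]
      exact map_zero ((S0682.proj hK j.1.as).hom.app (op ((EtCoh.bc f).obj V))).hom
    refine Finset.sum_eq_zero fun i _ => ?_
    rw [ht i]
    exact map_zero ((Limits.Sigma.ι (fun i => (EtCoh.push f).obj (K i)) i.1.as).hom.app (op V)).hom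
  have hinj : ∀ (V : Y.Etale) (z : EtCoh.sect (∐ fun i => (EtCoh.push f).obj (K i)) V),
      c.hom.app (op V) z = 0 → z = 0 := by
    intro V z hz
    apply Site0.eq_zero_of_local
    intro v
    obtain ⟨W, g, hW, -, w, hw⟩ := Site0.exists_affine V v
    refine ⟨W, g, ⟨w, hw⟩, hzero W hW _ ?_⟩
    have h1 := NatTrans.naturality_apply c.hom g.op z
    refine h1.trans ?_
    rw [hz]
    exact map_zero _
  have hW : Y.smallEtaleTopology.W c.hom := by
    rw [GrothendieckTopology.W_iff_isLocallyBijective]
    constructor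
    · apply Presheaf.isLocallyInjective_of_injective
      intro V x y hxy
      rw [← sub_eq_zero]
      apply hinj V.unop
      have : c.hom.app V x = c.hom.app V y := hxy
      refine (map_sub (c.hom.app V).hom x y).trans ?_
      exact sub_eq_zero.2 this
    · refine ⟨fun {V} s => ?_⟩
      rw [Site0.mem_iff]
      intro v
      obtain ⟨W, g, hW, -, w, hw⟩ := Site0.exists_affine V v
      obtain ⟨h1, h2⟩ := hqc W hW
      obtain ⟨I, t, ht⟩ := exists_finset_sum K ((EtCoh.bc f).obj W) (((EtCoh.push f).obj (∐ K)).obj.map g.op s)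
      exact ⟨W, g, ⟨_, (hsum W I t).trans ht.symm⟩, w, hw⟩
  exact (GrothendieckTopology.W_sheafToPresheaf_map_iff_isIso _ c).1 hW

variable (ι) in
theorem preservesColimitsOfShape_push [QuasiCompact f] [QuasiSeparated f] :
    PreservesColimitsOfShape (Discrete ι) (EtCoh.push f) := by
  have h : ∀ K : ι → EtCoh.Ab X, PreservesColimit (Discrete.functor K) (EtCoh.push f) := fun K => by
    have := isIso_sigmaComparison_push f K
    exact PreservesCoproduct.of_iso_comparison _ _
  exact preservesColimitsOfShape_of_discrete _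

theorem injective_sigma_finite {κ : Type*} [Finite κ] (K : κ → EtCoh.Ab X) [HasCoproduct K]
    (h : ∀ i, Injective (K i)) : Injective (∐ K) :=
  Injective.of_iso (biproduct.isoCoproduct K) inferInstance

/-- Big direct sums of injectives are acyclic for direct images. -/
theorem isAcyc_sigma [QuasiCompact f] [QuasiSeparated f] (K : ι → EtCoh.Ab X) (hK : ∀ j, Injective (K j)) :
    RDer2.IsAcyc (EtCoh.push f) (∐ K) := by
  intro n
  refine CechQC.isZero_Rpush f ?_ (n + 1) (Nat.succ_pos n)
  have h0 := presFinset_ab.{u} ι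
  have h1 := hasFinset_ab.{u} ι
  refine CechQC.cechAcyc_of_isColimit_filtered (J := Finset (Discrete ι))
    (D := CoproductsFromFiniteFiltered.liftToFinsetObj (Discrete.functor K))
    (c := CoproductsFromFiniteFiltered.finiteSubcoproductsCocone K)
    (CoproductsFromFiniteFiltered.isColimitFiniteSubproductsCocone K) ?_
  intro S
  have : Injective ((CoproductsFromFiniteFiltered.liftToFinsetObj (Discrete.functor K)).obj S) :=
    injective_sigma_finite (fun x : S => (Discrete.functor K).obj x.1) (fun x => hK x.1.as)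
  exact CechQC.cechAcyc_of_injective _

variable (ι) in
/-- Higher direct images along quasi-compact quasi-separated morphisms commute with big direct sums. -/
theorem preservesColimitsOfShape_Rpush [QuasiCompact f] [QuasiSeparated f] (q : ℕ) :
    PreservesColimitsOfShape (Discrete ι) (EtCoh.Rpush f q) := by
  have := preservesColimitsOfShape_push ι f
  exact preservesColimitsOfShape_rightDerived (EtCoh.push f) (fun I hI => isAcyc_sigma f I hI) q

end Etale

end Groth.Agent.Etrest.RpushSum
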