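import Groth.Agent.Etrest.ModTens
import Groth.Agent.Etrest.ModUCCore
import Groth.Agent.Etrest.ModAbR
import Groth.Agent.Etrest.RpushSum
import Mathlib.Algebra.Module.ZMod
import Mathlib.LinearAlgebra.Basis.VectorSpace

/-!
# Universal coefficients for higher direct images

`ftlc_Rpush_tens` (UC2): `f : X ⟶ S` quasi-compact quasi-separated, `g : T ⟶ S`, `F₀` an abelian sheaf killed by the
prime `l`, `N` a finite `Λ`-module killed by `l`; if `g⁻¹ R^q f_* F₀` is finite locally constant then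
`g⁻¹ R^q f_* (N ⊗ F₀)` is locally constant of finite type.
-/

set_option autoImplicit false
universe u

open CategoryTheory CategoryTheory.Limits AlgebraicGeometry Opposite
open scoped TensorProduct

noncomputable section

namespace Groth.Agent.Etrest.ModUC

open Groth.Agent.Etrest.ModLoc Groth.Agent.Etrest.ModAb Groth.Agent.Etrest.ModSmul Groth.Agent.Etrest.ModTens
  Groth.Agent.Etrest.ModUCCore Groth.Agent.Etrest.RpushSum

section Algebra

variable {l : ℕ} {N A : Type*} [AddCommGroup N] [AddCommGroup A] [Module (ZMod l) N] [Module (ZMod l) A]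
  {B : Type*} (b : Module.Basis B (ZMod l) N)

/-- The coordinate map `N ⊗ A → A`. -/
def coordMap (j : B) : N ⊗[ℤ] A →+ A :=
  TensorProduct.liftAddHom
    { toFun := fun n => (DistribSMul.toAddMonoidHom A (b.repr n j) : A →+ A)
      map_zero' := by
        ext a
        simp
      map_add' := fun n m => by
        ext a
        simp [add_smul] }
    (fun r n a => by
      change (b.repr (r • n) j) • a = (b.repr n j) • (r • a)
      rw [map_zsmul, Finsupp.smul_apply, smul_comm, smul_assoc])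

theorem coordMap_tmul (j : B) (n : N) (a : A) : coordMap b j (n ⊗ₜ[ℤ] a) = b.repr n j • a := rfl

theorem coordMap_self (j : B) (a : A) : coordMap b j (b j ⊗ₜ[ℤ] a) = a := by
  rw [coordMap_tmul, b.repr_self, Finsupp.single_eq_same, one_smul]

theorem coordMap_ne {i j : B} (h : i ≠ j) (a : A) : coordMap b j (b i ⊗ₜ[ℤ] a) = 0 := by
  rw [coordMap_tmul, b.repr_self, Finsupp.single_eq_of_ne h.symm, zero_smul]

theorem closure_range_basis : AddSubgroup.closure (Set.range b) = ⊤ := by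
  rw [eq_top_iff]
  intro n _
  have h : n ∈ Submodule.span (ZMod l) (Set.range b) := by
    rw [b.span_eq]; trivial
  refine Submodule.span_induction (p := fun n _ => n ∈ AddSubgroup.closure (Set.range b)) ?_ ?_ ?_ ?_ h
  · intro x hx
    exact AddSubgroup.subset_closure hx
  · exact zero_mem _
  · intro x y _ _ hx hy
    exact add_mem hx hy
  · intro c x _ hx
    exact ZMod.smul_mem hx c

end Algebra

section Incl

variable {Λ : Type (u + 1)} [CommRing Λ] {X : Scheme.{u}} (F₀ : EtCoh.Ab X) (N : ModuleCat.{u + 1} Λ)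

/-- `s ↦ n ⊗ s`. -/
def inclObj (n : N) : F₀ ⟶ (ab Λ X).obj ((tens Λ F₀).obj N) := ⟨{
  app := fun V => AddCommGrpCat.ofHom (((tmk F₀ N V.unop).toAddMonoidHom).comp
    ((TensorProduct.mk ℤ N (EtCoh.sect F₀ V.unop) n).toAddMonoidHom))
  naturality := fun V W g => by
    ext s
    exact (res_tmk F₀ N g.unop n s).symm }⟩

theorem inclObj_apply (n : N) (V : X.Etale) (s : EtCoh.sect F₀ V) :
    (inclObj F₀ N n).hom.app (op V) s = (tmk F₀ N V (n ⊗ₜ[ℤ] s) : EtModW.sect Λ ((tens Λ F₀).obj N) V) := rfl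

/-- `n ↦ (s ↦ n ⊗ s)`. -/
def incl : N →+ (F₀ ⟶ (ab Λ X).obj ((tens Λ F₀).obj N)) where
  toFun := inclObj F₀ N
  map_zero' := by
    apply Sheaf.hom_ext
    ext V s
    change (tmk F₀ N V.unop ((0 : N) ⊗ₜ[ℤ] s) : EtModW.sect Λ ((tens Λ F₀).obj N) V.unop) = 0
    rw [TensorProduct.zero_tmul, map_zero]
  map_add' n m := by
    apply Sheaf.hom_ext
    ext V s
    change (tmk F₀ N V.unop ((n + m : N) ⊗ₜ[ℤ] s) : EtModW.sect Λ ((tens Λ F₀).obj N) V.unop) =
      tmk F₀ N V.unop (n ⊗ₜ[ℤ] s) + tmk F₀ N V.unop (m ⊗ₜ[ℤ] s)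
    rw [TensorProduct.add_tmul, map_add]

theorem incl_smul (r : Λ) (n : N) :
    incl F₀ N (r • n) = incl F₀ N n ≫ (ab Λ X).map (smulEnd r ((tens Λ F₀).obj N)) := by
  apply Sheaf.hom_ext
  ext V s
  change (tmk F₀ N V.unop ((r • n : N) ⊗ₜ[ℤ] s) : EtModW.sect Λ ((tens Λ F₀).obj N) V.unop) =
      r • tmk F₀ N V.unop (n ⊗ₜ[ℤ] s)
  rw [← map_smul]
  rfl

variable {N} {l : ℕ} (hF : EtCoh.KilledBy l F₀) [Module (ZMod l) N] {B : Type (u + 1)} (b : Module.Basis B (ZMod l) N)

include hF in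
/-- The maps `s ↦ b i ⊗ s` exhibit `N ⊗ F₀` as a direct sum. -/
theorem nonempty_isColimit_incl :
    Nonempty (IsColimit (Cofan.mk ((ab Λ X).obj ((tens Λ F₀).obj N)) (fun i : B => incl F₀ N (b i)))) := by
  classical
  let c : (∐ fun _ : B => F₀) ⟶ (ab Λ X).obj ((tens Λ F₀).obj N) := Limits.Sigma.desc (fun i => incl F₀ N (b i))
  suffices h : IsIso c from (Cofan.nonempty_isColimit_iff_isIso_sigmaDesc _).2 h
  have hsum : ∀ (V : X.Etale) (I : Finset (Discrete B)) (t : ∀ _ : I, EtCoh.sect F₀ V),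
      c.hom.app (op V) (∑ i : I, (Limits.Sigma.ι (fun _ : B => F₀) i.1.as).hom.app (op V) (t i)) =
      (tmk F₀ N V (∑ i : I, b i.1.as ⊗ₜ[ℤ] t i) : EtModW.sect Λ ((tens Λ F₀).obj N) V) := by
    intro V I t
    refine (map_sum (c.hom.app (op V)).hom _ _).trans ?_
    rw [map_sum]
    refine Finset.sum_congr rfl fun i _ => ?_
    exact congrArg (fun α : F₀ ⟶ (ab Λ X).obj ((tens Λ F₀).obj N) => α.hom.app (op V) (t i))
      (Limits.Sigma.ι_desc (fun i => incl F₀ N (b i)) i.1.as)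
  have hlb := GrothendieckTopology.W_toSheafify X.smallEtaleTopology (tensPreObj Λ F₀.obj N)
  rw [GrothendieckTopology.W_iff_isLocallyBijective] at hlb
  obtain ⟨hli, hls⟩ := hlb
  have hzero : ∀ (V : X.Etale) (_ : IsAffine V.left) (z : EtCoh.sect (∐ fun _ : B => F₀) V),
      c.hom.app (op V) z = 0 → z = 0 := by
    intro V hV z hz
    obtain ⟨I, t, rfl⟩ := exists_finset_sum (fun _ : B => F₀) V z
    have h1 : (tmk F₀ N V (∑ i : I, b i.1.as ⊗ₜ[ℤ] t i) : EtModW.sect Λ ((tens Λ F₀).obj N) V) = 0 :=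
      (hsum V I t).symm.trans hz
    have ht : ∀ j : I, t j = 0 := by
      intro j
      apply Site0.eq_zero_of_local
      intro v
      have h2 := Presheaf.equalizerSieve_mem X.smallEtaleTopology
        (toSheafify X.smallEtaleTopology (tensPreObj Λ F₀.obj N)) (X := op V)
        (∑ i : I, b i.1.as ⊗ₜ[ℤ] t i : N ⊗[ℤ] EtCoh.sect F₀ V) 0 (h1.trans (map_zero (tmk F₀ N V)).symm)
      rw [Site0.mem_iff] at h2
      obtain ⟨W, g, hg, w, hw⟩ := h2 v
      refine ⟨W, g, ⟨w, hw⟩, ?_⟩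
      letI : Module (ZMod l) (EtCoh.sect F₀ W) := AddCommGroup.zmodModule (fun s => hF W s)
      have h3 : (tensPreObj Λ F₀.obj N).map g.op (∑ i : I, b i.1.as ⊗ₜ[ℤ] t i : N ⊗[ℤ] EtCoh.sect F₀ V) =
          (tensPreObj Λ F₀.obj N).map g.op (0 : N ⊗[ℤ] EtCoh.sect F₀ V) := hg
      have h4 : (tensPreObj Λ F₀.obj N).map g.op (∑ i : I, b i.1.as ⊗ₜ[ℤ] t i : N ⊗[ℤ] EtCoh.sect F₀ V) =
          (∑ i : I, b i.1.as ⊗ₜ[ℤ] (F₀.obj.map g.op (t i)) : N ⊗[ℤ] EtCoh.sect F₀ W) :=
        map_sum ((tensPreObj Λ F₀.obj N).map g.op).hom _ _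
      have h5 : (∑ i : I, b i.1.as ⊗ₜ[ℤ] (F₀.obj.map g.op (t i)) : N ⊗[ℤ] EtCoh.sect F₀ W) = 0 := by
        rw [← h4, h3]
        exact map_zero ((tensPreObj Λ F₀.obj N).map g.op).hom
      have h6 := congrArg (coordMap b j.1.as) h5
      rw [map_sum, map_zero, Finset.sum_eq_single_of_mem j (Finset.mem_univ _), coordMap_self] at h6
      · exact h6
      · intro i _ hne
        exact coordMap_ne b (fun h => hne (Subtype.ext (Discrete.ext h))) _
    refine Finset.sum_eq_zero fun i _ => ?_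
    rw [ht i]
    exact map_zero ((Limits.Sigma.ι (fun _ : B => F₀) i.1.as).hom.app (op V)).hom
  have hinj : ∀ (V : X.Etale) (z : EtCoh.sect (∐ fun _ : B => F₀) V), c.hom.app (op V) z = 0 → z = 0 := by
    intro V z hz
    apply Site0.eq_zero_of_local
    intro v
    obtain ⟨W, g, hW, -, w, hw⟩ := Site0.exists_affine V v
    refine ⟨W, g, ⟨w, hw⟩, hzero W hW _ ?_⟩
    have h1 := NatTrans.naturality_apply c.hom g.op z
    refine h1.trans ?_
    rw [hz]
    exact map_zero _
  have hW : X.smallEtaleTopology.W c.hom := by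
    rw [GrothendieckTopology.W_iff_isLocallyBijective]
    constructor
    · apply Presheaf.isLocallyInjective_of_injective
      intro V x y hxy
      rw [← sub_eq_zero]
      apply hinj V.unop
      have : c.hom.app V x = c.hom.app V y := hxy
      refine (map_sub (c.hom.app V).hom x y).trans ?_
      exact sub_eq_zero.2 this
    · refine ⟨fun {V} s => ?_⟩
      have h1 := Presheaf.imageSieve_mem X.smallEtaleTopology
        (toSheafify X.smallEtaleTopology (tensPreObj Λ F₀.obj N)) (U := op V) s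
      rw [Site0.mem_iff] at h1 ⊢
      intro v
      obtain ⟨W, g, ⟨t, ht⟩, w, hw⟩ := h1 v
      refine ⟨W, g, ?_, w, hw⟩
      obtain ⟨h, hh⟩ := ModUCCore.exists_rep (H := EtCoh.sect F₀ W) b (closure_range_basis b) t
      refine ⟨∑ i ∈ h.support, (Limits.Sigma.ι (fun _ : B => F₀) i).hom.app (op W) (h i), ?_⟩
      refine (map_sum (c.hom.app (op W)).hom _ _).trans ?_
      refine Eq.trans ?_ ht
      rw [hh, Finsupp.sum]
      refine Eq.trans ?_ (map_sum (tmk F₀ N W) _ _).symm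
      refine Finset.sum_congr rfl fun i _ => ?_
      exact congrArg (fun α : F₀ ⟶ (ab Λ X).obj ((tens Λ F₀).obj N) => α.hom.app (op W) (h i))
        (Limits.Sigma.ι_desc (fun i => incl F₀ N (b i)) i)
  exact (GrothendieckTopology.W_sheafToPresheaf_map_iff_isIso _ c).1 hW

end Incl

section Main

variable {Λ : Type (u + 1)} [CommRing Λ] {X S T : Scheme.{u}} (f : X ⟶ S) (g : T ⟶ S) (q : ℕ)

/-- `g⁻¹ R^q f_*` commutes with passing to the underlying abelian sheaf. -/
def wIso (F : EtModW.Mod Λ X) : (ab Λ T).obj ((EtModW.pull Λ g).obj ((EtModW.Rpush Λ f q).obj F)) ≅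
    (EtCoh.pull g).obj ((EtCoh.Rpush f q).obj ((ab Λ X).obj F)) :=
  (pullIso Λ g).app _ ≪≫ (EtCoh.pull g).mapIso ((rpushIso Λ f q).app F)

theorem wIso_naturality {F F' : EtModW.Mod Λ X} (φ : F ⟶ F') :
    (ab Λ T).map ((EtModW.pull Λ g).map ((EtModW.Rpush Λ f q).map φ)) ≫ (wIso f g q F').hom =
      (wIso f g q F).hom ≫ (EtCoh.pull g).map ((EtCoh.Rpush f q).map ((ab Λ X).map φ)) := by
  have h1 := (pullIso Λ g).hom.naturality ((EtModW.Rpush Λ f q).map φ)
  have h2 := (rpushIso Λ f q).hom.naturality φ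
  simp only [Functor.comp_map] at h1 h2
  simp only [wIso, Iso.trans_hom, Iso.app_hom, Functor.mapIso_hom]
  rw [← Category.assoc, h1, Category.assoc, Category.assoc, ← Functor.map_comp, ← Functor.map_comp, h2]

instance additive_pull : (EtCoh.pull g).Additive := (EtCoh.pullPushAdj g).left_adjoint_additive

/-- UC2 with a basis. -/
theorem ftlc_of_basis [QuasiCompact f] [QuasiSeparated f] (F₀ : EtCoh.Ab X) {l : ℕ} (hF : EtCoh.KilledBy l F₀)
    (N : ModuleCat.{u + 1} Λ) [Module.Finite Λ N] [Module (ZMod l) N] {B : Type (u + 1)}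
    (b : Module.Basis B (ZMod l) N)
    (h : EtCoh.IsFiniteLocallyConstant ((EtCoh.pull g).obj ((EtCoh.Rpush f q).obj F₀))) :
    EtModW.IsFTLocConst Λ ((EtModW.pull Λ g).obj ((EtModW.Rpush Λ f q).obj ((tens Λ F₀).obj N))) := by
  let μ : N →+ ((EtCoh.pull g).obj ((EtCoh.Rpush f q).obj F₀) ⟶
      (ab Λ T).obj ((EtModW.pull Λ g).obj ((EtModW.Rpush Λ f q).obj ((tens Λ F₀).obj N)))) :=
    { toFun := fun n => (EtCoh.pull g).map ((EtCoh.Rpush f q).map (incl F₀ N n)) ≫
        (wIso f g q ((tens Λ F₀).obj N)).inv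
      map_zero' := by
        rw [map_zero, Functor.map_zero, Functor.map_zero, zero_comp]
      map_add' := fun n m => by
        rw [map_add, Functor.map_add, Functor.map_add, Preadditive.add_comp] }
  have hμ : ∀ (r : Λ) (n : N), μ (r • n) = μ n ≫ (ab Λ T).map (smulEnd r _) := by
    intro r n
    change (EtCoh.pull g).map ((EtCoh.Rpush f q).map (incl F₀ N (r • n))) ≫ _ =
      ((EtCoh.pull g).map ((EtCoh.Rpush f q).map (incl F₀ N n)) ≫ _) ≫ _
    rw [incl_smul, Functor.map_comp, Functor.map_comp, Category.assoc, Category.assoc]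
    congr 1
    rw [Iso.eq_inv_comp, ← Category.assoc, Iso.comp_inv_eq, ← wIso_naturality, rpush_smulEnd, pull_smulEnd]
  obtain ⟨hc⟩ := nonempty_isColimit_incl F₀ hF b
  have hp1 := preservesColimitsOfShape_Rpush B f q
  have hp2 : PreservesColimitsOfShape (Discrete B) (EtCoh.pull g) :=
    (EtCoh.pullPushAdj g).leftAdjoint_preservesColimits.preservesColimitsOfShape
  have hp3 : PreservesColimitsOfShape (Discrete B) (EtCoh.Rpush f q ⋙ EtCoh.pull g) := inferInstance
  have hc1 : IsColimit (Cofan.mk ((EtCoh.Rpush f q ⋙ EtCoh.pull g).obj ((ab Λ X).obj ((tens Λ F₀).obj N)))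
      (fun i : B => (EtCoh.Rpush f q ⋙ EtCoh.pull g).map (incl F₀ N (b i)))) :=
    isColimitCofanMkObjOfIsColimit (EtCoh.Rpush f q ⋙ EtCoh.pull g) _ _ hc
  have hc2 : IsColimit (Cofan.mk ((ab Λ T).obj ((EtModW.pull Λ g).obj ((EtModW.Rpush Λ f q).obj
      ((tens Λ F₀).obj N)))) (fun i : B => μ (b i))) :=
    IsColimit.ofIsoColimit hc1 (Cofan.ext (wIso f g q ((tens Λ F₀).obj N)).symm (fun i => rfl))
  exact isFTLocConst_of_cofan μ hμ b (closure_range_basis b) hc2 h

/-- Universal coefficients (UC2). -/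
theorem ftlc_Rpush_tens [QuasiCompact f] [QuasiSeparated f] (l : ℕ) [Fact l.Prime]
    (F₀ : EtCoh.Ab X) (hF : EtCoh.KilledBy l F₀) (N : Type (u + 1)) [AddCommGroup N] [Module Λ N] [Module.Finite Λ N]
    (hN : ∀ n : N, l • n = 0)
    (h : EtCoh.IsFiniteLocallyConstant ((EtCoh.pull g).obj ((EtCoh.Rpush f q).obj F₀))) :
    EtModW.IsFTLocConst Λ ((EtModW.pull Λ g).obj ((EtModW.Rpush Λ f q).obj
      ((tens Λ F₀).obj (ModuleCat.of Λ N)))) := by
  letI : Module (ZMod l) N := AddCommGroup.zmodModule hN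
  letI : Module (ZMod l) (ModuleCat.of Λ N) := inferInstanceAs (Module (ZMod l) N)
  have hfin : Module.Finite Λ (ModuleCat.of Λ N) := inferInstanceAs (Module.Finite Λ N)
  exact ftlc_of_basis f g q F₀ hF (ModuleCat.of Λ N) (Module.Basis.ofVectorSpace (ZMod l) N) h

end Main

end Groth.Agent.Etrest.ModUC
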