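import Groth.Agent.Etrest.ModFT
import Mathlib.LinearAlgebra.TensorProduct.Tower

/-!
# The sheaf of modules `N ⊗ F₀` for a module `N` and an abelian sheaf `F₀`
-/

set_option autoImplicit false
universe u

open CategoryTheory CategoryTheory.Limits AlgebraicGeometry Opposite
open scoped TensorProduct

namespace Groth.Agent.Etrest.ModTens

open Groth.Agent.EtpbcA.Germ (Fib fmap pt mem_iff exists_common exists_geomPt exists_lift fmap_comp
  pt_fmap hom_pt)
open Groth.Agent.Etrest.ModGerm Groth.Agent.Etrest.ModLoc Groth.Agent.Etrest.ModAb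

variable (Λ : Type (u + 1)) [CommRing Λ]
variable {X : Scheme.{u}}

section Pre

/-- The additive map `A ⊗ B → A' ⊗ B'`. -/
noncomputable def tmap {A B A' B' : Type (u + 1)} [AddCommGroup A] [AddCommGroup B]
    [AddCommGroup A'] [AddCommGroup B'] (f : A →+ A') (g : B →+ B') :
    A ⊗[ℤ] B →+ A' ⊗[ℤ] B' :=
  (TensorProduct.map f.toIntLinearMap g.toIntLinearMap).toAddMonoidHom

theorem tmap_tmul {A B A' B' : Type (u + 1)} [AddCommGroup A] [AddCommGroup B]
    [AddCommGroup A'] [AddCommGroup B'] (f : A →+ A') (g : B →+ B') (a : A) (b : B) :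
    tmap f g (a ⊗ₜ b) = f a ⊗ₜ g b := rfl

theorem tens_hom_ext {A B C : Type (u + 1)} [AddCommGroup A] [AddCommGroup B] [AddCommGroup C]
    (f g : A ⊗[ℤ] B →+ C) (h : ∀ a b, f (a ⊗ₜ b) = g (a ⊗ₜ b)) : f = g := by
  ext x
  induction x using TensorProduct.induction_on with
  | zero => rw [map_zero, map_zero]
  | tmul a s => exact h a s
  | add x y hx hy => rw [map_add, map_add, hx, hy]

theorem tens_cat_ext {A B : Type (u + 1)} [AddCommGroup A] [AddCommGroup B]
    {C : AddCommGrpCat.{u + 1}} (f g : AddCommGrpCat.of (A ⊗[ℤ] B) ⟶ C)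
    (h : ∀ a b, f.hom (a ⊗ₜ b) = g.hom (a ⊗ₜ b)) : f = g :=
  AddCommGrpCat.hom_ext (tens_hom_ext _ _ h)

variable (P : (X.Etale)ᵒᵖ ⥤ AddCommGrpCat.{u + 1})

/-- The presheaf `V ↦ N ⊗[ℤ] P(V)`. -/
noncomputable def tensPreObj (N : ModuleCat.{u + 1} Λ) : (X.Etale)ᵒᵖ ⥤ ModuleCat.{u + 1} Λ where
  obj V := ModuleCat.of Λ (N ⊗[ℤ] (P.obj V))
  map g := ModuleCat.ofHom
    (TensorProduct.AlgebraTensorModule.map (LinearMap.id : N →ₗ[Λ] N) (P.map g).hom.toIntLinearMap)
  map_id V := by
    ext1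
    apply TensorProduct.AlgebraTensorModule.ext
    intro n s
    simp
  map_comp g h := by
    ext1
    apply TensorProduct.AlgebraTensorModule.ext
    intro n s
    simp

/-- The functor `N ↦ (V ↦ N ⊗[ℤ] P(V))`. -/
noncomputable def tensPre : ModuleCat.{u + 1} Λ ⥤ (X.Etale)ᵒᵖ ⥤ ModuleCat.{u + 1} Λ where
  obj N := tensPreObj Λ P N
  map φ :=
    { app := fun V => ModuleCat.ofHom
        (TensorProduct.AlgebraTensorModule.map φ.hom (LinearMap.id : P.obj V →ₗ[ℤ] P.obj V))
      naturality := fun V W g => by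
        ext1
        apply TensorProduct.AlgebraTensorModule.ext
        intro n s
        rfl }
  map_id N := by
    ext V : 2
    ext1
    apply TensorProduct.AlgebraTensorModule.ext
    intro n s
    rfl
  map_comp φ ψ := by
    ext V : 2
    ext1
    apply TensorProduct.AlgebraTensorModule.ext
    intro n s
    rfl

/-- The presheaf `V ↦ A ⊗[ℤ] P(V)`. -/
noncomputable def tensAbPreObj (A : AddCommGrpCat.{u + 1}) :
    (X.Etale)ᵒᵖ ⥤ AddCommGrpCat.{u + 1} where
  obj V := AddCommGrpCat.of (A ⊗[ℤ] (P.obj V))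
  map g := AddCommGrpCat.ofHom (tmap (AddMonoidHom.id A) (P.map g).hom)
  map_id V := tens_cat_ext _ _ fun a b => by
    rw [P.map_id]
    rfl
  map_comp g h := tens_cat_ext _ _ fun a b => by
    rw [P.map_comp]
    rfl

/-- The functor `A ↦ (V ↦ A ⊗[ℤ] P(V))` on abelian groups. -/
noncomputable def tensAbPre : AddCommGrpCat.{u + 1} ⥤ (X.Etale)ᵒᵖ ⥤ AddCommGrpCat.{u + 1} where
  obj A := tensAbPreObj P A
  map φ :=
    { app := fun V => AddCommGrpCat.ofHom (tmap φ.hom (AddMonoidHom.id (P.obj V)))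
      naturality := fun V W g => tens_cat_ext _ _ fun a b => rfl }
  map_id N := by
    ext V : 2
    exact tens_cat_ext _ _ fun a b => rfl
  map_comp φ ψ := by
    ext V : 2
    exact tens_cat_ext _ _ fun a b => rfl

/-- The underlying abelian presheaf of `N ⊗ P`. -/
noncomputable def tensPreAbIso : tensPre Λ P ⋙ (Functor.whiskeringRight _ _ _).obj (fg Λ) ≅
    fg Λ ⋙ tensAbPre P :=
  NatIso.ofComponents (fun N => NatIso.ofComponents (fun V => Iso.refl _) (fun g =>
    tens_cat_ext _ _ fun a b => rfl))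
    (fun φ => by
      ext V : 2
      exact tens_cat_ext _ _ fun a b => rfl)

end Pre

variable (F₀ : EtCoh.Ab X)

/-- The functor `N ↦ N ⊗ F₀` from modules to sheaves of modules. -/
noncomputable def tens : ModuleCat.{u + 1} Λ ⥤ EtModW.Mod Λ X :=
  tensPre Λ F₀.obj ⋙ presheafToSheaf X.smallEtaleTopology (ModuleCat.{u + 1} Λ)

/-- The functor `A ↦ A ⊗ F₀` from abelian groups to abelian sheaves. -/
noncomputable def tensAb : AddCommGrpCat.{u + 1} ⥤ EtCoh.Ab X :=
  tensAbPre F₀.obj ⋙ presheafToSheaf X.smallEtaleTopology AddCommGrpCat.{u + 1}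

/-- The underlying abelian sheaf of `N ⊗ F₀`. -/
noncomputable def tensAbIso : tens Λ F₀ ⋙ ab Λ X ≅ fg Λ ⋙ tensAb F₀ :=
  Functor.associator _ _ _ ≪≫
    Functor.isoWhiskerLeft (tensPre Λ F₀.obj)
      (sheafComposeNatIso X.smallEtaleTopology (fg Λ) (sheafificationAdjunction _ _)
        (sheafificationAdjunction _ _)).symm ≪≫
    (Functor.associator _ _ _).symm ≪≫
    Functor.isoWhiskerRight (tensPreAbIso Λ F₀.obj) _ ≪≫ Functor.associator _ _ _

section colimits

/-- The functor `A ↦ A ⊗ B` on abelian groups. -/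
noncomputable def tensB (B : AddCommGrpCat.{u + 1}) : AddCommGrpCat.{u + 1} ⥤ AddCommGrpCat.{u + 1} where
  obj A := AddCommGrpCat.of (A ⊗[ℤ] B)
  map φ := AddCommGrpCat.ofHom (tmap φ.hom (AddMonoidHom.id B))
  map_id A := tens_cat_ext _ _ fun a b => rfl
  map_comp φ ψ := tens_cat_ext _ _ fun a b => rfl

/-- Currying. -/
noncomputable def tensCurry {A B C : AddCommGrpCat.{u + 1}} (f : AddCommGrpCat.of (A ⊗[ℤ] B) ⟶ C) :
    A ⟶ AddCommGrpCat.of (B ⟶ C) :=
  AddCommGrpCat.ofHom (AddMonoidHom.mk' (fun a => AddCommGrpCat.ofHom (AddMonoidHom.mk'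
    (fun b => f.hom (a ⊗ₜ b)) (fun b b' => by rw [TensorProduct.tmul_add, map_add])))
    (fun a a' => AddCommGrpCat.hom_ext (AddMonoidHom.ext fun b => by
      change f.hom ((a + a') ⊗ₜ b) = f.hom (a ⊗ₜ b) + f.hom (a' ⊗ₜ b)
      rw [TensorProduct.add_tmul, map_add])))

/-- Uncurrying. -/
noncomputable def tensUncurry {A B C : AddCommGrpCat.{u + 1}} (g : A ⟶ AddCommGrpCat.of (B ⟶ C)) :
    AddCommGrpCat.of (A ⊗[ℤ] B) ⟶ C :=
  AddCommGrpCat.ofHom (TensorProduct.liftAddHom (AddMonoidHom.mk'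
      (fun a => (show B ⟶ C from g.hom a).hom)
      (fun a a' => by
        change (show B ⟶ C from g.hom (a + a')).hom = _
        rw [map_add]
        rfl)) (fun r a b => by
          change (show B ⟶ C from g.hom (r • a)).hom b = (show B ⟶ C from g.hom a).hom (r • b)
          rw [map_zsmul, map_zsmul]
          rfl))

theorem tensUncurry_tmul {A B C : AddCommGrpCat.{u + 1}} (g : A ⟶ AddCommGrpCat.of (B ⟶ C))
    (a : A) (b : B) : (tensUncurry g).hom (a ⊗ₜ b) = (show B ⟶ C from g.hom a).hom b := rfl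

/-- The tensor-hom adjunction for abelian groups. -/
noncomputable def tensAdj (B : AddCommGrpCat.{u + 1}) :
    tensB B ⊣ preadditiveCoyoneda.obj (op B) := Adjunction.mkOfHomEquiv
  { homEquiv := fun A C =>
      { toFun := tensCurry
        invFun := tensUncurry
        left_inv := fun f => tens_cat_ext _ _ fun a b => rfl
        right_inv := fun g => rfl }
    homEquiv_naturality_left_symm := fun f g => tens_cat_ext _ _ fun a b => rfl
    homEquiv_naturality_right := fun f g => rfl }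

instance (B : AddCommGrpCat.{u + 1}) : PreservesColimitsOfSize.{u + 1, u + 1} (tensB B) :=
  (tensAdj B).leftAdjoint_preservesColimits

instance (P : (X.Etale)ᵒᵖ ⥤ AddCommGrpCat.{u + 1}) :
    PreservesColimitsOfSize.{u + 1, u + 1} (tensAbPre P) :=
  preservesColimits_of_evaluation _ fun V =>
    (inferInstance : PreservesColimitsOfSize.{u + 1, u + 1} (tensB (P.obj V)))

instance : PreservesColimitsOfSize.{u + 1, u + 1} (tensAb F₀) := by
  unfold tensAb
  have : PreservesColimitsOfSize.{u + 1, u + 1}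
      (presheafToSheaf X.smallEtaleTopology AddCommGrpCat.{u + 1}) :=
    (sheafificationAdjunction _ _).leftAdjoint_preservesColimits
  infer_instance

instance (P : (X.Etale)ᵒᵖ ⥤ AddCommGrpCat.{u + 1}) : (tensAbPre P).Additive where
  map_add {A B f g} := by
    ext V : 2
    refine tens_cat_ext _ _ fun a b => ?_
    change (f.hom a + g.hom a) ⊗ₜ b = f.hom a ⊗ₜ b + g.hom a ⊗ₜ b
    rw [TensorProduct.add_tmul]

instance : (tensAb F₀).Additive := by
  unfold tensAb
  infer_instance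

instance (P : (X.Etale)ᵒᵖ ⥤ AddCommGrpCat.{u + 1}) : (tensPre Λ P).Additive where
  map_add {A B f g} := by
    ext V : 2
    ext1
    apply TensorProduct.AlgebraTensorModule.ext
    intro n s
    change (f.hom n + g.hom n) ⊗ₜ s = f.hom n ⊗ₜ s + g.hom n ⊗ₜ s
    rw [TensorProduct.add_tmul]

instance : (tens Λ F₀).Additive := by
  unfold tens
  infer_instance

end colimits

section sections

variable {Λ}

/-- The map from `N ⊗ F₀(V)` to the sections of `N ⊗ F₀`. -/
noncomputable def tmk (N : ModuleCat.{u + 1} Λ) (V : X.Etale) :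
    N ⊗[ℤ] EtCoh.sect F₀ V →ₗ[Λ] EtModW.sect Λ ((tens Λ F₀).obj N) V :=
  ((toSheafify X.smallEtaleTopology (tensPreObj Λ F₀.obj N)).app (op V)).hom

theorem res_tmk (N : ModuleCat.{u + 1} Λ) {U V : X.Etale} (g : V ⟶ U) (n : N)
    (s : EtCoh.sect F₀ U) :
    res Λ ((tens Λ F₀).obj N) g (tmk F₀ N U (n ⊗ₜ s)) =
      tmk F₀ N V (n ⊗ₜ EtpbcA.Germ.res F₀ g s) :=
  (NatTrans.naturality_apply (toSheafify X.smallEtaleTopology (tensPreObj Λ F₀.obj N)) g.op
    (n ⊗ₜ[ℤ] s : N ⊗[ℤ] F₀.obj.obj (op U))).symm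

end sections

end Groth.Agent.Etrest.ModTens
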