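import Groth.Agent.Etrest.ModTens
import Groth.Agent.Dix.EtaleSieve
import Mathlib.LinearAlgebra.TensorProduct.Pi
import Mathlib.RingTheory.Finiteness.Basic

/-!
# The sheaf `N ⊗ F₀`: local structure

* `isConstVia_tens`, `ftlc_tens`: `N ⊗ F₀` is locally constant of finite type if `F₀` is finite locally
  constant and `N` is finitely generated;
* `tensLift`, `epi_tensLift`: the morphism `Λ ⊗ F₀ ⟶ F` attached to `F₀ ⟶ F^ab`.
-/

set_option autoImplicit false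
universe u

open CategoryTheory CategoryTheory.Limits AlgebraicGeometry Opposite
open scoped TensorProduct

namespace Groth.Agent.Etrest.ModTens

open Groth.Agent.EtpbcA.Germ (Fib fmap pt mem_iff exists_common exists_geomPt exists_lift fmap_comp
  pt_fmap hom_pt)
open Groth.Agent.Etrest.ModGerm Groth.Agent.Etrest.ModLoc Groth.Agent.Etrest.ModAb

variable {Λ : Type (u + 1)} [CommRing Λ]
variable {X : Scheme.{u}} (F₀ : EtCoh.Ab X) (N : ModuleCat.{u + 1} Λ)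

/-- Restriction on `N ⊗ F₀(V)`. -/
noncomputable def tres {U V : X.Etale} (g : V ⟶ U) :
    N ⊗[ℤ] EtCoh.sect F₀ U →ₗ[Λ] N ⊗[ℤ] EtCoh.sect F₀ V :=
  ((tensPreObj Λ F₀.obj N).map g.op).hom

theorem tres_tmul {U V : X.Etale} (g : V ⟶ U) (n : N) (s : EtCoh.sect F₀ U) :
    tres F₀ N g (n ⊗ₜ s) = n ⊗ₜ EtpbcA.Germ.res F₀ g s := rfl

theorem tres_comp {U V W : X.Etale} (g : V ⟶ U) (h : W ⟶ V) (y : N ⊗[ℤ] EtCoh.sect F₀ U) :
    tres F₀ N (h ≫ g) y = tres F₀ N h (tres F₀ N g y) := by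
  simp only [tres, op_comp, Functor.map_comp]
  rfl

theorem res_tmk' {U V : X.Etale} (g : V ⟶ U) (y : N ⊗[ℤ] EtCoh.sect F₀ U) :
    res Λ ((tens Λ F₀).obj N) g (tmk F₀ N U y) = tmk F₀ N V (tres F₀ N g y) :=
  (NatTrans.naturality_apply (toSheafify X.smallEtaleTopology (tensPreObj Λ F₀.obj N)) g.op
    (y : N ⊗[ℤ] F₀.obj.obj (op U))).symm

/-- Sections of `N ⊗ F₀` come locally from the presheaf. -/
theorem exists_tmk (V : X.Etale) (t : EtModW.sect Λ ((tens Λ F₀).obj N) V) (v : V.left) :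
    ∃ (W : X.Etale) (k : W ⟶ V) (w : W.left) (y : N ⊗[ℤ] EtCoh.sect F₀ W), k.left w = v ∧
      res Λ ((tens Λ F₀).obj N) k t = tmk F₀ N W y := by
  have h := Presheaf.imageSieve_mem X.smallEtaleTopology
    (toSheafify X.smallEtaleTopology (tensPreObj Λ F₀.obj N)) t
  rw [mem_iff] at h
  obtain ⟨W, k, ⟨y, hy⟩, w, hw⟩ := h v
  exact ⟨W, k, w, y, hw, hy.symm⟩

/-- Sections of the presheaf which vanish in `N ⊗ F₀` vanish locally. -/
theorem exists_tres_eq_zero (V : X.Etale) (y : N ⊗[ℤ] EtCoh.sect F₀ V) (hy : tmk F₀ N V y = 0)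
    (v : V.left) :
    ∃ (W : X.Etale) (k : W ⟶ V) (w : W.left), k.left w = v ∧ tres F₀ N k y = 0 := by
  have h := Presheaf.equalizerSieve_mem X.smallEtaleTopology
    (toSheafify X.smallEtaleTopology (tensPreObj Λ F₀.obj N)) (X := op V)
    (y : N ⊗[ℤ] F₀.obj.obj (op V)) 0 (by
      rw [map_zero]
      exact hy)
  rw [mem_iff] at h
  obtain ⟨W, k, hk, w, hw⟩ := h v
  refine ⟨W, k, w, hw, ?_⟩
  have hk' : tres F₀ N k y = tres F₀ N k 0 := hk
  rw [hk', map_zero]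

/-- The map `N ⊗ M → N ⊗ F₀(U)`. -/
noncomputable def tphi {M : Type (u + 1)} [AddCommGroup M] {U : X.Etale} (φ : M →+ EtCoh.sect F₀ U) :
    N ⊗[ℤ] M →ₗ[Λ] N ⊗[ℤ] EtCoh.sect F₀ U :=
  TensorProduct.AlgebraTensorModule.map (LinearMap.id : N →ₗ[Λ] N) φ.toIntLinearMap

theorem tres_tphi {M : Type (u + 1)} [AddCommGroup M] {U V : X.Etale} (φ : M →+ EtCoh.sect F₀ U)
    (g : V ⟶ U) (y : N ⊗[ℤ] M) :
    tres F₀ N g (tphi F₀ N φ y) = tphi F₀ N ((EtpbcA.Germ.res F₀ g).comp φ) y := by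
  have : (tres F₀ N g).comp (tphi F₀ N φ) = tphi F₀ N ((EtpbcA.Germ.res F₀ g).comp φ) := by
    apply TensorProduct.AlgebraTensorModule.ext
    intro n s
    rfl
  exact LinearMap.congr_fun this y

theorem tphi_injective {M : Type (u + 1)} [AddCommGroup M] {U : X.Etale}
    (φ : M →+ EtCoh.sect F₀ U) (ρ : EtCoh.sect F₀ U →+ M) (h : ∀ m, ρ (φ m) = m)
    (y : N ⊗[ℤ] M) (hy : tphi F₀ N φ y = 0) : y = 0 := by
  let r : N ⊗[ℤ] EtCoh.sect F₀ U →ₗ[Λ] N ⊗[ℤ] M :=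
    TensorProduct.AlgebraTensorModule.map (LinearMap.id : N →ₗ[Λ] N) ρ.toIntLinearMap
  have : r.comp (tphi F₀ N φ) = LinearMap.id := by
    apply TensorProduct.AlgebraTensorModule.ext
    intro n m
    change n ⊗ₜ[ℤ] ρ (φ m) = n ⊗ₜ[ℤ] m
    rw [h]
  have h2 := LinearMap.congr_fun this y
  change r (tphi F₀ N φ y) = y at h2
  rw [← h2, hy, map_zero]

/-- Elements of `N ⊗ F₀(W)` come locally from `N ⊗ M` if `F₀` is constant. -/
theorem exists_tphi {M : Type (u + 1)} [AddCommGroup M] {U : X.Etale} (φ : M →+ EtCoh.sect F₀ U)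
    (h : EtpbcA.FLC.IsConstVia F₀ U φ) {W : X.Etale} (k : W ⟶ U)
    {Ω : Type u} [Field Ω] [IsSepClosed Ω] (ξ : Spec (CommRingCat.of Ω) ⟶ X)
    (y : N ⊗[ℤ] EtCoh.sect F₀ W) :
    ∀ {W' : X.Etale} (k' : W' ⟶ W) (t' : Fib ξ W'),
      ∃ (W'' : X.Etale) (k'' : W'' ⟶ W') (t'' : Fib ξ W'') (m : N ⊗[ℤ] M), fmap ξ k'' t'' = t' ∧
        tres F₀ N (k'' ≫ k') y = tphi F₀ N ((EtpbcA.Germ.res F₀ (k'' ≫ k' ≫ k)).comp φ) m := by
  induction y using TensorProduct.induction_on with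
  | zero =>
    intro W' k' t'
    exact ⟨W', 𝟙 _, t', 0, by simp [fmap], by simp⟩
  | tmul n s =>
    intro W' k' t'
    obtain ⟨W'', k'', w'', m, hw, e⟩ := h.surjective (k' ≫ k) (pt ξ t')
      (EtpbcA.Germ.res F₀ k' s)
    obtain ⟨t'', ht'', -⟩ := exists_lift ξ k'' t' w'' hw
    refine ⟨W'', k'', t'', n ⊗ₜ m, ht'', ?_⟩
    rw [tres_tmul, EtpbcA.Germ.res_comp, e]
    rfl
  | add y z hy hz =>
    intro W' k' t'
    obtain ⟨W₁, k₁, t₁, m₁, rfl, e₁⟩ := hy k' t'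
    obtain ⟨W₂, k₂, t₂, m₂, rfl, e₂⟩ := hz (k₁ ≫ k') t₁
    refine ⟨W₂, k₂ ≫ k₁, t₂, m₁ + m₂, by rw [fmap_comp], ?_⟩
    rw [map_add, map_add]
    refine congrArg₂ (· + ·) ?_ ?_
    · rw [Category.assoc, tres_comp, e₁, tres_tphi]
      have : (EtpbcA.Germ.res F₀ k₂).comp ((EtpbcA.Germ.res F₀ (k₁ ≫ k' ≫ k)).comp φ) =
          (EtpbcA.Germ.res F₀ ((k₂ ≫ k₁) ≫ k' ≫ k)).comp φ := by
        ext m
        change EtpbcA.Germ.res F₀ k₂ (EtpbcA.Germ.res F₀ (k₁ ≫ k' ≫ k) (φ m)) =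
          EtpbcA.Germ.res F₀ ((k₂ ≫ k₁) ≫ k' ≫ k) (φ m)
        rw [← EtpbcA.Germ.res_comp, Category.assoc]
      rw [this]
    · rw [Category.assoc, e₂]
      simp only [Category.assoc]

/-- If `F₀` is constant on `U` with value `M`, then `N ⊗ F₀` is constant on `U` with value `N ⊗ M`. -/
theorem isConstVia_tens {M : Type (u + 1)} [AddCommGroup M] {U : X.Etale} (φ : M →+ EtCoh.sect F₀ U)
    (h : EtpbcA.FLC.IsConstVia F₀ U φ) :
    IsConstVia Λ ((tens Λ F₀).obj N) U ((tmk F₀ N U).comp (tphi F₀ N φ)) := by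
  refine IsConstVia.of_sections _ ?_ ?_
  · intro V g v m hm
    change res Λ ((tens Λ F₀).obj N) g (tmk F₀ N U (tphi F₀ N φ m)) = 0 at hm
    rw [res_tmk', tres_tphi] at hm
    obtain ⟨W, k, w, hw, e⟩ := exists_tres_eq_zero F₀ N V _ hm v
    rw [tres_tphi] at e
    obtain ⟨Ω, _, _, ξ, t, -⟩ := exists_geomPt w
    have h1 := (h.res g).res k Ω ξ t
    let eM : M ≃+ ((EtCoh.stalk ξ).obj F₀ : Type (u + 1)) :=
      AddEquiv.ofBijective ((EtpbcA.Germ.germ ξ F₀ t).comp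
        ((EtpbcA.Germ.res F₀ k).comp ((EtpbcA.Germ.res F₀ g).comp φ))) h1
    refine tphi_injective F₀ N _ (eM.symm.toAddMonoidHom.comp (EtpbcA.Germ.germ ξ F₀ t)) ?_ m e
    intro m'
    exact eM.symm_apply_apply m'
  · intro V g v s
    obtain ⟨W, k, w, y, rfl, e⟩ := exists_tmk F₀ N V s v
    obtain ⟨Ω, _, _, ξ, t, rfl⟩ := exists_geomPt w
    obtain ⟨W', k', t', m, ht', e'⟩ := exists_tphi F₀ N φ h (k ≫ g) ξ y (𝟙 W) t
    refine ⟨W', k' ≫ k, pt ξ t', m, ?_, ?_⟩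
    · rw [← ht', pt_fmap]
      rfl
    · rw [res_comp, e, res_tmk']
      change _ = res Λ ((tens Λ F₀).obj N) _ (tmk F₀ N U (tphi F₀ N φ m))
      rw [res_tmk', tres_tphi]
      simp only [Category.comp_id, Category.id_comp] at e'
      rw [e']
      simp only [Category.assoc]

theorem finite_tens [Module.Finite Λ N] (M : Type (u + 1)) [AddCommGroup M] [Finite M] :
    Module.Finite Λ (N ⊗[ℤ] M) := by
  obtain ⟨n, f, hf⟩ := Module.Finite.exists_fin' ℤ M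
  have h1 : Function.Surjective (TensorProduct.AlgebraTensorModule.map
      (LinearMap.id : N →ₗ[Λ] N) f) := by
    intro y
    induction y using TensorProduct.induction_on with
    | zero => exact ⟨0, map_zero _⟩
    | tmul n m =>
      obtain ⟨x, rfl⟩ := hf m
      exact ⟨n ⊗ₜ x, rfl⟩
    | add y z hy hz =>
      obtain ⟨y, rfl⟩ := hy
      obtain ⟨z, rfl⟩ := hz
      exact ⟨y + z, map_add _ _ _⟩
  have : Module.Finite Λ (N ⊗[ℤ] (Fin n → ℤ)) :=
    Module.Finite.equiv (TensorProduct.piScalarRight ℤ Λ N (Fin n)).symm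
  exact Module.Finite.of_surjective _ h1

variable {F₀} in
/-- **(UC1)** `N ⊗ F₀` is locally constant of finite type. -/
theorem ftlc_tens (hF₀ : EtCoh.IsFiniteLocallyConstant F₀) [Module.Finite Λ N] :
    EtModW.IsFTLocConst Λ ((tens Λ F₀).obj N) := by
  rw [ftlc_iff]
  rw [EtpbcA.FLC.flc_iff] at hF₀
  intro x
  obtain ⟨U, u, M, _, _, φ, hu, h⟩ := hF₀ x
  have h' := h.comp_equiv (AddEquiv.ulift.{0, u + 1} (α := M))
  refine ⟨U, u, N ⊗[ℤ] ULift.{u + 1} M, inferInstance, inferInstance, ?_,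
    (tmk F₀ N U).comp (tphi F₀ N _), hu, isConstVia_tens F₀ N _ h'⟩
  exact finite_tens N _

section Lift

variable {F₀} {F : EtModW.Mod Λ X} (i : F₀ ⟶ (ab Λ X).obj F)

/-- A morphism `F₀ ⟶ F^ab` on sections, with values in the module `F(V)`. -/
noncomputable def iev (V : X.Etale) (s : EtCoh.sect F₀ V) : EtModW.sect Λ F V :=
  (show EtCoh.sect ((ab Λ X).obj F) V from i.hom.app (op V) s)

theorem iev_add (V : X.Etale) (s s' : EtCoh.sect F₀ V) : iev i V (s + s') = iev i V s + iev i V s' :=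
  map_add (i.hom.app (op V)).hom s s'

theorem iev_zsmul (V : X.Etale) (r : ℤ) (s : EtCoh.sect F₀ V) : iev i V (r • s) = r • iev i V s :=
  map_zsmul (i.hom.app (op V)).hom r s

theorem iev_res {U V : X.Etale} (g : V ⟶ U) (s : EtCoh.sect F₀ U) :
    iev i V (EtpbcA.Germ.res F₀ g s) = res Λ F g (iev i U s) :=
  NatTrans.naturality_apply i.hom g.op s

/-- The linear map `Λ ⊗ F₀(V) → F(V)`. -/
noncomputable def liftSec (V : X.Etale) :
    (ModuleCat.of Λ Λ) ⊗[ℤ] EtCoh.sect F₀ V →ₗ[Λ] EtModW.sect Λ F V :=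
  TensorProduct.AlgebraTensorModule.lift
    { toFun := fun r =>
        { toFun := fun s => (show Λ from r) • iev i V s
          map_add' := fun s s' => by rw [iev_add, smul_add]
          map_smul' := fun z s => by
            rw [iev_zsmul, RingHom.id_apply, smul_comm] }
      map_add' := fun r r' => by
        ext s
        exact add_smul (show Λ from r) (show Λ from r') _
      map_smul' := fun a r => by
        ext s
        exact mul_smul a (show Λ from r) _ }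

theorem liftSec_tmul (V : X.Etale) (r : Λ) (s : EtCoh.sect F₀ V) :
    liftSec i V ((show ModuleCat.of Λ Λ from r) ⊗ₜ s) = r • iev i V s := rfl

/-- The morphism of presheaves `Λ ⊗ F₀ ⟶ F`. -/
noncomputable def liftPre : tensPreObj Λ F₀.obj (ModuleCat.of Λ Λ) ⟶ F.obj where
  app V := ModuleCat.ofHom (liftSec i V.unop)
  naturality V W g := by
    ext1
    apply TensorProduct.AlgebraTensorModule.ext
    intro r s
    have h := iev_res i g.unop s
    change (show Λ from r) • iev i W.unop (EtpbcA.Germ.res F₀ g.unop s) =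
      res Λ F g.unop ((show Λ from r) • iev i V.unop s)
    rw [h, map_smul]

/-- **(UC0)** the morphism `Λ ⊗ F₀ ⟶ F` attached to `F₀ ⟶ F^ab`. -/
noncomputable def tensLift : (tens Λ F₀).obj (ModuleCat.of Λ Λ) ⟶ F :=
  ((sheafificationAdjunction X.smallEtaleTopology (ModuleCat.{u + 1} Λ)).homEquiv _ _).symm
    (liftPre i)

theorem ev_tensLift (V : X.Etale) (y : (ModuleCat.of Λ Λ) ⊗[ℤ] EtCoh.sect F₀ V) :
    ev Λ (tensLift i) V (tmk F₀ (ModuleCat.of Λ Λ) V y) = liftSec i V y := by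
  have h : toSheafify X.smallEtaleTopology (tensPreObj Λ F₀.obj (ModuleCat.of Λ Λ)) ≫
      (tensLift i).hom = liftPre i :=
    ((sheafificationAdjunction X.smallEtaleTopology (ModuleCat.{u + 1} Λ)).homEquiv _ _).apply_symm_apply
      (liftPre i)
  exact congrArg (fun φ => (φ.app (op V)).hom y) h

/-- The elements of the stalk of `F` coming from `F₀`. -/
def stalkRange {Ω : Type u} [Field Ω] [IsSepClosed Ω] (ξ : Spec (CommRingCat.of Ω) ⟶ X) :
    Set ((EtModW.stalk Λ ξ).obj F : Type (u + 1)) :=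
  {a | ∃ (U : X.Etale) (t : Fib ξ U) (s : EtCoh.sect F₀ U), germ Λ ξ F t (iev i U s) = a}

theorem exists_of_mem_span {Ω : Type u} [Field Ω] [IsSepClosed Ω] (ξ : Spec (CommRingCat.of Ω) ⟶ X)
    (a : ((EtModW.stalk Λ ξ).obj F : Type (u + 1))) (ha : a ∈ Submodule.span Λ (stalkRange i ξ)) :
    ∀ (W : X.Etale) (t : Fib ξ W), ∃ (W' : X.Etale) (k : W' ⟶ W) (t' : Fib ξ W')
      (y : (ModuleCat.of Λ Λ) ⊗[ℤ] EtCoh.sect F₀ W'), fmap ξ k t' = t ∧
        germ Λ ξ F t' (liftSec i W' y) = a := by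
  induction ha using Submodule.span_induction with
  | mem a ha =>
    obtain ⟨U, t₀, s, rfl⟩ := ha
    intro W t
    obtain ⟨V, p, q, t', hp, hq⟩ := exists_common ξ W U t t₀
    refine ⟨V, p, t', (show ModuleCat.of Λ Λ from (1 : Λ)) ⊗ₜ EtpbcA.Germ.res F₀ q s, hp, ?_⟩
    rw [liftSec_tmul, one_smul, iev_res, germ_res, hq]
  | zero =>
    intro W t
    exact ⟨W, 𝟙 _, t, 0, by simp [fmap], by rw [map_zero, map_zero]⟩
  | add a b _ _ ha hb =>
    intro W t
    obtain ⟨W₁, k₁, t₁, y₁, rfl, rfl⟩ := ha W t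
    obtain ⟨W₂, k₂, t₂, y₂, rfl, rfl⟩ := hb W₁ t₁
    refine ⟨W₂, k₂ ≫ k₁, t₂, tres F₀ _ k₂ y₁ + y₂, by rw [fmap_comp], ?_⟩
    rw [map_add, map_add]
    congr 1
    have h : liftSec i W₂ (tres F₀ _ k₂ y₁) = res Λ F k₂ (liftSec i W₁ y₁) :=
      congrArg (fun φ => φ.hom y₁) ((liftPre i).naturality k₂.op)
    rw [h, germ_res]
  | smul r a _ ha =>
    intro W t
    obtain ⟨W₁, k₁, t₁, y₁, rfl, rfl⟩ := ha W t
    exact ⟨W₁, k₁, t₁, r • y₁, rfl, by rw [map_smul, map_smul]⟩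

/-- `Λ ⊗ F₀ ⟶ F` is an epimorphism if the image of `F₀` generates all geometric stalks. -/
theorem epi_tensLift (h : ∀ (Ω : Type u) [Field Ω] [IsSepClosed Ω]
    (ξ : Spec (CommRingCat.of Ω) ⟶ X), Submodule.span Λ (stalkRange i ξ) = ⊤) :
    Epi (tensLift i) := by
  have : Epi ((ab Λ X).map (tensLift i)) := by
    rw [Dix.EtaleSieve.epi_iff]
    intro U s x
    obtain ⟨Ω, _, _, ξ, t, rfl⟩ := exists_geomPt x
    obtain ⟨W, k, t', y, rfl, e⟩ := exists_of_mem_span i ξ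
      (germ Λ ξ F t (show EtModW.sect Λ F U from s)) (by rw [h]; trivial) U t
    rw [← germ_res, germ_eq_iff] at e
    obtain ⟨V, g, v, rfl, e⟩ := e
    refine ⟨V, g ≫ k, ⟨pt ξ v, ?_⟩, tmk F₀ _ V (tres F₀ _ g y), ?_⟩
    · rw [← pt_fmap, fmap_comp]
    · have h1 : liftSec i V (tres F₀ _ g y) = res Λ F g (liftSec i W y) :=
        congrArg (fun φ => φ.hom y) ((liftPre i).naturality g.op)
      have h2 : ev Λ (tensLift i) V (tmk F₀ _ V (tres F₀ _ g y)) =
          res Λ F (g ≫ k) (show EtModW.sect Λ F U from s) := by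
        rw [ev_tensLift, h1, e, res_comp]
      exact h2
  exact (ab Λ X).epi_of_epi_map this

end Lift

end Groth.Agent.Etrest.ModTens
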