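import Groth.Agent.Etrest.ModTens2
import Groth.Agent.Etrest.ModLoc
import Mathlib.Algebra.Module.ZMod

/-!
# `N ⊗ (ℤ/ℓ) = N` for `N` killed by `ℓ`
-/

set_option autoImplicit false
universe u
open CategoryTheory CategoryTheory.Limits AlgebraicGeometry Opposite
open scoped TensorProduct

namespace Groth.Agent.Etrest.ModUC3

open Groth.Agent.EtpbcA.Germ (mem_iff)
open Groth.Agent.Etrest.ModGerm Groth.Agent.Etrest.ModLoc Groth.Agent.Etrest.ModTens

variable {Λ : Type (u + 1)} [CommRing Λ] {X : Scheme.{u}}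

/-- the unique map to the final object -/
noncomputable def toTop (V : X.Etale) : V ⟶ EtCoh.top X := 
  MorphismProperty.Over.homMk V.hom (Category.comp_id _) trivial

theorem toTop_comp {V W : X.Etale} (f : W ⟶ V) : f ≫ toTop V = toTop W := by
  apply MorphismProperty.Over.Hom.ext
  exact Over.w f.hom

section Const

variable (G : EtModW.Mod Λ X) {M : Type (u + 1)} [AddCommGroup M] [Module Λ M]

/-- The map from the constant presheaf attached to a linear map `M → G(X)`. -/
noncomputable def constTo (φ : M →ₗ[Λ] EtModW.sect Λ G (EtCoh.top X)) :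
    (Functor.const (X.Etale)ᵒᵖ).obj (ModuleCat.of Λ M) ⟶ G.obj where
  app V := ModuleCat.ofHom ((ModGerm.res Λ G (toTop V.unop)).comp φ)
  naturality V W f := by
    ext m
    change ModGerm.res Λ G (toTop W.unop) (φ m) =
      ModGerm.res Λ G f.unop (ModGerm.res Λ G (toTop V.unop) (φ m))
    rw [← res_comp, toTop_comp]

theorem W_constTo (φ : M →ₗ[Λ] EtModW.sect Λ G (EtCoh.top X)) (h : IsConstVia Λ G (EtCoh.top X) φ) :
    X.smallEtaleTopology.W (constTo G φ) := by
  rw [GrothendieckTopology.W_iff_isLocallyBijective]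
  refine ⟨⟨?_⟩, ⟨?_⟩⟩
  · intro V m m' e
    rw [mem_iff]
    intro v
    refine ⟨V.unop, 𝟙 _, ?_, v, rfl⟩
    have : m = m' := h.injective (toTop V.unop) v e
    subst this
    rfl
  · intro V s
    rw [mem_iff]
    intro v
    obtain ⟨W, k, w, m, hw, e⟩ := h.surjective (toTop V) v s
    refine ⟨W, k, ?_, w, hw⟩
    refine ⟨m, ?_⟩
    rw [toTop_comp] at e
    exact e.symm

/-- A sheaf which is constant with value `M` on `X` is isomorphic to the constant sheaf. -/
theorem nonempty_iso_const (φ : M →ₗ[Λ] EtModW.sect Λ G (EtCoh.top X)) 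
    (h : IsConstVia Λ G (EtCoh.top X) φ) : Nonempty (G ≅ EtModW.constMod Λ X M) := by
  have hφ := W_constTo G φ h
  rw [GrothendieckTopology.W_iff] at hφ
  exact ⟨(asIso ((sheafificationAdjunction X.smallEtaleTopology
      (ModuleCat.{u + 1} Λ)).counit.app G)).symm ≪≫
        (asIso ((presheafToSheaf X.smallEtaleTopology (ModuleCat.{u + 1} Λ)).map
          (constTo G φ))).symm⟩

end Const

/-- The unit of the constant sheaf on global sections. -/
noncomputable def unitTop (X : Scheme.{u}) (A : Type) [AddCommGroup A] : 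
    ULift.{u + 1} A →+ EtCoh.sect (EtCoh.const X A) (EtCoh.top X) :=
  ((toSheafify X.smallEtaleTopology ((Functor.const (X.Etale)ᵒᵖ).obj 
    (AddCommGrpCat.of (ULift.{u + 1} A)))).app (op (EtCoh.top X))).hom

theorem res_unitTop (A : Type) [AddCommGroup A] {V : X.Etale} (g : V ⟶ EtCoh.top X) (a : ULift.{u + 1} A) :
    EtpbcA.Germ.res (EtCoh.const X A) g (unitTop X A a) = 
      (toSheafify X.smallEtaleTopology ((Functor.const (X.Etale)ᵒᵖ).obj 
        (AddCommGrpCat.of (ULift.{u + 1} A)))).app (op V) a :=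
  (NatTrans.naturality_apply (toSheafify X.smallEtaleTopology ((Functor.const (X.Etale)ᵒᵖ).obj 
    (AddCommGrpCat.of (ULift.{u + 1} A)))) g.op a).symm

theorem isConstVia_unitTop (X : Scheme.{u}) (A : Type) [AddCommGroup A] : 
    EtpbcA.FLC.IsConstVia (EtCoh.const X A) (EtCoh.top X) (unitTop X A) := by
  have hW := (GrothendieckTopology.W_iff_isLocallyBijective _ _).1 
    (X.smallEtaleTopology.W_toSheafify ((Functor.const (X.Etale)ᵒᵖ).obj (AddCommGrpCat.of (ULift.{u + 1} A))))
  obtain ⟨h1, h2⟩ := hW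
  refine EtpbcA.FLC.IsConstVia.of_sections _ ?_ ?_
  · intro V g v a ha
    have := h1.equalizerSieve_mem (X := op V) a (0 : ULift.{u + 1} A) (by
      rw [map_zero]
      exact (res_unitTop A g a).symm.trans ha)
    rw [mem_iff] at this
    obtain ⟨W, k, hk, w, hw⟩ := this v
    exact hk
  · intro V g v s
    have := h2.imageSieve_mem (U := V) s
    rw [mem_iff] at this
    obtain ⟨W, k, ⟨m, hm⟩, w, hw⟩ := this v
    refine ⟨W, k, w, m, hw, ?_⟩
    exact hm.symm.trans (res_unitTop A (k ≫ g) m).symm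

section Tens

variable (ℓ : ℕ) [NeZero ℓ] (N : Type (u + 1)) [AddCommGroup N] [Module Λ N]

/-- `n ↦ n ⊗ 1`. -/
noncomputable def tensOne (Λ : Type (u + 1)) [CommRing Λ] (ℓ : ℕ) (N : Type (u + 1)) [AddCommGroup N] [Module Λ N] :
    N →ₗ[Λ] N ⊗[ℤ] ULift.{u + 1} (ZMod ℓ) where
  toFun n := n ⊗ₜ ⟨1⟩
  map_add' _ _ := TensorProduct.add_tmul _ _ _
  map_smul' _ _ := rfl

omit [Module Λ N] [NeZero ℓ] in
theorem exists_leftInverse (hN : ∀ n : N, ℓ • n = 0) : 
    ∃ r : N ⊗[ℤ] ULift.{u + 1} (ZMod ℓ) →+ N, ∀ n : N, r (n ⊗ₜ ⟨1⟩) = n := by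
  let : Module (ZMod ℓ) N := AddCommGroup.zmodModule hN
  let b : N →+ ULift.{u + 1} (ZMod ℓ) →+ N := AddMonoidHom.flip 
    { toFun := fun a => DistribSMul.toAddMonoidHom N a.down
      map_zero' := by ext n; exact zero_smul (ZMod ℓ) n
      map_add' := fun a b => by ext n; exact add_smul a.down b.down n }
  refine ⟨TensorProduct.liftAddHom b (fun r m n => ?_), fun n => ?_⟩
  · simp [b, mul_smul, Int.cast_smul_eq_zsmul]
  · rw [TensorProduct.liftAddHom_tmul]
    exact one_smul (ZMod ℓ) n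

theorem tensOne_bijective (hN : ∀ n : N, ℓ • n = 0) : Function.Bijective (tensOne Λ ℓ N) := by
  constructor
  · obtain ⟨r, hr⟩ := exists_leftInverse ℓ N hN
    exact Function.LeftInverse.injective (g := r) hr
  · intro y
    induction y using TensorProduct.induction_on with
    | zero => exact ⟨0, map_zero _⟩
    | tmul n a =>
      refine ⟨a.down.val • n, ?_⟩
      change (a.down.val • n) ⊗ₜ[ℤ] (⟨1⟩ : ULift.{u + 1} (ZMod ℓ)) = n ⊗ₜ a
      rw [← natCast_zsmul, TensorProduct.smul_tmul]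
      congr 1
      apply ULift.down_injective
      change ((a.down.val : ℤ) • (1 : ZMod ℓ)) = a.down
      rw [natCast_zsmul, nsmul_eq_mul, mul_one, ZMod.natCast_zmod_val]
    | add y z hy hz =>
      obtain ⟨y, rfl⟩ := hy
      obtain ⟨z, rfl⟩ := hz
      exact ⟨y + z, map_add _ _ _⟩

/-- **(UC3)** `N ⊗ (ℤ/ℓ)` is the constant sheaf `N` if `N` is killed by `ℓ`. -/
theorem nonempty_tens_const (hN : ∀ n : N, ℓ • n = 0) : 
    Nonempty ((tens Λ (EtCoh.const X (ZMod ℓ))).obj (ModuleCat.of Λ N) ≅ EtModW.constMod Λ X N) := by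
  have h := isConstVia_tens (Λ := Λ) (EtCoh.const X (ZMod ℓ)) (ModuleCat.of Λ N) (unitTop X (ZMod ℓ)) 
    (isConstVia_unitTop X (ZMod ℓ))
  exact nonempty_iso_const _ _ (h.comp_equiv (LinearEquiv.ofBijective (tensOne Λ ℓ N) (tensOne_bijective ℓ N hN)))

end Tens

end Groth.Agent.Etrest.ModUC3
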