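import Groth.Agent.Etrest.Frame
import Groth.Agent.Proet.CoverFin

/-!
# Continuity of sheaves of sets along cofiltered limits of affine objects of the small pro-etale site

`Cts F S`: the sections of `F` commute with cofiltered limits of affine objects over `S`. This is local on an
affine `S` (`cts_of_cover`).
-/

set_option autoImplicit false
universe w v₁ u₁ v₂ u₂ u
open CategoryTheory CategoryTheory.Limits Opposite AlgebraicGeometry

namespace Groth.Agent.Etrest.ProLim

open LCMod

section General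

variable {C : Type u₁} [Category.{v₁} C] {I : Type u₂} [Category.{v₂} I]

/-- A cone which is the base change of a limit cone over a connected diagram is a limit cone. -/
theorem isLimit_of_isPullback [IsConnected I] {D E : I ⥤ C} (α : E ⟶ D) (c : Cone D)
    (hc : IsLimit c) (e : Cone E) (t : e.pt ⟶ c.pt)
    (ht : ∀ i, IsPullback (e.π.app i) t (α.app i) (c.π.app i)) : Nonempty (IsLimit e) := by
  have key : ∀ s : Cone E, ∃ l : s.pt ⟶ e.pt, ∀ i, l ≫ e.π.app i = s.π.app i := by
    intro s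
    let s' : Cone D := (Cone.postcompose α).obj s
    have h1 : ∀ i, s.π.app i ≫ α.app i = hc.lift s' ≫ c.π.app i := by
      intro i
      rw [hc.fac]
      rfl
    have h2 : ∀ i j : I, (ht i).lift (s.π.app i) (hc.lift s') (h1 i) =
        (ht j).lift (s.π.app j) (hc.lift s') (h1 j) := by
      apply constant_of_preserves_morphisms (α := s.pt ⟶ e.pt)
        (fun i => (ht i).lift (s.π.app i) (hc.lift s') (h1 i))
      intro i j φ
      apply (ht j).hom_ext
      · rw [IsPullback.lift_fst, ← e.w φ, ← Category.assoc, IsPullback.lift_fst, s.w]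
      · rw [IsPullback.lift_snd, IsPullback.lift_snd]
    obtain ⟨i₀⟩ : Nonempty I := inferInstance
    refine ⟨(ht i₀).lift (s.π.app i₀) (hc.lift s') (h1 i₀), fun i => ?_⟩
    rw [h2 i₀ i, IsPullback.lift_fst]
  choose l hl using key
  refine ⟨⟨l, hl, fun s m hm => ?_⟩⟩
  obtain ⟨i₀⟩ : Nonempty I := inferInstance
  apply (ht i₀).hom_ext
  · rw [hm, hl]
  · apply hc.hom_ext
    intro i
    rw [Category.assoc, Category.assoc, ← (ht i).w, ← Category.assoc, ← Category.assoc, hm, hl]

theorem exists_common [IsCofiltered I] {ι : Type*} [Finite ι] (i : I)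
    (P : ι → ∀ k : I, (k ⟶ i) → Prop)
    (hP : ∀ j k k' (φ : k ⟶ i) (ψ : k' ⟶ k), P j k φ → P j k' (ψ ≫ φ))
    (h : ∀ j, ∃ (k : I) (φ : k ⟶ i), P j k φ) : ∃ (k : I) (φ : k ⟶ i), ∀ j, P j k φ := by
  classical
  have := Fintype.ofFinite ι
  have key : ∀ s : Finset ι, ∃ (k : I) (φ : k ⟶ i), ∀ j ∈ s, P j k φ := by
    intro s
    induction s using Finset.induction_on with
    | empty => exact ⟨i, 𝟙 i, by simp⟩
    | insert j s _ ih =>
      obtain ⟨k, φ, hφ⟩ := ih
      obtain ⟨k', φ', hφ'⟩ := h j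
      obtain ⟨m, a, b, hab⟩ := IsCofiltered.cospan φ φ'
      refine ⟨m, a ≫ φ, fun l hl => ?_⟩
      rcases Finset.mem_insert.1 hl with rfl | hl
      · rw [hab]
        exact hP _ _ _ _ _ hφ'
      · exact hP _ _ _ _ _ (hφ l hl)
  obtain ⟨k, φ, hφ⟩ := key Finset.univ
  exact ⟨k, φ, fun j => hφ j (Finset.mem_univ j)⟩

theorem exists_common' [IsCofiltered I] {ι : Type*} [Finite ι]
    (P : ι → I → Prop) (hP : ∀ j k k' (_ : k' ⟶ k), P j k → P j k')
    (h : ∀ j, ∃ (k : I), P j k) : ∃ (k : I), ∀ j, P j k := by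
  classical
  have := Fintype.ofFinite ι
  have key : ∀ s : Finset ι, ∃ (k : I), ∀ j ∈ s, P j k := by
    intro s
    induction s using Finset.induction_on with
    | empty =>
      obtain ⟨i⟩ := IsCofiltered.nonempty (C := I)
      exact ⟨i, by simp⟩
    | insert j s _ ih =>
      obtain ⟨k, hφ⟩ := ih
      obtain ⟨k', hφ'⟩ := h j
      obtain ⟨m, a, b, -⟩ := IsCofilteredOrEmpty.cone_objs k k'
      refine ⟨m, fun l hl => ?_⟩
      rcases Finset.mem_insert.1 hl with rfl | hl
      · exact hP _ _ _ b hφ'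
      · exact hP _ _ _ a (hφ l hl)
  obtain ⟨k, hφ⟩ := key Finset.univ
  exact ⟨k, fun j => hφ j (Finset.mem_univ j)⟩

attribute [local simp] pullback.lift_fst pullback.lift_snd pullback.lift_fst_assoc pullback.lift_snd_assoc

variable [HasPullbacks C] {D : I ⥤ C} {S T : C} (p : ∀ i, D.obj i ⟶ T)
  (hp : ∀ i j (φ : i ⟶ j), D.map φ ≫ p j = p i) (f : S ⟶ T)

/-- Base change of a diagram over `T` along `S ⟶ T`. -/
noncomputable def bcD : I ⥤ C where
  obj i := pullback (p i) f
  map {i j} φ := pullback.lift (pullback.fst _ _ ≫ D.map φ) (pullback.snd _ _) (by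
    rw [Category.assoc, hp, pullback.condition])
  map_id i := by
    apply pullback.hom_ext <;> simp
  map_comp φ ψ := by
    apply pullback.hom_ext <;> simp

/-- The projection to the original diagram. -/
noncomputable def bcα : bcD p hp f ⟶ D where
  app i := pullback.fst _ _
  naturality i j φ := by simp [bcD]

/-- The projection to `S`. -/
noncomputable def bcq (i : I) : (bcD p hp f).obj i ⟶ S := pullback.snd _ _

theorem bcq_w (i j : I) (φ : i ⟶ j) : (bcD p hp f).map φ ≫ bcq p hp f j = bcq p hp f i := by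
  simp [bcD, bcq]

theorem bc_condition (i : I) : (bcα p hp f).app i ≫ p i = bcq p hp f i ≫ f := pullback.condition

variable {c : Cone D} (pT : c.pt ⟶ T) (hT : ∀ i, c.π.app i ≫ p i = pT)

/-- Base change of a cone. -/
noncomputable def bcCone : Cone (bcD p hp f) where
  pt := pullback pT f
  π :=
    { app i := pullback.lift (pullback.fst _ _ ≫ c.π.app i) (pullback.snd _ _) (by
        rw [Category.assoc, hT, pullback.condition])
      naturality i j φ := by
        apply pullback.hom_ext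
        · simp [bcD]
        · simp [bcD] }

/-- The projection from the base change of a cone to the cone. -/
noncomputable def bct : (bcCone p hp f pT hT).pt ⟶ c.pt := pullback.fst _ _

theorem bct_w : bct p hp f pT hT ≫ pT = pullback.snd _ _ ≫ f := pullback.condition

theorem bcq_π (i : I) : (bcCone p hp f pT hT).π.app i ≫ bcq p hp f i = pullback.snd pT f :=
  pullback.lift_snd _ _ _

theorem bc_w (i : I) : (bcCone p hp f pT hT).π.app i ≫ (bcα p hp f).app i =
    bct p hp f pT hT ≫ c.π.app i :=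
  pullback.lift_fst _ _ _

theorem isPullback_bc (i : I) : IsPullback ((bcCone p hp f pT hT).π.app i) (bct p hp f pT hT)
    ((bcα p hp f).app i) (c.π.app i) := by
  have h1 : IsPullback (bcq p hp f i) ((bcα p hp f).app i) f (p i) :=
    (IsPullback.of_hasPullback (p i) f).flip
  refine IsPullback.of_right ?_ (bc_w p hp f pT hT i) h1
  rw [bcq_π, hT]
  exact (IsPullback.of_hasPullback pT f).flip

section Double

variable {S' : C} (f' : S' ⟶ T)

include hp in
theorem hp₂ (i j : I) (φ : i ⟶ j) : (bcD p hp f).map φ ≫ (bcq p hp f j ≫ f) = bcq p hp f i ≫ f := by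
  rw [← Category.assoc, bcq_w]

theorem hT₂ (i : I) : (bcCone p hp f pT hT).π.app i ≫ (bcq p hp f i ≫ f) =
    bct p hp f pT hT ≫ pT := by
  rw [← Category.assoc, bcq_π]
  exact (bct_w p hp f pT hT).symm

/-- The second projection from the double base change. -/
noncomputable def dblv (i : I) :
    (bcD (fun i => bcq p hp f i ≫ f) (hp₂ p hp f) f').obj i ⟶ (bcD p hp f').obj i :=
  pullback.lift ((bcα (fun i => bcq p hp f i ≫ f) (hp₂ p hp f) f').app i ≫ (bcα p hp f).app i)
    (bcq (fun i => bcq p hp f i ≫ f) (hp₂ p hp f) f' i) (by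
      rw [Category.assoc, bc_condition]
      exact bc_condition (fun i => bcq p hp f i ≫ f) (hp₂ p hp f) f' i)

theorem dblv_α (i : I) : dblv p hp f f' i ≫ (bcα p hp f').app i =
    (bcα (fun i => bcq p hp f i ≫ f) (hp₂ p hp f) f').app i ≫ (bcα p hp f).app i :=
  pullback.lift_fst _ _ _

theorem dblv_q (i : I) : dblv p hp f f' i ≫ bcq p hp f' i =
    bcq (fun i => bcq p hp f i ≫ f) (hp₂ p hp f) f' i :=
  pullback.lift_snd _ _ _

theorem dblv_nat (i j : I) (φ : i ⟶ j) :
    (bcD (fun i => bcq p hp f i ≫ f) (hp₂ p hp f) f').map φ ≫ dblv p hp f f' j =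
      dblv p hp f f' i ≫ (bcD p hp f').map φ := by
  apply pullback.hom_ext
  · change (_ ≫ dblv p hp f f' j) ≫ (bcα p hp f').app j = (_ ≫ _) ≫ (bcα p hp f').app j
    rw [Category.assoc, Category.assoc, dblv_α, (bcα p hp f').naturality, ← Category.assoc,
      ← Category.assoc, dblv_α, (bcα _ _ f').naturality, Category.assoc, Category.assoc,
      (bcα p hp f).naturality]
  · change (_ ≫ dblv p hp f f' j) ≫ bcq p hp f' j = (_ ≫ _) ≫ bcq p hp f' j
    rw [Category.assoc, Category.assoc, dblv_q, bcq_w, bcq_w, dblv_q]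

/-- The second projection from the apex of the double base change. -/
noncomputable def dblw : (bcCone (fun i => bcq p hp f i ≫ f) (hp₂ p hp f) f'
    (bct p hp f pT hT ≫ pT) (hT₂ p hp f pT hT)).pt ⟶ (bcCone p hp f' pT hT).pt :=
  pullback.lift (bct (fun i => bcq p hp f i ≫ f) (hp₂ p hp f) f'
    (bct p hp f pT hT ≫ pT) (hT₂ p hp f pT hT) ≫ bct p hp f pT hT) (pullback.snd _ _) (by
      rw [Category.assoc]
      exact pullback.condition)

theorem dblw_t : dblw p hp f pT hT f' ≫ bct p hp f' pT hT = bct (fun i => bcq p hp f i ≫ f)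
    (hp₂ p hp f) f' (bct p hp f pT hT ≫ pT) (hT₂ p hp f pT hT) ≫ bct p hp f pT hT :=
  pullback.lift_fst _ _ _

theorem dblw_snd : dblw p hp f pT hT f' ≫ pullback.snd pT f' =
    pullback.snd (bct p hp f pT hT ≫ pT) f' :=
  pullback.lift_snd _ _ _

theorem dblv_π (i : I) : (bcCone (fun i => bcq p hp f i ≫ f) (hp₂ p hp f) f'
    (bct p hp f pT hT ≫ pT) (hT₂ p hp f pT hT)).π.app i ≫ dblv p hp f f' i =
      dblw p hp f pT hT f' ≫ (bcCone p hp f' pT hT).π.app i := by
  apply pullback.hom_ext
  · change (_ ≫ dblv p hp f f' i) ≫ (bcα p hp f').app i = (_ ≫ _) ≫ (bcα p hp f').app i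
    rw [Category.assoc, Category.assoc, dblv_α, bc_w, ← Category.assoc, ← Category.assoc, dblw_t,
      bc_w, Category.assoc, Category.assoc, bc_w]
  · change (_ ≫ dblv p hp f f' i) ≫ bcq p hp f' i = (_ ≫ _) ≫ bcq p hp f' i
    rw [Category.assoc, Category.assoc, dblv_q, bcq_π, bcq_π, dblw_snd]

theorem dbl_lift (i : I) {Z : C} (g : Z ⟶ (bcD p hp f).obj i) (g' : Z ⟶ (bcD p hp f').obj i)
    (h : g ≫ (bcα p hp f).app i = g' ≫ (bcα p hp f').app i) :
    ∃ z : Z ⟶ (bcD (fun i => bcq p hp f i ≫ f) (hp₂ p hp f) f').obj i,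
      z ≫ (bcα (fun i => bcq p hp f i ≫ f) (hp₂ p hp f) f').app i = g ∧ z ≫ dblv p hp f f' i = g' := by
  have e : g ≫ (bcq p hp f i ≫ f) = (g' ≫ bcq p hp f' i) ≫ f' := by
    rw [← bc_condition, ← Category.assoc, h, Category.assoc, bc_condition, Category.assoc]
  obtain ⟨z, h1, h2⟩ : ∃ z : Z ⟶ (bcD (fun i => bcq p hp f i ≫ f) (hp₂ p hp f) f').obj i,
      z ≫ (bcα (fun i => bcq p hp f i ≫ f) (hp₂ p hp f) f').app i = g ∧
      z ≫ bcq (fun i => bcq p hp f i ≫ f) (hp₂ p hp f) f' i = g' ≫ bcq p hp f' i :=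
    ⟨pullback.lift g (g' ≫ bcq p hp f' i) e, pullback.lift_fst _ _ _, pullback.lift_snd _ _ _⟩
  refine ⟨z, h1, ?_⟩
  apply pullback.hom_ext
  · change (_ ≫ dblv p hp f f' i) ≫ (bcα p hp f').app i = g' ≫ (bcα p hp f').app i
    rw [Category.assoc, dblv_α, ← Category.assoc, h1, h]
  · change (_ ≫ dblv p hp f f' i) ≫ bcq p hp f' i = g' ≫ bcq p hp f' i
    rw [Category.assoc, dblv_q, h2]

end Double

/-- Restriction of sections composes. -/
theorem res_res {C : Type u₁} [Category.{v₁} C] (F : Cᵒᵖ ⥤ Type w) {A B E : C} (f : A ⟶ B) (g : B ⟶ E)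
    (a : F.obj (op E)) : F.map f.op (F.map g.op a) = F.map (f ≫ g).op a := by
  rw [op_comp, F.map_comp]
  rfl

end General

section Sheaf

variable {X : Scheme.{u}}

theorem isAffine_pullback {Y S T : X.ProEt} (p : Y ⟶ T) (f : S ⟶ T) [IsAffine Y.left]
    [IsAffine S.left] [IsAffine T.left] : IsAffine (pullback p f).left := by
  have h := (IsPullback.of_hasPullback p f).map (fP X)
  have h1 : IsAffine (pullback ((fP X).map p) ((fP X).map f)) := by
    have : IsAffine ((fP X).obj Y) := inferInstanceAs (IsAffine Y.left)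
    have : IsAffine ((fP X).obj S) := inferInstanceAs (IsAffine S.left)
    have : IsAffine ((fP X).obj T) := inferInstanceAs (IsAffine T.left)
    infer_instance
  exact IsAffine.of_isIso h.isoPullback.hom

/-- Cofiltered limits of affine objects of the small pro-etale site. -/
structure Adm {I : Type u} [SmallCategory I] (D : I ⥤ X.ProEt) (c : Cone D) : Prop where
  lim : Nonempty (IsLimit ((fP X).mapCone c))
  aff : ∀ i, IsAffine (D.obj i).left

theorem Adm.bc {I : Type u} [SmallCategory I] [IsCofiltered I] {D : I ⥤ X.ProEt} {c : Cone D}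
    (h : Adm D c) {S T : X.ProEt} [IsAffine S.left] [IsAffine T.left] (p : ∀ i, D.obj i ⟶ T)
    (hp : ∀ i j (φ : i ⟶ j), D.map φ ≫ p j = p i) (f : S ⟶ T) (pT : c.pt ⟶ T)
    (hT : ∀ i, c.π.app i ≫ p i = pT) : Adm (bcD p hp f) (bcCone p hp f pT hT) where
  lim := by
    have := IsCofiltered.isConnected I
    exact isLimit_of_isPullback (Functor.whiskerRight (bcα p hp f) (fP X)) _ h.lim.some
      ((fP X).mapCone (bcCone p hp f pT hT)) ((fP X).map (bct p hp f pT hT))
      (fun i => (isPullback_bc p hp f pT hT i).map (fP X))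
  aff i := by
    have := h.aff i
    exact isAffine_pullback (p i) f

/-- Sections of `F` commute with cofiltered limits of affine objects over `S`. -/
def Cts (F : X.ProEtᵒᵖ ⥤ Type w) (S : X.ProEt) : Prop :=
  ∀ (I : Type u) [SmallCategory I] [IsCofiltered I] (D : I ⥤ X.ProEt) (c : Cone D) (_ : Adm D c)
    (p : ∀ i, D.obj i ⟶ S) (_ : ∀ i j (φ : i ⟶ j), D.map φ ≫ p j = p i),
    (∀ i (a b : F.obj (op (D.obj i))), F.map (c.π.app i).op a = F.map (c.π.app i).op b →
      ∃ (j : I) (φ : j ⟶ i), F.map (D.map φ).op a = F.map (D.map φ).op b) ∧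
    ∀ a : F.obj (op c.pt), ∃ (i : I) (b : F.obj (op (D.obj i))), F.map (c.π.app i).op b = a

/-- The base change of a covering family. -/
theorem cover_bc {ι : Type*} {T : X.ProEt} {S : ι → X.ProEt} {f : ∀ j, S j ⟶ T}
    (hf : Sieve.ofArrows S f ∈ Scheme.ProEt.topology X T) {Y : X.ProEt} (g : Y ⟶ T) :
    Sieve.ofArrows (fun j => pullback g (f j)) (fun j => pullback.fst g (f j)) ∈
      Scheme.ProEt.topology X Y := by
  refine (Scheme.ProEt.topology X).superset_covering ?_ ((Scheme.ProEt.topology X).pullback_stable g hf)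
  intro Z h hh
  obtain ⟨_, k, _, ⟨j⟩, hk⟩ := hh
  exact ⟨_, pullback.lift h k hk.symm, _, ⟨j⟩, pullback.lift_fst _ _ _⟩

variable {F : X.ProEtᵒᵖ ⥤ Type w} (hF : Presieve.IsSheaf (Scheme.ProEt.topology X) F)

include hF in
theorem ext_of_cover {ι : Type*} {Y : X.ProEt} {V : ι → X.ProEt} {g : ∀ j, V j ⟶ Y}
    (hg : Sieve.ofArrows V g ∈ Scheme.ProEt.topology X Y) {a b : F.obj (op Y)}
    (h : ∀ j, F.map (g j).op a = F.map (g j).op b) : a = b := by
  refine (hF.isSeparated _ hg).ext ?_
  rintro Z k ⟨_, l, _, ⟨j⟩, rfl⟩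
  rw [← res_res, ← res_res, h]

include hF in
/-- Continuity is local. -/
theorem cts_of_cover {ι : Type*} [Finite ι] {T : X.ProEt} [IsAffine T.left] (S : ι → X.ProEt)
    [∀ j, IsAffine (S j).left] (f : ∀ j, S j ⟶ T)
    (hf : Sieve.ofArrows S f ∈ Scheme.ProEt.topology X T) (h : ∀ j, Cts F (S j)) : Cts F T := by
  intro I _ _ D c hc p hp
  obtain ⟨i₀⟩ : Nonempty I := IsCofiltered.nonempty
  have hT' : ∃ pT : c.pt ⟶ T, ∀ i, c.π.app i ≫ p i = pT := by
    refine ⟨c.π.app i₀ ≫ p i₀, fun i => ?_⟩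
    obtain ⟨k, a, b, -⟩ := IsCofilteredOrEmpty.cone_objs i₀ i
    rw [← c.w a, ← c.w b, Category.assoc, Category.assoc, hp, hp]
  obtain ⟨pT, hT⟩ := hT'
  have hb : ∀ j, Adm (bcD p hp (f j)) (bcCone p hp (f j) pT hT) := fun j => hc.bc p hp (f j) pT hT
  refine ⟨?_, ?_⟩
  · intro i a b hab
    obtain ⟨k, φ, hk⟩ := exists_common i (fun j k (φ : k ⟶ i) =>
      F.map ((bcα p hp (f j)).app k).op (F.map (D.map φ).op a) =
        F.map ((bcα p hp (f j)).app k).op (F.map (D.map φ).op b)) (by
        intro j k k' φ ψ h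
        rw [res_res, res_res] at h ⊢
        rw [D.map_comp, ← Category.assoc, ← (bcα p hp (f j)).naturality ψ, Category.assoc,
          ← res_res, h, res_res]) (by
        intro j
        obtain ⟨k, φ, hk⟩ := (h j I _ _ (hb j) (bcq p hp (f j)) (bcq_w p hp (f j))).1 i
          (F.map ((bcα p hp (f j)).app i).op a) (F.map ((bcα p hp (f j)).app i).op b) (by
            rw [res_res, res_res, bc_w, ← res_res, hab, res_res])
        refine ⟨k, φ, ?_⟩
        rw [res_res, res_res] at hk ⊢
        rw [(bcα p hp (f j)).naturality φ] at hk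
        exact hk)
    exact ⟨k, φ, ext_of_cover hF (cover_bc hf (p k)) hk⟩
  · intro a
    obtain ⟨i, hi⟩ := exists_common' (fun j i => ∃ b : F.obj (op ((bcD p hp (f j)).obj i)),
      F.map ((bcCone p hp (f j) pT hT).π.app i).op b = F.map (bct p hp (f j) pT hT).op a) (by
        rintro j k k' φ ⟨b, hb⟩
        refine ⟨F.map ((bcD p hp (f j)).map φ).op b, ?_⟩
        rw [res_res, (bcCone p hp (f j) pT hT).w, hb]) (by
        intro j
        exact (h j I _ _ (hb j) (bcq p hp (f j)) (bcq_w p hp (f j))).2 _)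
    choose b hb' using hi
    obtain ⟨k, φ, hk⟩ := exists_common i (fun (jl : ι × ι) k (φ : k ⟶ i) =>
      F.map ((bcα (fun i => bcq p hp (f jl.1) i ≫ f jl.1) (hp₂ p hp (f jl.1)) (f jl.2)).app k).op
        (F.map ((bcD p hp (f jl.1)).map φ).op (b jl.1)) =
      F.map (dblv p hp (f jl.1) (f jl.2) k).op (F.map ((bcD p hp (f jl.2)).map φ).op (b jl.2))) (by
        rintro ⟨j, l⟩ k k' φ ψ h
        dsimp only at h ⊢
        rw [res_res, res_res] at h ⊢
        rw [Functor.map_comp, Functor.map_comp, ← Category.assoc, ← Category.assoc, ← dblv_nat,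
          ← (bcα _ _ (f l)).naturality ψ, Category.assoc, Category.assoc, ← res_res, h, res_res]) (by
        rintro ⟨j, l⟩
        dsimp only
        have hjl := (hb j).bc (fun i => bcq p hp (f j) i ≫ f j) (hp₂ p hp (f j)) (f l)
          (bct p hp (f j) pT hT ≫ pT) (hT₂ p hp (f j) pT hT)
        obtain ⟨k, φ, hk⟩ := (h j I _ _ hjl (fun i =>
          (bcα (fun i => bcq p hp (f j) i ≫ f j) (hp₂ p hp (f j)) (f l)).app i ≫ bcq p hp (f j) i) (by
            intro i i' φ
            rw [← Category.assoc, (bcα _ _ (f l)).naturality φ, Category.assoc, bcq_w])).1 i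
          (F.map ((bcα (fun i => bcq p hp (f j) i ≫ f j) (hp₂ p hp (f j)) (f l)).app i).op (b j))
          (F.map (dblv p hp (f j) (f l) i).op (b l)) (by
            rw [res_res, res_res, bc_w, dblv_π, ← res_res, hb', ← res_res, hb', res_res, res_res,
              dblw_t])
        refine ⟨k, φ, ?_⟩
        rw [res_res, res_res, (bcα _ _ (f l)).naturality φ, dblv_nat] at hk
        rw [res_res, res_res]
        exact hk)
    have hs := hF _ (cover_bc hf (p k))
    rw [Sieve.ofArrows, ← Presieve.isSheafFor_iff_generate, Presieve.isSheafFor_arrows_iff] at hs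
    have key : ∀ (j l : ι) (Z : X.ProEt) (g : Z ⟶ (bcD p hp (f j)).obj k)
        (g' : Z ⟶ (bcD p hp (f l)).obj k),
        g ≫ (bcα p hp (f j)).app k = g' ≫ (bcα p hp (f l)).app k →
        F.map g.op (F.map ((bcD p hp (f j)).map φ).op (b j)) =
          F.map g'.op (F.map ((bcD p hp (f l)).map φ).op (b l)) := by
      intro j l Z g g' hgg
      obtain ⟨z, rfl, rfl⟩ := dbl_lift p hp (f j) (f l) k g g' hgg
      have := hk (j, l)
      dsimp only at this
      rw [← res_res, this, res_res]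
    obtain ⟨s, hs, -⟩ := hs (fun j => F.map ((bcD p hp (f j)).map φ).op (b j))
      (fun j l Z g g' hgg => key j l Z g g' hgg)
    refine ⟨k, s, ext_of_cover hF (cover_bc hf pT) fun j => ?_⟩
    have e1 : F.map (bct p hp (f j) pT hT).op (F.map (c.π.app k).op s) =
        F.map (bct p hp (f j) pT hT).op a := by
      rw [res_res, ← bc_w, ← res_res]
      have e2 : F.map ((bcα p hp (f j)).app k).op s = F.map ((bcD p hp (f j)).map φ).op (b j) := hs j
      rw [e2, res_res, (bcCone p hp (f j) pT hT).w, hb']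
    exact e1

end Sheaf

end Groth.Agent.Etrest.ProLim
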