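import Mathlib.LinearAlgebra.DirectSum.TensorProduct

set_option autoImplicit false
set_option linter.unusedSectionVars false

open TensorProduct DirectSum

namespace Groth.Agent.Etrest.SumAlg

section

universe u₁ u₂ u₃

variable {ι : Type u₁} [DecidableEq ι] {P : Type u₂} {A : ι → Type u₃} [AddCommGroup P]
  [∀ i, AddCommGroup (A i)] (g : ∀ i, P →+ A i) (hfin : ∀ a, {i | g i a ≠ 0}.Finite)

/-- A family of homomorphisms with pointwise finite support. -/
noncomputable def toSum : P →+ ⨁ i, A i where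
  toFun a := DFinsupp.mk (hfin a).toFinset (fun i => g i a)
  map_zero' := by
    ext i
    rw [DFinsupp.mk_apply]
    split_ifs <;> simp
  map_add' a b := by
    ext i
    rw [DFinsupp.add_apply, DFinsupp.mk_apply, DFinsupp.mk_apply, DFinsupp.mk_apply]
    have h : ∀ c, (if h : i ∈ (hfin c).toFinset then g i c else 0) = g i c := by
      intro c
      split_ifs with hc
      · rfl
      · rw [Set.Finite.mem_toFinset, Set.mem_ofPred_eq, not_not] at hc
        exact hc.symm
    rw [h, h, h, map_add]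

theorem toSum_apply (a : P) (i : ι) : toSum g hfin a i = g i a := by
  change (DFinsupp.mk (hfin a).toFinset (fun i => g i a) : ⨁ i, A i) i = g i a
  refine (DFinsupp.mk_apply).trans ?_
  split_ifs with hc
  · rfl
  · rw [Set.Finite.mem_toFinset, Set.mem_ofPred_eq, not_not] at hc
    exact hc.symm

theorem toSum_bijective (hinj : ∀ a, (∀ i, g i a = 0) → a = 0)
    (hsurj : ∀ i b, ∃ a, g i a = b ∧ ∀ j, j ≠ i → g j a = 0) :
    Function.Bijective (toSum g hfin) := by
  constructor
  · rw [injective_iff_map_eq_zero]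
    intro a ha
    apply hinj
    intro i
    rw [← toSum_apply g hfin a i, ha]
    rfl
  · intro x
    induction x using DirectSum.induction_on with
    | zero => exact ⟨0, map_zero _⟩
    | of i b =>
      obtain ⟨a, ha, ha'⟩ := hsurj i b
      refine ⟨a, ?_⟩
      ext j
      rw [toSum_apply]
      by_cases hj : j = i
      · subst hj
        rw [DirectSum.of_eq_same]
        exact ha
      · rw [ha' j hj, DirectSum.of_eq_of_ne _ _ _ hj]
    | add x y hx hy =>
      obtain ⟨a, rfl⟩ := hx
      obtain ⟨b, rfl⟩ := hy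
      exact ⟨a + b, map_add _ _ _⟩

end

section

universe u₁ u₂

variable {ι : Type u₁} [DecidableEq ι] {P P' N : Type u₂} {A B : ι → Type u₂} [AddCommGroup P]
  [AddCommGroup P'] [AddCommGroup N]
  [∀ i, AddCommGroup (A i)] [∀ i, AddCommGroup (B i)] (g : ∀ i, P →+ A i) (g' : ∀ i, P' →+ B i)
  (hfin : ∀ a, {i | g i a ≠ 0}.Finite) (hinj : ∀ a, (∀ i, g i a = 0) → a = 0)
  (hsurj : ∀ i b, ∃ a, g i a = b ∧ ∀ j, j ≠ i → g j a = 0)
  (hfin' : ∀ a, {i | g' i a ≠ 0}.Finite) (hinj' : ∀ a, (∀ i, g' i a = 0) → a = 0)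
  (hsurj' : ∀ i b, ∃ a, g' i a = b ∧ ∀ j, j ≠ i → g' j a = 0)
  (θ : ∀ i, A i ⊗[ℤ] N →+ B i) (hθ : ∀ i, Function.Bijective (θ i))
  (β : P ⊗[ℤ] N →+ P')
  (hβ : ∀ i z, g' i (β z) = θ i (TensorProduct.map (g i).toIntLinearMap LinearMap.id z))

include hfin hinj hsurj hfin' hinj' hsurj' hθ hβ in
theorem bijective_of_components : Function.Bijective β := by
  let e : P ≃ₗ[ℤ] ⨁ i, A i :=
    LinearEquiv.ofBijective (toSum g hfin).toIntLinearMap (toSum_bijective g hfin hinj hsurj)
  let E : P ⊗[ℤ] N ≃ₗ[ℤ] ⨁ i, (A i ⊗[ℤ] N) :=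
    (TensorProduct.congr e (LinearEquiv.refl ℤ N)).trans (TensorProduct.directSumLeft ℤ ℤ A N)
  have hE : ∀ z i, E z i = TensorProduct.map (g i).toIntLinearMap LinearMap.id z := by
    intro z i
    induction z with
    | zero => simp
    | add a b ha hb => rw [map_add, map_add, DirectSum.add_apply, ha, hb]
    | tmul a b =>
      change TensorProduct.directSumLeft ℤ ℤ A N ((toSum g hfin a) ⊗ₜ b) i = _
      rw [TensorProduct.directSumLeft_tmul, toSum_apply]
      rfl
  let T : (⨁ i, (A i ⊗[ℤ] N)) →+ ⨁ i, B i := DirectSum.map θ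
  have hT : Function.Bijective T :=
    ⟨(DirectSum.map_injective θ).2 fun i => (hθ i).1, (DirectSum.map_surjective θ).2 fun i => (hθ i).2⟩
  have h : toSum g' hfin' ∘ β = T ∘ E := by
    funext z
    ext i
    change toSum g' hfin' (β z) i = T (E z) i
    rw [toSum_apply, hβ, ← hE, DirectSum.map_apply]
  have h2 : Function.Bijective (toSum g' hfin' ∘ β) := by
    rw [h]
    exact hT.comp E.bijective
  exact (Function.Bijective.of_comp_iff' (toSum_bijective g' hfin' hinj' hsurj') _).1 h2

end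

end Groth.Agent.Etrest.SumAlg
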