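import Groth.Prelude.Def_EtShriek2
import Groth.Prelude.Def_EtTens2
import Groth.Agent.Etrest.EtTensStalk
import Groth.Agent.Etrest.EtStalkW
import Groth.Agent.Etbase.StalkPull
import Groth.Agent.Sga4B.PullGerm
import Groth.Agent.Etrest.SumAlg

set_option autoImplicit false
set_option linter.unusedSectionVars false
universe w w' v₁ u₁ u

open CategoryTheory CategoryTheory.Limits AlgebraicGeometry Opposite TensorProduct DirectSum

namespace Groth.Agent.Etrest.ProjForm

open Groth.Agent.Etbase.PointBasics Groth.Agent.Etbase.StalkPull Groth.Agent.Etrest.EtTensStalk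
attribute [local instance] preservesFilteredColimitsOfSize_forget

variable {X Y : Scheme.{u}} (f : X ⟶ Y)

/-! ### The canonical map on presheaves -/

variable (F : EtCoh.Ab X) (G : EtCoh.Ab Y)

/-- `F ⊗ f⁻¹ G` -/
noncomputable abbrev FG : EtCoh.Ab X := (EtTens.tensorBi.obj F).obj ((EtCoh.pull f).obj G)

/-- `s ⊗ f⁻¹ t` for `s ∈ F(X_V)` and `t ∈ G(V)`. -/
noncomputable def tmulSect (V : Y.Etale) :
    (F.obj.obj (op ((EtCoh.bc f).obj V)) : Type (u + 1)) ⊗[ℤ] (G.obj.obj (op V) : Type (u + 1)) →+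
      ((FG f F G).obj.obj (op ((EtCoh.bc f).obj V)) : Type (u + 1)) :=
  ((toSheafify X.smallEtaleTopology (EtTens.tensorObj F.obj ((EtCoh.pull f).obj G).obj)).app
      (op ((EtCoh.bc f).obj V))).hom.comp
    (TensorProduct.map LinearMap.id
      (((EtCoh.pullPushAdj f).unit.app G).hom.app (op V)).hom.toIntLinearMap).toAddMonoidHom

theorem tmulSect_tmul (V : Y.Etale) (s : F.obj.obj (op ((EtCoh.bc f).obj V)))
    (t : G.obj.obj (op V)) :
    tmulSect f F G V (s ⊗ₜ t) =
      (toSheafify X.smallEtaleTopology (EtTens.tensorObj F.obj ((EtCoh.pull f).obj G).obj)).app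
      (op ((EtCoh.bc f).obj V)) (s ⊗ₜ ((EtCoh.pullPushAdj f).unit.app G).hom.app (op V) t) := rfl

theorem tmulSect_map {V V' : Y.Etale} (φ : V' ⟶ V) (s : F.obj.obj (op ((EtCoh.bc f).obj V)))
    (t : G.obj.obj (op V)) :
    (FG f F G).obj.map ((EtCoh.bc f).map φ).op (tmulSect f F G V (s ⊗ₜ t)) =
      tmulSect f F G V' (F.obj.map ((EtCoh.bc f).map φ).op s ⊗ₜ G.obj.map φ.op t) := by
  rw [tmulSect_tmul, tmulSect_tmul]
  have h1 := congr($((toSheafify X.smallEtaleTopology
    (EtTens.tensorObj F.obj ((EtCoh.pull f).obj G).obj)).naturality ((EtCoh.bc f).map φ).op)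
      (s ⊗ₜ ((EtCoh.pullPushAdj f).unit.app G).hom.app (op V) t))
  refine h1.symm.trans ?_
  have h2 := congr($(((EtCoh.pullPushAdj f).unit.app G).hom.naturality φ.op) t)
  change (toSheafify X.smallEtaleTopology (EtTens.tensorObj F.obj ((EtCoh.pull f).obj G).obj)).app
      (op ((EtCoh.bc f).obj V')) (F.obj.map ((EtCoh.bc f).map φ).op s ⊗ₜ
        ((EtCoh.pull f).obj G).obj.map ((EtCoh.bc f).map φ).op
          (((EtCoh.pullPushAdj f).unit.app G).hom.app (op V) t)) = _
  congr 2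
  exact h2.symm

/-- `supp (s ⊗ t) ⊆ supp s` -/
theorem sectSupp_toSheafify_tmul (U : X.Etale) (H : EtCoh.Ab X) (s : F.obj.obj (op U))
    (t : H.obj.obj (op U)) :
    EtShriek.sectSupp ((EtTens.tensorBi.obj F).obj H) U
      ((toSheafify X.smallEtaleTopology (EtTens.tensorObj F.obj H.obj)).app (op U) (s ⊗ₜ t)) ⊆
      EtShriek.sectSupp F U s := by
  intro x hx W g hw hs
  apply hx W g hw
  have h1 := congr($((toSheafify X.smallEtaleTopology
    (EtTens.tensorObj F.obj H.obj)).naturality g.op) (s ⊗ₜ t))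
  refine h1.symm.trans ?_
  change (toSheafify X.smallEtaleTopology (EtTens.tensorObj F.obj H.obj)).app
      (op W) (F.obj.map g.op s ⊗ₜ H.obj.map g.op t) = 0
  rw [hs, TensorProduct.zero_tmul]
  exact map_zero ((toSheafify X.smallEtaleTopology (EtTens.tensorObj F.obj H.obj)).app (op W)).hom

theorem shriekPred_tmulSect (V : Y.Etale) (s : F.obj.obj (op ((EtCoh.bc f).obj V)))
    (t : G.obj.obj (op V)) (hs : EtShriek.ShriekPred f F V s) :
    EtShriek.ShriekPred f (FG f F G) V (tmulSect f F G V (s ⊗ₜ t)) := by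
  intro V' φ
  obtain ⟨Z, hZ, hp⟩ := hs V' φ
  refine ⟨Z, subset_trans ?_ hZ, hp⟩
  rw [tmulSect_map]
  exact sectSupp_toSheafify_tmul _ _ _ _ _

theorem tmulSect_mem (V : Y.Etale) (s : F.obj.obj (op ((EtCoh.bc f).obj V)))
    (t : G.obj.obj (op V)) (hs : s ∈ EtShriek.shriekSubgroup f F V) :
    tmulSect f F G V (s ⊗ₜ t) ∈ EtShriek.shriekSubgroup f (FG f F G) V := by
  induction hs using AddSubgroup.closure_induction with
  | mem s hs => exact AddSubgroup.subset_closure (shriekPred_tmulSect f F G V s t hs)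
  | zero => rw [TensorProduct.zero_tmul, map_zero]; exact zero_mem _
  | add a b _ _ ha hb => rw [TensorProduct.add_tmul, map_add]; exact add_mem ha hb
  | neg a _ ha => rw [TensorProduct.neg_tmul, map_neg]; exact neg_mem ha

/-- The canonical map `(f_! F)_pre ⊗ G → (f_! (F ⊗ f⁻¹ G))_pre`. -/
noncomputable def projPre : EtTens.tensorObj (EtShriek.lowerShriekPre f F) G.obj ⟶
    EtShriek.lowerShriekPre f (FG f F G) where
  app V := AddCommGrpCat.ofHom
    (((tmulSect f F G V.unop).comp (TensorProduct.map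
      (EtShriek.shriekSubgroup f F V.unop).subtype.toIntLinearMap LinearMap.id).toAddMonoidHom).codRestrict
      (EtShriek.shriekSubgroup f (FG f F G) V.unop) (fun z => by
        induction z with
        | zero => rw [map_zero]; exact zero_mem _
        | add a b ha hb => rw [map_add]; exact add_mem ha hb
        | tmul s t => exact tmulSect_mem f F G V.unop s.1 t s.2))
  naturality {V V'} φ := EtTens.hom_ext_tmul fun s t => by
    apply Subtype.ext
    exact (tmulSect_map f F G φ.unop s.1 t).symm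

theorem projPre_app_tmul (V : Y.Etale) (s : EtShriek.shriekSubgroup f F V) (t : G.obj.obj (op V)) :
    ((projPre f F G).app (op V) (s ⊗ₜ t)).1 = tmulSect f F G V (s.1 ⊗ₜ t) := rfl

/-! ### Stalks -/

section Stalks

variable {Ω : Type u} [Field Ω] [IsSepClosed Ω]

/-- The group of germs of a presheaf at a geometric point. -/
noncomputable abbrev st {S : Scheme.{u}} (ξ : Spec (CommRingCat.of Ω) ⟶ S)
    (P : S.Etaleᵒᵖ ⥤ AddCommGrpCat.{u + 1}) : AddCommGrpCat.{u + 1} :=
  stk.{u, u + 1} (Scheme.pointSmallEtale ξ) P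

/-- The germ map. -/
noncomputable abbrev gm {S : Scheme.{u}} (ξ : Spec (CommRingCat.of Ω) ⟶ S)
    (P : S.Etaleᵒᵖ ⥤ AddCommGrpCat.{u + 1}) {V : S.Etale}
    (v : (Scheme.pointSmallEtale ξ).fiber.obj V) : P.obj (op V) ⟶ st ξ P :=
  germ.{u, u + 1} (Scheme.pointSmallEtale ξ) P v

/-- The stalk of the tensor product. -/
noncomputable abbrev tst {S : Scheme.{u}} (ξ : Spec (CommRingCat.of Ω) ⟶ S)
    (P Q : S.Etaleᵒᵖ ⥤ AddCommGrpCat.{u + 1}) :
    (st ξ P : Type (u + 1)) ⊗[ℤ] (st ξ Q : Type (u + 1)) →+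
      (st ξ (EtTens.tensorObj P Q) : Type (u + 1)) :=
  tensorStk.{u, u + 1} (Scheme.pointSmallEtale ξ) P Q

theorem fiberEquiv_map (ξ : Spec (CommRingCat.of Ω) ⟶ X) {V V' : Y.Etale} (φ : V ⟶ V')
    (v : (Scheme.pointSmallEtale (ξ ≫ f)).fiber.obj V) :
    fiberEquiv f ξ V' ((Scheme.pointSmallEtale (ξ ≫ f)).fiber.map φ v) =
      (Scheme.pointSmallEtale ξ).fiber.map ((EtCoh.bc f).map φ) (fiberEquiv f ξ V v) :=
  congr($((fiberIso f ξ).hom.naturality φ) v)

/-- The germ at `ξ` of a section with proper support. -/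
noncomputable def gShr (ξ : Spec (CommRingCat.of Ω) ⟶ X) :
    st (ξ ≫ f) (EtShriek.lowerShriekPre f F) ⟶
      st ξ F.obj :=
  (Scheme.pointSmallEtale (ξ ≫ f)).presheafFiberDesc
    (fun V v => AddCommGrpCat.ofHom (EtShriek.shriekSubgroup f F V).subtype ≫
      (Scheme.pointSmallEtale ξ).toPresheafFiber ((EtCoh.bc f).obj V) (fiberEquiv f ξ V v) F.obj)
    (fun V V' φ v => by
      rw [fiberEquiv_map, ← GrothendieckTopology.Point.toPresheafFiber_w]
      rfl)

theorem gShr_germ (ξ : Spec (CommRingCat.of Ω) ⟶ X) (V : Y.Etale)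
    (v : (Scheme.pointSmallEtale (ξ ≫ f)).fiber.obj V) (s : EtShriek.shriekSubgroup f F V) :
    gShr f F ξ (gm (ξ ≫ f) (EtShriek.lowerShriekPre f F) v s) =
      gm ξ F.obj (fiberEquiv f ξ V v) s.1 := by
  have := (Scheme.pointSmallEtale (ξ ≫ f)).toPresheafFiber_presheafFiberDesc
    (P := EtShriek.lowerShriekPre f F) (T := st ξ F.obj)
    (fun V v => AddCommGrpCat.ofHom (EtShriek.shriekSubgroup f F V).subtype ≫
      (Scheme.pointSmallEtale ξ).toPresheafFiber ((EtCoh.bc f).obj V) (fiberEquiv f ξ V v) F.obj)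
    (fun V V' φ v => by
      rw [fiberEquiv_map, ← GrothendieckTopology.Point.toPresheafFiber_w]
      rfl) V v
  exact congr($this s)

/-- `F_ξ ⊗ G_{f ξ} → (F ⊗ f⁻¹ G)_ξ` -/
noncomputable def theta (ξ : Spec (CommRingCat.of Ω) ⟶ X) :
    (st ξ F.obj : Type (u + 1)) ⊗[ℤ]
      (st (ξ ≫ f) G.obj : Type (u + 1)) →+
      (st ξ (FG f F G).obj : Type (u + 1)) :=
  ((Scheme.pointSmallEtale ξ).presheafFiber.map
    (toSheafify X.smallEtaleTopology (EtTens.tensorObj F.obj ((EtCoh.pull f).obj G).obj))).hom.comp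
    ((tst ξ F.obj ((EtCoh.pull f).obj G).obj).comp
      (TensorProduct.map LinearMap.id
        ((stalkPullIso f ξ).hom.app G).hom.toIntLinearMap).toAddMonoidHom)

theorem theta_bijective (ξ : Spec (CommRingCat.of Ω) ⟶ X) : Function.Bijective (theta f F G ξ) := by
  have h1 := Groth.Agent.Etrest.EtStalkW.bijective_toSheafify ξ
    (EtTens.tensorObj F.obj ((EtCoh.pull f).obj G).obj)
  have h2 := (stkTensorEquiv (Scheme.pointSmallEtale ξ) F.obj ((EtCoh.pull f).obj G).obj).symm.bijective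
  have h3 := Groth.Agent.Sga4B.PullGerm.stalkPull_bijective f ξ G
  let e : (st (ξ ≫ f) G.obj : Type (u + 1)) ≃ₗ[ℤ]
      (st ξ ((EtCoh.pull f).obj G).obj : Type (u + 1)) :=
    LinearEquiv.ofBijective ((stalkPullIso f ξ).hom.app G).hom.toIntLinearMap h3
  have h4 := (TensorProduct.congr (LinearEquiv.refl ℤ
    (st ξ F.obj : Type (u + 1))) e).bijective
  exact (h1.comp h2).comp h4

theorem theta_tmul (ξ : Spec (CommRingCat.of Ω) ⟶ X) (a : (st ξ F.obj : Type (u + 1)))
    (b : (st (ξ ≫ f) G.obj : Type (u + 1))) :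
    theta f F G ξ (a ⊗ₜ b) = ((Scheme.pointSmallEtale ξ).presheafFiber.map
      (toSheafify X.smallEtaleTopology (EtTens.tensorObj F.obj ((EtCoh.pull f).obj G).obj))).hom
        (tst ξ F.obj ((EtCoh.pull f).obj G).obj (a ⊗ₜ ((stalkPullIso f ξ).hom.app G).hom b)) := rfl

theorem theta_germ (ξ : Spec (CommRingCat.of Ω) ⟶ X) (V : Y.Etale)
    (v : (Scheme.pointSmallEtale (ξ ≫ f)).fiber.obj V) (s : F.obj.obj (op ((EtCoh.bc f).obj V)))
    (t : G.obj.obj (op V)) :
    theta f F G ξ (gm ξ F.obj (fiberEquiv f ξ V v) s ⊗ₜ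
      gm (ξ ≫ f) G.obj v t) =
      gm ξ (FG f F G).obj (fiberEquiv f ξ V v)
        (tmulSect f F G V (s ⊗ₜ t)) := by
  have h1 := Groth.Agent.Sga4B.PullGerm.stalkPull_germ_apply f ξ G V v t
  have h2 := tensorStk_germ (Scheme.pointSmallEtale ξ) F.obj ((EtCoh.pull f).obj G).obj
    (fiberEquiv f ξ V v) s (((EtCoh.pullPushAdj f).unit.app G).hom.app (op V) t)
  have h3 := (Scheme.pointSmallEtale ξ).toPresheafFiber_naturality_apply
    (toSheafify X.smallEtaleTopology (EtTens.tensorObj F.obj ((EtCoh.pull f).obj G).obj)) _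
    (fiberEquiv f ξ V v) (s ⊗ₜ ((EtCoh.pullPushAdj f).unit.app G).hom.app (op V) t)
  rw [theta_tmul]
  refine Eq.trans ?_ h3
  refine congrArg ((Scheme.pointSmallEtale ξ).presheafFiber.map
    (toSheafify X.smallEtaleTopology (EtTens.tensorObj F.obj ((EtCoh.pull f).obj G).obj))).hom ?_
  refine Eq.trans ?_ h2
  exact congrArg (fun z : (st ξ ((EtCoh.pull f).obj G).obj : Type (u + 1)) =>
    tst ξ F.obj ((EtCoh.pull f).obj G).obj (gm ξ F.obj (fiberEquiv f ξ V v) s ⊗ₜ z)) h1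

/-- The stalk of the canonical map, in terms of germs at `ξ`. -/
theorem gShr_projPre (ξ : Spec (CommRingCat.of Ω) ⟶ X)
    (z : (st (ξ ≫ f) (EtShriek.lowerShriekPre f F) : Type (u + 1)) ⊗[ℤ]
      (st (ξ ≫ f) G.obj : Type (u + 1))) :
    gShr f (FG f F G) ξ ((Scheme.pointSmallEtale (ξ ≫ f)).presheafFiber.map (projPre f F G)
      (tst (ξ ≫ f) (EtShriek.lowerShriekPre f F) G.obj z)) =
    theta f F G ξ (TensorProduct.map (gShr f F ξ).hom.toIntLinearMap LinearMap.id z) := by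
  induction z with
  | zero => simp only [map_zero]
  | add a b ha hb => simp only [map_add, ha, hb]
  | tmul a b =>
    obtain ⟨V, v, s, t, rfl, rfl⟩ := exists_common (Scheme.pointSmallEtale (ξ ≫ f))
      (EtShriek.lowerShriekPre f F) G.obj a b
    rw [tensorStk_germ]
    have h1 := (Scheme.pointSmallEtale (ξ ≫ f)).toPresheafFiber_naturality_apply
      (projPre f F G) V v (s ⊗ₜ t)
    refine (congrArg (gShr f (FG f F G) ξ) h1).trans ?_
    refine (gShr_germ f (FG f F G) ξ V v _).trans ?_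
    refine (congrArg (gm ξ (FG f F G).obj (fiberEquiv f ξ V v)) (projPre_app_tmul f F G V s t)).trans ?_
    refine (theta_germ f F G ξ V v s.1 t).symm.trans ?_
    refine congrArg (theta f F G ξ) ?_
    change _ = gShr f F ξ (gm (ξ ≫ f) (EtShriek.lowerShriekPre f F) v s) ⊗ₜ
      gm (ξ ≫ f) G.obj v t
    exact (congrArg (fun z : (st ξ F.obj : Type (u + 1)) => z ⊗ₜ gm (ξ ≫ f) G.obj v t)
      (gShr_germ f F ξ V v s)).symm

/-- The germ at `ξ` of a section with proper support, with a free base point. -/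
noncomputable def gShrE (ξ : Spec (CommRingCat.of Ω) ⟶ X) :
    {η : Spec (CommRingCat.of Ω) ⟶ Y} → (ξ ≫ f = η) →
      ((st η (EtShriek.lowerShriekPre f F) : Type (u + 1)) →+ (st ξ F.obj : Type (u + 1)))
  | _, rfl => (gShr f F ξ).hom

/-- `F_ξ ⊗ G_η → (F ⊗ f⁻¹ G)_ξ`, with a free base point. -/
noncomputable def thetaE (ξ : Spec (CommRingCat.of Ω) ⟶ X) :
    {η : Spec (CommRingCat.of Ω) ⟶ Y} → (ξ ≫ f = η) →
      ((st ξ F.obj : Type (u + 1)) ⊗[ℤ] (st η G.obj : Type (u + 1)) →+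
      (st ξ (FG f F G).obj : Type (u + 1)))
  | _, rfl => theta f F G ξ

end Stalks

/-- The stalk formula for `f_!` (in terms of presheaf germs), for `f` separated locally
quasi-finite. -/
structure StalkFormula : Prop where
  inj : ∀ {Ω : Type u} [Field Ω] [IsAlgClosed Ω] (η : Spec (CommRingCat.of Ω) ⟶ Y) (F : EtCoh.Ab X)
    (a : (st η (EtShriek.lowerShriekPre f F) : Type (u + 1))),
    (∀ (ξ : {ξ : Spec (CommRingCat.of Ω) ⟶ X // ξ ≫ f = η}), gShrE f F ξ.1 ξ.2 a = 0) → a = 0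
  fin : ∀ {Ω : Type u} [Field Ω] [IsAlgClosed Ω] (η : Spec (CommRingCat.of Ω) ⟶ Y) (F : EtCoh.Ab X)
    (a : (st η (EtShriek.lowerShriekPre f F) : Type (u + 1))),
    {ξ : {ξ : Spec (CommRingCat.of Ω) ⟶ X // ξ ≫ f = η} | gShrE f F ξ.1 ξ.2 a ≠ 0}.Finite
  surj : ∀ {Ω : Type u} [Field Ω] [IsAlgClosed Ω] (η : Spec (CommRingCat.of Ω) ⟶ Y) (F : EtCoh.Ab X)
    (ξ : {ξ : Spec (CommRingCat.of Ω) ⟶ X // ξ ≫ f = η}) (b : (st ξ.1 F.obj : Type (u + 1))),
    ∃ a : (st η (EtShriek.lowerShriekPre f F) : Type (u + 1)), gShrE f F ξ.1 ξ.2 a = b ∧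
      ∀ ξ' : {ξ : Spec (CommRingCat.of Ω) ⟶ X // ξ ≫ f = η}, ξ' ≠ ξ → gShrE f F ξ'.1 ξ'.2 a = 0

variable {f}

theorem projPre_bijective (hf : StalkFormula f) {Ω : Type u} [Field Ω] [IsAlgClosed Ω]
    (η : Spec (CommRingCat.of Ω) ⟶ Y) :
    Function.Bijective ((Scheme.pointSmallEtale η).presheafFiber.map (projPre f F G)) := by
  classical
  let β : (st η (EtShriek.lowerShriekPre f F) : Type (u + 1)) ⊗[ℤ] (st η G.obj : Type (u + 1)) →+
      (st η (EtShriek.lowerShriekPre f (FG f F G)) : Type (u + 1)) :=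
    ((Scheme.pointSmallEtale η).presheafFiber.map (projPre f F G)).hom.comp
      (tst η (EtShriek.lowerShriekPre f F) G.obj)
  have key : Function.Bijective β := by
    refine Groth.Agent.Etrest.SumAlg.bijective_of_components
      (ι := {ξ : Spec (CommRingCat.of Ω) ⟶ X // ξ ≫ f = η})
      (P := (st η (EtShriek.lowerShriekPre f F) : Type (u + 1)))
      (P' := (st η (EtShriek.lowerShriekPre f (FG f F G)) : Type (u + 1)))
      (N := (st η G.obj : Type (u + 1)))
      (A := fun ξ => (st ξ.1 F.obj : Type (u + 1)))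
      (B := fun ξ => (st ξ.1 (FG f F G).obj : Type (u + 1)))
      (fun ξ => gShrE f F ξ.1 ξ.2) (fun ξ => gShrE f (FG f F G) ξ.1 ξ.2)
      (hf.fin η F) (hf.inj η F) (hf.surj η F) (hf.fin η _) (hf.inj η _) (hf.surj η _)
      (fun ξ => thetaE f F G ξ.1 ξ.2) ?_ β ?_
    · rintro ⟨ξ, rfl⟩
      exact theta_bijective f F G ξ
    · rintro ⟨ξ, rfl⟩ z
      exact gShr_projPre f F G ξ z
  have h2 := (stkTensorEquiv.{u, u + 1} (Scheme.pointSmallEtale η)
    (EtShriek.lowerShriekPre f F) G.obj).symm.bijective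
  exact (Function.Bijective.of_comp_iff _ h2).1 key

theorem bijective_id_germ {S : Scheme.{u}} (Q : S.Etaleᵒᵖ ⥤ AddCommGrpCat.{u + 1})
    {Ω : Type u} [Field Ω] [IsSepClosed Ω]
    (η : Spec (CommRingCat.of Ω) ⟶ S) :
    Function.Bijective ((Scheme.pointSmallEtale η).presheafFiber.map (𝟙 Q)) := by
  rw [CategoryTheory.Functor.map_id]
  exact Function.bijective_id

theorem bijective_toSheafify_tensor {S : Scheme.{u}} (P Q : S.Etaleᵒᵖ ⥤ AddCommGrpCat.{u + 1})
    {Ω : Type u} [Field Ω] [IsSepClosed Ω]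
    (η : Spec (CommRingCat.of Ω) ⟶ S) :
    Function.Bijective ((Scheme.pointSmallEtale η).presheafFiber.map
      (EtTens.tensorHom (toSheafify S.smallEtaleTopology P) (𝟙 Q))) :=
  bijective_tensorHom.{u, u + 1} (Scheme.pointSmallEtale η) (toSheafify S.smallEtaleTopology P)
    (𝟙 Q) (Groth.Agent.Etrest.EtStalkW.bijective_toSheafify η P) (bijective_id_germ Q η)

/-- Tensoring is compatible with sheafification. -/
theorem isIso_toSheafify_tensor {S : Scheme.{u}} (P Q : S.Etaleᵒᵖ ⥤ AddCommGrpCat.{u + 1}) :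
    IsIso ((presheafToSheaf S.smallEtaleTopology AddCommGrpCat.{u + 1}).map
      (EtTens.tensorHom (toSheafify S.smallEtaleTopology P) (𝟙 Q))) :=
  Groth.Agent.Etrest.EtStalkW.isIso_presheafToSheaf_map_of_stalks _
    (fun _ _ _ η => bijective_toSheafify_tensor P Q η)

/-- The canonical map becomes an isomorphism after sheafification. -/
theorem isIso_projPre (hf : StalkFormula f) :
    IsIso ((presheafToSheaf Y.smallEtaleTopology AddCommGrpCat.{u + 1}).map (projPre f F G)) :=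
  Groth.Agent.Etrest.EtStalkW.isIso_presheafToSheaf_map_of_stalks _
    (fun _ _ _ η => projPre_bijective F G hf η)

/-- The projection formula. -/
theorem projection_formula (hf : StalkFormula f) :
    Nonempty ((EtTens.tensorBi.obj ((EtShriek.lowerShriek f).obj F)).obj G ≅
      (EtShriek.lowerShriek f).obj ((EtTens.tensorBi.obj F).obj ((EtCoh.pull f).obj G))) :=
  have h1 := isIso_projPre F G hf
  have h2 := isIso_toSheafify_tensor (EtShriek.lowerShriekPre f F) G.obj
  ⟨(@asIso _ _ _ _ ((presheafToSheaf Y.smallEtaleTopology AddCommGrpCat.{u + 1}).map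
      (EtTens.tensorHom (toSheafify Y.smallEtaleTopology (EtShriek.lowerShriekPre f F))
        (𝟙 G.obj))) h2).symm ≪≫
    @asIso _ _ _ _ ((presheafToSheaf Y.smallEtaleTopology AddCommGrpCat.{u + 1}).map
      (projPre f F G)) h1⟩

end Groth.Agent.Etrest.ProjForm
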