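import Groth.Agent.S0171
import Groth.Agent.CurvesA.AcycEtale
import Groth.Agent.Sga4h.EtaleRes

/-!
# Sheaves supported at closed points on schemes of finite type over a separably closed field

* `ext_eq_zero`: their cohomology on quasi-compact etale schemes vanishes;
* `isZero_of_sections`: they are zero if they have no global sections.
-/

set_option autoImplicit false
universe u
open CategoryTheory CategoryTheory.Limits AlgebraicGeometry Opposite

namespace Groth.Agent.Etrest.Punct

open Groth.Agent.CurvesA.SkyPoint Groth.Agent.CurvesA.SubSheafEt Groth.Agent.Etbase.EtSections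
  Groth.Agent.EtpbcA.Artin Groth.Agent.CurvesA.Punctual Groth.Agent.CurvesA.PushAcyclic

variable {X : Scheme.{u}}

/-- The support of a restriction. -/
theorem mem_supp_of_restrAlong {U : Scheme.{u}} (j : U ⟶ X) [Etale j] [EtShriek.JCont j]
    (F : EtCoh.Ab X) {x : U} (hx : x ∈ EtPBC.supp ((EtShriek.restrAlong j).obj F)) :
    j x ∈ EtPBC.supp F := by
  by_contra h
  refine (not_mem_supp_iff _ x).2 ?_ hx
  have h1 := (not_mem_supp_iff F _).1 h
  intro W s w hw
  obtain ⟨V, g, ⟨v, hv⟩, hg⟩ := h1 ((EtShriek.compEtale j).obj W) s w (by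
    change j (W.hom w) = j x
    rw [hw])
  let V' : U.Etale := MorphismProperty.Over.mk ⊤ (g.left ≫ W.hom) (by
    have e : g.left ≫ W.hom ≫ j = V.hom := MorphismProperty.Over.w g
    have hW : EtCoh.etaleMP ((g.left ≫ W.hom) ≫ j) := by
      rw [Category.assoc, e]; exact V.prop
    exact EtCoh.etaleMP.of_postcomp (W' := EtCoh.etaleMP) (g.left ≫ W.hom) j inferInstance hW)
  let g' : V' ⟶ W := MorphismProperty.Over.homMk g.left rfl
  let i : (EtShriek.compEtale j).obj V' ⟶ V := MorphismProperty.Over.homMk (𝟙 _) (by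
    change 𝟙 _ ≫ V.hom = (g.left ≫ W.hom) ≫ j
    rw [Category.id_comp, Category.assoc]
    exact (MorphismProperty.Over.w g).symm)
  have hi : i ≫ g = (EtShriek.compEtale j).map g' := by
    apply MorphismProperty.Over.Hom.ext
    exact Category.id_comp _
  refine ⟨V', g', ⟨v, hv⟩, ?_⟩
  change F.obj.map ((EtShriek.compEtale j).map g').op s = 0
  rw [← hi, op_comp, F.obj.map_comp]
  exact (congrArg (F.obj.map i.op) hg).trans (map_zero _)

/-- Points over closed points are closed. -/
theorem isClosed_of_etale {U : Scheme.{u}} (j : U ⟶ X) [Etale j] (x : U)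
    (hx : IsClosed ({j x} : Set X)) : IsClosed ({x} : Set U) := by
  have : LocallyQuasiFinite j := Desc.LQF.of_etale j
  refine isClosed_of_subset_isDiscrete (hx.preimage j.continuous)
    (j.isDiscrete_preimage_singleton _) ?_
  rintro _ rfl
  rfl

variable {K : Type u} [Field K] [IsSepClosed K] (a : X ⟶ Spec (CommRingCat.of K))
  [LocallyOfFiniteType a] [QuasiCompact a] (F : EtCoh.Ab X)
  (hF : ∀ x ∈ EtPBC.supp F, IsClosed ({x} : Set X))

omit [QuasiCompact a] in
include a hF in
theorem subsingleton_ext (U : X.Etale) (hU : CompactSpace U.left) (q : ℕ) (hq : 0 < q) :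
    Subsingleton (Abelian.Ext ((Z X).obj U) F q) := by
  have := Groth.Agent.Sga4h.EtaleRes.jCont U.hom
  have : QuasiCompact (U.hom ≫ a) := (quasiCompact_iff_compactSpace (U.hom ≫ a)).2 hU
  have : LocallyOfFiniteType (U.hom ≫ a) := by
    have : LocallyOfFiniteType U.hom := inferInstance
    infer_instance
  have h1 := Groth.Agent.S0171.result U.left (U.hom ≫ a) ((EtShriek.restrAlong U.hom).obj F)
    (fun x hx => isClosed_of_etale U.hom x (hF _ (mem_supp_of_restrAlong U.hom F hx))) q hq
  exact (CurvesA.AcycEtale.extEquivH U F q).toEquiv.subsingleton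

include a hF in
/-- A sheaf supported at closed points without global sections is zero. -/
theorem isZero_of_sections (h0 : ∀ f : (Z X).obj (EtCoh.top X) ⟶ F, f = 0) : IsZero F := by
  refine isZero_of_forall F fun x hxF => ?_
  obtain ⟨Ω, _, _, ξ, hξ⟩ := Etcore.Stalks.exists_geom x
  refine (mem_supp_iff _ x ξ ((range_eq_iff ξ x).2 hξ)).1 hxF ?_
  have hcl : IsClosed ({ξ default} : Set X) := by rw [hξ]; exact hF x hxF
  have hsc : IsSepClosed (X.residueField (ξ default)) :=
    Groth.Agent.CurvesA.ClosedPtSep.isSepClosed_residueField a _ hcl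
  let A := (EtCoh.stalk ξ).obj F
  let η : F ⟶ (sky ξ).obj A := (skyAdj ξ).unit.app F
  have htri : (EtCoh.stalk ξ).map η ≫ (skyAdj ξ).counit.app ((EtCoh.stalk ξ).obj F) = 𝟙 _ :=
    (skyAdj ξ).left_triangle_components F
  have hinj := counit_injective ξ hcl hsc ((EtCoh.stalk ξ).obj F)
  have hepi : Epi η := Etcore.Stalks.epi_of_stalks η fun y => by
    by_cases hy : y = x
    · subst hy
      refine ⟨Ω, inferInstance, inferInstance, ξ, hξ, fun p => ?_⟩
      refine ⟨(skyAdj ξ).counit.app _ p, ?_⟩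
      apply hinj
      exact ConcreteCategory.congr_hom htri ((skyAdj ξ).counit.app _ p)
    · obtain ⟨Ω', _, _, ζ, hζ⟩ := Etcore.Stalks.exists_geom y
      refine ⟨Ω', inferInstance, inferInstance, ζ, hζ, fun p => ⟨0, ?_⟩⟩
      have hz := isZero_stalk_sky ξ hcl ζ (by rw [hζ, hξ]; exact hy) ((EtCoh.stalk ξ).obj F)
      have := AddCommGrpCat.subsingleton_of_isZero hz
      exact Subsingleton.elim _ _
  let S : ShortComplex (EtCoh.Ab X) := ShortComplex.mk (kernel.ι η) η (kernel.condition η)
  have hS : S.ShortExact := { exact := ShortComplex.exact_kernel η }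
  have hN : ∀ y ∈ EtPBC.supp (kernel η), IsClosed ({y} : Set X) := by
    intro y hy
    refine hF y ?_
    by_contra hyF
    refine (not_mem_supp_iff _ y).2 ?_ hy
    obtain ⟨Ω', _, _, ζ, hζ⟩ := Etcore.Stalks.exists_geom y
    rw [← hζ, ← stalk_isZero_iff]
    exact IsZero.of_mono ((EtCoh.stalk ζ).map (kernel.ι η)) (isZero_stalk_of_not_mem hyF ζ hζ)
  have hcpt : CompactSpace (EtCoh.top X).left := by
    have : CompactSpace X := QuasiCompact.compactSpace_of_compactSpace a
    exact this
  have hext := subsingleton_ext a (kernel η) hN (EtCoh.top X) hcpt 1 Nat.one_pos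
  have h1 : ∀ f : (Z X).obj (EtCoh.top X) ⟶ (sky ξ).obj A, f = 0 := by
    intro f
    obtain ⟨y, hy⟩ := Abelian.Ext.covariant_sequence_exact₃ ((Z X).obj (EtCoh.top X)) hS
      (Abelian.Ext.mk₀ f) (zero_add 1) (Subsingleton.elim _ _)
    obtain ⟨φ, rfl⟩ := (Abelian.Ext.mk₀_bijective _ _).2 y
    rw [h0 φ, Abelian.Ext.mk₀_comp_mk₀, zero_comp] at hy
    exact ((Abelian.Ext.mk₀_bijective _ _).1 hy).symm
  have h2 : Subsingleton (((sky ξ).obj A).obj.obj (op (EtCoh.top X))) := by
    refine ⟨fun s t => ?_⟩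
    have := (h1 (CurvesA.SiteZU.lift.{u + 1} s)).trans (h1 (CurvesA.SiteZU.lift.{u + 1} t)).symm
    have h3 := congrArg CurvesA.SiteZU.ev this
    rwa [CurvesA.SiteZU.ev_lift, CurvesA.SiteZU.ev_lift] at h3
  obtain ⟨t, -⟩ := Etcore.StalkSec.exists_pt ξ (U := EtCoh.top X) (ξ default) rfl
  have h3 : (Pi.lift (fun _ => 𝟙 A) : A ⟶ ((sky ξ).obj A).obj.obj (op (EtCoh.top X))) ≫
      comp ξ A t = 𝟙 A := Pi.lift_π _ _
  rw [IsZero.iff_id_eq_zero, ← h3]
  have h4 : IsZero (((sky ξ).obj A).obj.obj (op (EtCoh.top X))) :=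
    AddCommGrpCat.isZero_of_subsingleton _
  rw [h4.eq_zero_of_tgt (Pi.lift (fun _ => 𝟙 A) : A ⟶ ((sky ξ).obj A).obj.obj (op (EtCoh.top X)))]
  exact zero_comp

end Groth.Agent.Etrest.Punct
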