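import Groth.Agent.Etrest.RDer3
import Groth.Agent.LoccohB.Devissage

/-!
# Cohomological amplitude of total right derived functors on bounded objects
-/

set_option autoImplicit false
set_option linter.unusedSectionVars false
universe w w' v v' u u' t
open CategoryTheory CategoryTheory.Limits Pretriangulated

noncomputable section
namespace Groth.Agent.Etrest.RAmp
open Groth.Agent.Etrest.RDer3 Groth.Agent.Etrest.RDer2

variable {A : Type u} [Category.{v} A] [Abelian A] [EnoughInjectives A] [HasDerivedCategory.{w} A]
  {B : Type u'} [Category.{v'} B] [Abelian B] [HasDerivedCategory.{w'} B] (G : A ⥤ B) [G.Additive]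
  [HasKInj A]

/-- `H^j(TR(M[-i])) = R^{j-i} G M`. -/
theorem nonempty_HTR_single (M : A) (i : ℤ) (n : ℕ) (j : ℤ) (hj : i + n = j) :
    Nonempty ((DerivedCategory.homologyFunctor B j).obj
      ((TR G).obj ((DerivedCategory.singleFunctor A i).obj M)) ≅ (G.rightDerived n).obj M) := by
  have e1 : (shiftFunctor (DerivedCategory A) i).obj ((DerivedCategory.singleFunctor A i).obj M) ≅
      (DerivedCategory.singleFunctor A 0).obj M :=
    ((DerivedCategory.singleFunctors A).shiftIso i 0 i (by simp)).app M
  have e2 : (shiftFunctor (DerivedCategory B) i).obj ((TR G).obj ((DerivedCategory.singleFunctor A i).obj M)) ≅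
      (TR G).obj ((DerivedCategory.singleFunctor A 0).obj M) :=
    (((TR G).commShiftIso i).app _).symm ≪≫ (TR G).mapIso e1
  have e3 : (DerivedCategory.homologyFunctor B j).obj
      ((TR G).obj ((DerivedCategory.singleFunctor A i).obj M)) ≅
      (DerivedCategory.homologyFunctor B (n : ℤ)).obj
        ((shiftFunctor (DerivedCategory B) i).obj
          ((TR G).obj ((DerivedCategory.singleFunctor A i).obj M))) :=
    (((DerivedCategory.homologyFunctor B 0).shiftIso i n j hj).app _).symm
  exact ⟨e3 ≪≫ (DerivedCategory.homologyFunctor B (n : ℤ)).mapIso e2 ≪≫ (HTRsingle G n).app M⟩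

theorem isZero_HTR_single (M : A) (i j : ℤ) (hj : j < i) :
    IsZero ((DerivedCategory.homologyFunctor B j).obj
      ((TR G).obj ((DerivedCategory.singleFunctor A i).obj M))) := by
  have : ((TR G).obj ((DerivedCategory.singleFunctor A i).obj M)).IsGE i := TR_isGE G _ i
  exact DerivedCategory.isZero_of_isGE _ i j hj

/-- If `R^q G` vanishes for `q > N` on the cohomology objects of `K`, which live in degrees
`[a, b]`, then `RG K` has cohomology in degrees `[a, b + N]`. -/
theorem isZero_HTR (N : ℕ) (K : DerivedCategory A) (a b : ℤ)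
    (hK : ∀ (i : ℤ) (q : ℕ), N < q →
      IsZero ((G.rightDerived q).obj ((DerivedCategory.homologyFunctor A i).obj K)))
    (hab : ∀ i : ℤ, i < a ∨ b < i → IsZero ((DerivedCategory.homologyFunctor A i).obj K))
    (j : ℤ) (hj : j < a ∨ b + N < j) :
    IsZero ((DerivedCategory.homologyFunctor B j).obj ((TR G).obj K)) := by
  let P : ObjectProperty (DerivedCategory A) := fun X =>
    IsZero ((DerivedCategory.homologyFunctor B j).obj ((TR G).obj X))
  have hP1 : P.IsClosedUnderIsomorphisms :=
    ⟨fun {X Y} e h => IsZero.of_iso h ((DerivedCategory.homologyFunctor B j).mapIso ((TR G).mapIso e.symm))⟩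
  have hGE : K.IsGE a := by
    rw [DerivedCategory.isGE_iff]
    intro i hi
    exact hab i (Or.inl hi)
  have hLE : K.IsLE b := by
    rw [DerivedCategory.isLE_iff]
    intro i hi
    exact hab i (Or.inr hi)
  refine Groth.Agent.LoccohB.Devissage.devissage P ?_ ?_ K a b ?_
  · intro Z hZ
    exact Functor.map_isZero _ (Functor.map_isZero _ hZ)
  · intro T hT h1 h3
    have hT' := (TR G).map_distinguished T hT
    have hex := (DerivedCategory.homologyFunctor B j).map_distinguished_exact _ hT'
    exact hex.isZero_of_both_zeros (h1.eq_of_src _ _) (h3.eq_of_tgt _ _)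
  · intro i
    by_cases hi : i < a ∨ b < i
    · exact Functor.map_isZero _ (Functor.map_isZero _ (Functor.map_isZero _ (hab i hi)))
    · push Not at hi
      rcases hj with hj | hj
      · exact isZero_HTR_single G _ i j (by lia)
      · obtain ⟨n, hn⟩ := Int.le.dest (show i ≤ j by lia)
        obtain ⟨e⟩ := nonempty_HTR_single G ((DerivedCategory.homologyFunctor A i).obj K) i n j hn
        exact IsZero.of_iso (hK i n (by lia)) e

end Groth.Agent.Etrest.RAmp
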