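import Groth.Agent.Etrest.RDer2
import Groth.Agent.Dcoh.DerHo
import Groth.Agent.PerfB.CoprodDerived

/-!
# Total right derived functors on bounded-below complexes of acyclic objects, and coproducts
-/

set_option autoImplicit false
set_option linter.unusedSectionVars false
universe w w' v v' u u' t
open CategoryTheory CategoryTheory.Limits

noncomputable section
namespace Groth.Agent.Etrest.RCoprod
open Groth.Agent.Etrest.RDer2 Groth.Agent.Dcoh.DerHo Groth.Agent.PerfB

variable {A : Type u} [Category.{v} A] [Abelian A] [EnoughInjectives A] [HasDerivedCategory.{w} A]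
  {B : Type u'} [Category.{v'} B] [Abelian B] [HasDerivedCategory.{w'} B] {G : A ⥤ B} [G.Additive]
  [PreservesFiniteLimits G] (hA : HasKInj A)
  (F' : DerivedCategory A ⥤ DerivedCategory B)
  (α : G.mapHomotopyCategory (ComplexShape.up ℤ) ⋙ DerivedCategory.Qh ⟶ DerivedCategory.Qh ⋙ F')
  [F'.IsRightDerivedFunctor α (HomotopyCategory.quasiIso A (ComplexShape.up ℤ))]

/-- The unit of the right derived functor on a complex, in terms of `Q`. -/
def unitQ (K : CochainComplex A ℤ) :
    DerivedCategory.Q.obj ((G.mapHomologicalComplex (ComplexShape.up ℤ)).obj K) ⟶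
      F'.obj (DerivedCategory.Q.obj K) :=
  α.app ((HomotopyCategory.quotient A (ComplexShape.up ℤ)).obj K)

theorem unitQ_naturality {K L : CochainComplex A ℤ} (f : K ⟶ L) :
    DerivedCategory.Q.map ((G.mapHomologicalComplex (ComplexShape.up ℤ)).map f) ≫ unitQ F' α L =
      unitQ F' α K ≫ F'.map (DerivedCategory.Q.map f) :=
  α.naturality ((HomotopyCategory.quotient A (ComplexShape.up ℤ)).map f)

include hA in
/-- A bounded-below complex of acyclic objects computes the total right derived functor. -/
theorem isIso_unitQ (K : CochainComplex A ℤ) (a : ℤ) [K.IsStrictlyGE a]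
    (hK : ∀ i, IsAcyc G (K.X i)) : IsIso (unitQ F' α K) := by
  obtain ⟨L, i, hi, hinj, hL, hKI⟩ := exists_injRes K a
  have h1 : IsIso (unitQ F' α L) := isIso_unit_app' hA F' α L hKI
  have h2 : QuasiIso ((G.mapHomologicalComplex (ComplexShape.up ℤ)).map i) :=
    quasiIso_map G i a a hK (fun j => isAcyc_of_injective G (L.X j))
  have h3 : IsIso (DerivedCategory.Q.map ((G.mapHomologicalComplex (ComplexShape.up ℤ)).map i)) :=
    inferInstance
  have h4 : IsIso (F'.map (DerivedCategory.Q.map i)) := inferInstance
  have nat := unitQ_naturality F' α i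
  have h5 : unitQ F' α K = DerivedCategory.Q.map ((G.mapHomologicalComplex (ComplexShape.up ℤ)).map i) ≫
      unitQ F' α L ≫ inv (F'.map (DerivedCategory.Q.map i)) := by
    rw [← Category.assoc, nat, Category.assoc, IsIso.hom_inv_id, Category.comp_id]
  rw [h5]
  infer_instance

variable {J : Type t} [HasCoproductsOfShape J A] [HasExactColimitsOfShape (Discrete J) A]
  [HasCoproductsOfShape J B] [HasExactColimitsOfShape (Discrete J) B]
  [PreservesColimitsOfShape (Discrete J) G]

/-- `G` applied to the coproduct cofan of complexes, in the derived category. -/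
def isColimitQG (I : J → CochainComplex A ℤ) :
    IsColimit (Cofan.mk (DerivedCategory.Q.obj ((G.mapHomologicalComplex (ComplexShape.up ℤ)).obj (∐ I)))
      (fun j => DerivedCategory.Q.map
        ((G.mapHomologicalComplex (ComplexShape.up ℤ)).map (Sigma.ι I j)))) := by
  let e : (G.mapHomologicalComplex (ComplexShape.up ℤ)).obj (∐ I) ≅
      (∐ fun j => (G.mapHomologicalComplex (ComplexShape.up ℤ)).obj (I j)) :=
    PreservesCoproduct.iso (G.mapHomologicalComplex (ComplexShape.up ℤ)) I
  refine IsColimit.ofIsoColimit (CoprodDerived.isColimitQCofan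
    (fun j => (G.mapHomologicalComplex (ComplexShape.up ℤ)).obj (I j)))
      (Cofan.ext (DerivedCategory.Q.mapIso e.symm) ?_)
  intro j
  change DerivedCategory.Q.map (Sigma.ι (fun j => (G.mapHomologicalComplex (ComplexShape.up ℤ)).obj (I j)) j) ≫
    DerivedCategory.Q.map e.inv = DerivedCategory.Q.map _
  rw [← Functor.map_comp]
  congr 1
  exact ι_comp_sigmaComparison (G.mapHomologicalComplex (ComplexShape.up ℤ)) I j

include hA α in
/-- Total right derived functors commute with coproducts of uniformly bounded-below complexes, if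
coproducts of injective objects are acyclic. -/
theorem preservesCoproduct_Q (hJ : ∀ I : J → A, (∀ j, Injective (I j)) → IsAcyc G (∐ I))
    (I : J → CochainComplex A ℤ) (a : ℤ) (hI : ∀ j n, Injective ((I j).X n))
    (ha : ∀ j, (I j).IsStrictlyGE a) :
    PreservesColimit (Discrete.functor fun j => DerivedCategory.Q.obj (I j)) F' := by
  have h1 : ∀ j, IsIso (unitQ F' α (I j)) := fun j => by
    have := ha j
    exact isIso_unitQ hA F' α (I j) a (fun n => by
      have := hI j n
      exact isAcyc_of_injective G _)
  have hX : ∀ n, Nonempty ((∐ I).X n ≅ ∐ fun j => (I j).X n) := fun n =>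
    ⟨PreservesCoproduct.iso (HomologicalComplex.eval A (ComplexShape.up ℤ) n) I⟩
  have h2 : IsIso (unitQ F' α (∐ I)) := by
    have h3 : (∐ I).IsStrictlyGE a := by
      rw [CochainComplex.isStrictlyGE_iff]
      intro i hi
      obtain ⟨e⟩ := hX i
      refine IsZero.of_iso ?_ e
      rw [IsZero.iff_id_eq_zero]
      apply Sigma.hom_ext
      intro j
      have := ha j
      exact ((I j).isZero_of_isStrictlyGE a i hi).eq_of_src _ _
    refine isIso_unitQ hA F' α (∐ I) a (fun n => ?_)
    obtain ⟨e⟩ := hX n
    exact isAcyc_of_iso G e.symm (hJ _ (fun j => hI j n))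
  refine preservesColimit_of_preserves_colimit_cocone (CoprodDerived.isColimitQCofan I) ?_
  let ν : (Discrete.functor fun j => DerivedCategory.Q.obj (I j)) ⋙ F' ≅
      Discrete.functor fun j => DerivedCategory.Q.obj
        ((G.mapHomologicalComplex (ComplexShape.up ℤ)).obj (I j)) :=
    Discrete.natIso fun j => (@asIso _ _ _ _ (unitQ F' α (I j.as)) (h1 j.as)).symm
  refine (IsColimit.precomposeInvEquiv ν _).toFun ?_
  refine IsColimit.ofIsoColimit (isColimitQG (G := G) I) (Cofan.ext (@asIso _ _ _ _ (unitQ F' α (∐ I)) h2) ?_)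
  intro j
  exact unitQ_naturality F' α (Sigma.ι I j)

include hA α in
/-- Total right derived functors commute with coproducts of uniformly bounded-below objects, if
coproducts of injective objects are acyclic. -/
theorem preservesCoproduct (hJ : ∀ I : J → A, (∀ j, Injective (I j)) → IsAcyc G (∐ I))
    (K : J → DerivedCategory A) (a : ℤ) (hK : ∀ j, (K j).IsGE a) :
    PreservesColimit (Discrete.functor K) F' := by
  have h : ∀ j, ∃ (I : CochainComplex A ℤ) (_ : K j ≅ DerivedCategory.Q.obj I),
      (∀ n, Injective (I.X n)) ∧ I.IsStrictlyGE a := by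
    intro j
    have := hK j
    obtain ⟨L, hL, ⟨e⟩⟩ := DerivedCategory.exists_iso_Q_obj_of_isGE (K j) a
    obtain ⟨I, i, hi, hinj, hI, -⟩ := exists_injRes L a
    exact ⟨I, e ≪≫ asIso (DerivedCategory.Q.map i), hinj, hI⟩
  choose I e hI ha using h
  have := preservesCoproduct_Q hA F' α hJ I a hI ha
  exact preservesColimit_of_iso_diagram (K₁ := Discrete.functor fun j => DerivedCategory.Q.obj (I j))
    F' (Discrete.natIso fun j => (e j.as).symm)

end Groth.Agent.Etrest.RCoprod
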