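import Groth.Agent.Etrest.RCoprod

/-!
# Exact functors commuting with coproducts: the induced functor on derived categories commutes with coproducts
-/

set_option autoImplicit false
set_option linter.unusedSectionVars false
universe w w' v v' u u' t
open CategoryTheory CategoryTheory.Limits

noncomputable section
namespace Groth.Agent.Etrest.RCoprod
open Groth.Agent.Etrest.RDer2 Groth.Agent.Dcoh.DerHo Groth.Agent.PerfB

variable {A : Type u} [Category.{v} A] [Abelian A] [HasDerivedCategory.{w} A]
  {B : Type u'} [Category.{v'} B] [Abelian B] [HasDerivedCategory.{w'} B] (E : A ⥤ B) [E.Additive]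
  [PreservesFiniteLimits E] [PreservesFiniteColimits E]

variable {J : Type t} [HasCoproductsOfShape J A] [HasExactColimitsOfShape (Discrete J) A]
  [HasCoproductsOfShape J B] [HasExactColimitsOfShape (Discrete J) B]
  [PreservesColimitsOfShape (Discrete J) E]

theorem preservesCoproduct_mapDerivedCategory_Q (I : J → CochainComplex A ℤ) :
    PreservesColimit (Discrete.functor fun j => DerivedCategory.Q.obj (I j)) E.mapDerivedCategory := by
  refine preservesColimit_of_preserves_colimit_cocone (CoprodDerived.isColimitQCofan I) ?_
  let ν : (Discrete.functor fun j => DerivedCategory.Q.obj (I j)) ⋙ E.mapDerivedCategory ≅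
      Discrete.functor fun j => DerivedCategory.Q.obj
        ((E.mapHomologicalComplex (ComplexShape.up ℤ)).obj (I j)) :=
    Discrete.natIso fun j => E.mapDerivedCategoryFactors.app (I j.as)
  refine (IsColimit.precomposeInvEquiv ν _).toFun ?_
  refine IsColimit.ofIsoColimit (isColimitQG (G := E) I)
    (Cofan.ext (E.mapDerivedCategoryFactors.app (∐ I)).symm ?_)
  intro j
  exact E.mapDerivedCategoryFactors.inv.naturality (Sigma.ι I j)

/-- The functor on derived categories induced by an exact functor commuting with (exact) coproducts
commutes with coproducts. -/
theorem preservesCoproduct_mapDerivedCategory (K : J → DerivedCategory A) :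
    PreservesColimit (Discrete.functor K) E.mapDerivedCategory :=
  have := preservesCoproduct_mapDerivedCategory_Q E
    (fun j => DerivedCategory.Q.objPreimage (K j))
  preservesColimit_of_iso_diagram (K₁ := Discrete.functor fun j =>
    DerivedCategory.Q.obj (DerivedCategory.Q.objPreimage (K j))) E.mapDerivedCategory
    (Discrete.natIso fun j => DerivedCategory.Q.objObjPreimageIso (K j.as))

end Groth.Agent.Etrest.RCoprod
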