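import Groth.Agent.Etrest.RDer1

/-!
# Right derived functors and morphisms with acyclic kernel and cokernel

`isIso_map_of_ker_coker`: `G` left exact, `E` exact, `η : F ⟶ H` such that `E (R^p G (ker η))` and
`E (R^p G (coker η))` vanish for all `p`; then `E (R^q G η)` is an isomorphism for all `q`.
-/

set_option autoImplicit false
universe v v' v'' u u' u''
open CategoryTheory CategoryTheory.Limits

namespace Groth.Agent.Etrest.RDIso

open Groth.Agent.Etrest.RDer1

variable {A : Type u} [Category.{v} A] [Abelian A] [EnoughInjectives A]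
  {B : Type u'} [Category.{v'} B] [Abelian B] (G : A ⥤ B) [G.Additive]
  {C : Type u''} [Category.{v''} C] [Abelian C] (E : B ⥤ C) [E.Additive]
  [PreservesFiniteLimits E] [PreservesFiniteColimits E]

theorem isIso_map_X₂_X₃ {S : ShortComplex A} (hS : S.ShortExact)
    (h : ∀ p, IsZero (E.obj ((G.rightDerived p).obj S.X₁))) (q : ℕ) :
    IsIso (E.map ((G.rightDerived q).map S.g)) := by
  have e1 := (exact₂ G hS q).map E
  have e2 := (exact₃ G hS q).map E
  have h1 : Mono (E.map ((G.rightDerived q).map S.g)) := e1.mono_g ((h q).eq_of_src _ _)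
  have h2 : Epi (E.map ((G.rightDerived q).map S.g)) := e2.epi_f ((h (q + 1)).eq_of_tgt _ _)
  exact isIso_of_mono_of_epi _

theorem mono_rightDerived_zero_map [PreservesFiniteLimits G] {X Y : A} (f : X ⟶ Y) [Mono f] :
    Mono ((G.rightDerived 0).map f) := by
  have h : (G.rightDerived 0).map f = G.rightDerivedZeroIsoSelf.hom.app X ≫ G.map f ≫
      G.rightDerivedZeroIsoSelf.inv.app Y := by
    rw [← Category.assoc]
    exact ((Iso.app G.rightDerivedZeroIsoSelf Y).eq_comp_inv).2
      (G.rightDerivedZeroIsoSelf.hom.naturality f)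
  rw [h]
  infer_instance

theorem isIso_map_X₁_X₂ [PreservesFiniteLimits G] {S : ShortComplex A} (hS : S.ShortExact)
    (h : ∀ p, IsZero (E.obj ((G.rightDerived p).obj S.X₃))) (q : ℕ) :
    IsIso (E.map ((G.rightDerived q).map S.f)) := by
  have h2 : Epi (E.map ((G.rightDerived q).map S.f)) :=
    ((exact₂ G hS q).map E).epi_f ((h q).eq_of_tgt _ _)
  have h1 : Mono (E.map ((G.rightDerived q).map S.f)) := by
    cases q with
    | zero =>
      have := hS.mono_f
      have := mono_rightDerived_zero_map G S.f
      infer_instance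
    | succ q => exact ((exact₁ G hS q).map E).mono_g ((h q).eq_of_src _ _)
  exact isIso_of_mono_of_epi _

theorem isIso_map_of_ker_coker [PreservesFiniteLimits G] {F H : A} (η : F ⟶ H)
    (hk : ∀ p, IsZero (E.obj ((G.rightDerived p).obj (kernel η))))
    (hc : ∀ p, IsZero (E.obj ((G.rightDerived p).obj (cokernel η)))) (q : ℕ) :
    IsIso (E.map ((G.rightDerived q).map η)) := by
  let S : ShortComplex A := ShortComplex.mk (kernel.ι η) (Abelian.factorThruImage η) (by
    rw [← cancel_mono (Abelian.image.ι η)]
    simp)
  have hS : S.ShortExact :=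
    { exact := by
        refine ShortComplex.exact_of_f_is_kernel _ ?_
        exact isKernelOfComp (f := Abelian.factorThruImage η) (Abelian.image.ι η) η
          (kernelIsKernel η) (by
            rw [← cancel_mono (Abelian.image.ι η)]
            simp) (Abelian.image.fac η)
      mono_f := inferInstanceAs (Mono (kernel.ι η))
      epi_g := inferInstanceAs (Epi (Abelian.factorThruImage η)) }
  let S' : ShortComplex A := ShortComplex.mk (Abelian.image.ι η) (cokernel.π η) (by
    rw [← cancel_epi (Abelian.factorThruImage η)]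
    simp)
  have hS' : S'.ShortExact :=
    { exact := ShortComplex.exact_of_f_is_kernel _ (kernelIsKernel (cokernel.π η))
      mono_f := inferInstanceAs (Mono (Abelian.image.ι η))
      epi_g := inferInstanceAs (Epi (cokernel.π η)) }
  have h1 := isIso_map_X₂_X₃ G E hS hk q
  have h2 := isIso_map_X₁_X₂ G E hS' hc q
  have h3 : η = S.g ≫ S'.f := (Abelian.image.fac η).symm
  have h4 : E.map ((G.rightDerived q).map η) =
      E.map ((G.rightDerived q).map S.g) ≫ E.map ((G.rightDerived q).map S'.f) := by
    rw [← Functor.map_comp, ← Functor.map_comp, ← h3]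
  rw [h4]
  exact IsIso.comp_isIso' h1 h2

end Groth.Agent.Etrest.RDIso
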