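import Groth.Agent.Etrest.RAmp
import Groth.Agent.PerfA.CohomIn

/-!
# Total right derived functors and weak Serre classes

`prop_HTR`: `Q` a weak Serre class in `B`, `K` bounded below, `R^q G (H^i K)` in `Q` for all `q`, `i`; then all
cohomology objects of `RG K` are in `Q`.
-/

set_option autoImplicit false
set_option linter.unusedSectionVars false
universe w w' v v' u u' t
open CategoryTheory CategoryTheory.Limits Pretriangulated

namespace Groth.Agent.Etrest.RWeak
open Groth.Agent.Etrest.RDer3 Groth.Agent.Etrest.RDer2 Groth.Agent.Etrest.RAmp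

variable {A : Type u} [Category.{v} A] [Abelian A] [EnoughInjectives A] [HasDerivedCategory.{w} A]
  {B : Type u'} [Category.{v'} B] [Abelian B] [HasDerivedCategory.{w'} B] (G : A ⥤ B) [G.Additive]
  [HasKInj A]

/-- bounded case -/
theorem prop_HTR_bounded (Q : ObjectProperty B) [Q.IsClosedUnderIsomorphisms] [Q.IsClosedUnderKernels]
    [Q.IsClosedUnderCokernels] [Q.IsClosedUnderExtensions] [Q.ContainsZero]
    (K : DerivedCategory A) (a b : ℤ) [K.IsGE a] [K.IsLE b]
    (hK : ∀ (i : ℤ) (q : ℕ), Q ((G.rightDerived q).obj ((DerivedCategory.homologyFunctor A i).obj K)))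
    (j : ℤ) : Q ((DerivedCategory.homologyFunctor B j).obj ((TR G).obj K)) := by
  let P : ObjectProperty (DerivedCategory A) := fun X => Groth.Agent.PerfA.CohomIn.coh Q ((TR G).obj X)
  have hP1 : P.IsClosedUnderIsomorphisms :=
    ⟨fun {X Y} e h i => Q.prop_of_iso
      ((DerivedCategory.homologyFunctor B i).mapIso ((TR G).mapIso e)) (h i)⟩
  have key : P K := by
    refine Groth.Agent.LoccohB.Devissage.devissage P ?_ ?_ K a b ?_
    · intro Z hZ i
      exact Q.prop_of_isZero (Functor.map_isZero _ (Functor.map_isZero _ hZ))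
    · intro T hT h1 h3
      have hT' := (TR G).map_distinguished T hT
      exact ObjectProperty.ext_of_isTriangulatedClosed₂ (Groth.Agent.PerfA.CohomIn.coh Q) _ hT' h1 h3
    · intro i k
      by_cases hk : k < i
      · exact Q.prop_of_isZero (isZero_HTR_single G _ i k hk)
      · obtain ⟨n, hn⟩ := Int.le.dest (show i ≤ k by lia)
        obtain ⟨e⟩ := nonempty_HTR_single G ((DerivedCategory.homologyFunctor A i).obj K) i n k hn
        exact Q.prop_of_iso e.symm (hK i n)
  exact key j

theorem prop_HTR (Q : ObjectProperty B) [Q.IsClosedUnderIsomorphisms] [Q.IsClosedUnderKernels]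
    [Q.IsClosedUnderCokernels] [Q.IsClosedUnderExtensions] [Q.ContainsZero]
    (K : DerivedCategory A) (a : ℤ) [K.IsGE a]
    (hK : ∀ (i : ℤ) (q : ℕ), Q ((G.rightDerived q).obj ((DerivedCategory.homologyFunctor A i).obj K)))
    (j : ℤ) : Q ((DerivedCategory.homologyFunctor B j).obj ((TR G).obj K)) := by
  obtain ⟨T, hT, rfl, h1, h3, hi1, hi3⟩ := Groth.Agent.LoccohB.Devissage.exists_trunc K j (j + 1) rfl
  have hGE : T.obj₁.IsGE a := by
    rw [DerivedCategory.isGE_iff]
    intro i hi
    by_cases hi' : i ≤ j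
    · have := hi1 i hi'
      exact (T.obj₂.isZero_of_isGE a i hi).of_iso
        (asIso ((DerivedCategory.homologyFunctor A i).map T.mor₁))
    · exact T.obj₁.isZero_of_isLE j i (by lia)
  have hq : ∀ (i : ℤ) (q : ℕ), Q ((G.rightDerived q).obj
      ((DerivedCategory.homologyFunctor A i).obj T.obj₁)) := by
    intro i q
    by_cases hi' : i ≤ j
    · have := hi1 i hi'
      exact Q.prop_of_iso ((G.rightDerived q).mapIso
        (asIso ((DerivedCategory.homologyFunctor A i).map T.mor₁))).symm (hK i q)
    · exact Q.prop_of_isZero (Functor.map_isZero _ (T.obj₁.isZero_of_isLE j i (by lia)))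
  have hT' := (TR G).map_distinguished T hT
  have hB : ((TR G).obj T.obj₃).IsGE (j + 1) := TR_isGE G _ (j + 1)
  have hiso : IsIso ((DerivedCategory.homologyFunctor B j).map ((TR G).map T.mor₁)) := by
    have hm : Mono ((DerivedCategory.homologyFunctor B j).map ((TR G).map T.mor₁)) :=
      (DerivedCategory.HomologySequence.mono_homologyMap_mor₁_iff _ hT' (j - 1) j (by lia)).2
        ((DerivedCategory.isZero_of_isGE ((TR G).obj T.obj₃) (j + 1) (j - 1) (by lia)).eq_of_src _ _)
    have he : Epi ((DerivedCategory.homologyFunctor B j).map ((TR G).map T.mor₁)) :=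
      (DerivedCategory.HomologySequence.epi_homologyMap_mor₁_iff _ hT' j).2
        ((DerivedCategory.isZero_of_isGE ((TR G).obj T.obj₃) (j + 1) j (by lia)).eq_of_tgt _ _)
    exact isIso_of_mono_of_epi _
  exact Q.prop_of_iso (asIso ((DerivedCategory.homologyFunctor B j).map ((TR G).map T.mor₁)))
    (prop_HTR_bounded G Q T.obj₁ a j hq j)

end Groth.Agent.Etrest.RWeak
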