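import Groth.Agent.Etrest.ShriekComp
import Groth.Prelude.Def_EtCore

/-!
# Compactly supported sections as global sections of `f_!`
-/

set_option autoImplicit false
open CategoryTheory CategoryTheory.Limits AlgebraicGeometry Opposite
universe u

namespace Groth.Agent.Etrest.ShriekH0c

open Groth.Agent.Etrest.ShriekComp

variable {X Y : Scheme.{u}}

set_option backward.isDefEq.respectTransparency.types false in
theorem bcTopIso_hom_left (f : X ⟶ Y) :
    (EtCore.bcTopIso f).hom.left ≫ f = EtShriek.prV f (EtCoh.top Y) := by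
  have h1 : (EtCore.bcTopIso f).hom.left ≫ 𝟙 X = pullback.snd (𝟙 Y) f :=
    Over.w (EtCore.bcTopIso f).hom.hom
  have h2 : (EtCore.bcTopIso f).hom.left = pullback.snd (𝟙 Y) f :=
    (Category.comp_id _).symm.trans h1
  refine (congrArg (fun k => k ≫ f) h2).trans ?_
  exact (pullback.condition (f := 𝟙 Y) (g := f)).symm.trans (Category.comp_id _)

instance isIso_bcTopIso_hom_left (f : X ⟶ Y) : IsIso (EtCore.bcTopIso f).hom.left :=
  ⟨(EtCore.bcTopIso f).inv.left, congrArg (fun k => k.left) ((EtCore.bcTopIso f).hom_inv_id),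
    congrArg (fun k => k.left) ((EtCore.bcTopIso f).inv_hom_id)⟩

/-- Restriction along `X ×_Y Y ≅ X`. -/
noncomputable def topEquiv (f : X ⟶ Y) (F : EtCoh.Ab X) :
    EtCoh.sect F (EtCoh.top X) ≃+ EtCoh.sect F ((EtCoh.bc f).obj (EtCoh.top Y)) :=
  (F.obj.mapIso (EtCore.bcTopIso f).op).addCommGroupIsoToAddEquiv

theorem topEquiv_apply (f : X ⟶ Y) (F : EtCoh.Ab X) (s : EtCoh.sect F (EtCoh.top X)) :
    topEquiv f F s = F.obj.map (EtCore.bcTopIso f).hom.op s := rfl

theorem topEquiv_mem_iff {k : Type u} [Field k] (p : X ⟶ Spec (CommRingCat.of k)) [IsSeparated p]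
    [LocallyOfFiniteType p] (F : EtCoh.Ab X) (s : EtCoh.sect F (EtCoh.top X)) :
    topEquiv p F s ∈ EtShriek.shriekSubgroup p F (EtCoh.top (Spec (CommRingCat.of k))) ↔
      s ∈ EtShriek.H0c p F := by
  rw [Supp.mem_shriekSubgroup_iff, Supp.mem_H0c_iff, topEquiv_apply, Supp.sectSupp_map,
    ← bcTopIso_hom_left]
  have : IsSeparated (X := (EtCoh.top X).left) p := ‹IsSeparated p›
  have : LocallyOfFiniteType (X := (EtCoh.top X).left) p := ‹LocallyOfFiniteType p›
  exact isProperOver_iff_of_isIso (EtCore.bcTopIso p).hom.left p _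

/-- `H^0_c(X, F)` is the group of global sections of `p_! F`. -/
noncomputable def h0cEquiv {k : Type u} [Field k] (p : X ⟶ Spec (CommRingCat.of k)) [IsSeparated p]
    [LocallyOfFiniteType p] (F : EtCoh.Ab X) :
    EtShriek.H0c p F ≃+ EtShriek.shriekSubgroup p F (EtCoh.top (Spec (CommRingCat.of k))) where
  toFun s := ⟨topEquiv p F s.1, (topEquiv_mem_iff p F s.1).2 s.2⟩
  invFun s := ⟨(topEquiv p F).symm s.1, by
    rw [← topEquiv_mem_iff, AddEquiv.apply_symm_apply]; exact s.2⟩
  left_inv s := Subtype.ext ((topEquiv p F).symm_apply_apply _)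
  right_inv s := Subtype.ext ((topEquiv p F).apply_symm_apply _)
  map_add' s t := Subtype.ext (map_add _ _ _)

/-- Isomorphic sheaves have isomorphic groups of sections. -/
noncomputable def sectEquivOfIso {F G : EtCoh.Ab X} (e : F ≅ G) (U : X.Etale) :
    EtCoh.sect F U ≃+ EtCoh.sect G U :=
  (((sheafToPresheaf _ _).mapIso e).app (op U)).addCommGroupIsoToAddEquiv

/-- `H^0_c(X, F) ≃ Γ(Spec k, p_! F)`. -/
noncomputable def h0cEquivLowerShriek {k : Type u} [Field k] (p : X ⟶ Spec (CommRingCat.of k))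
    [IsSeparated p] [LocallyOfFiniteType p] (F : EtCoh.Ab X) :
    EtShriek.H0c p F ≃+
      EtCoh.sect ((EtShriek.lowerShriek p).obj F) (EtCoh.top (Spec (CommRingCat.of k))) :=
  (h0cEquiv p F).trans (sectEquivOfIso ((lowerShriekIso p).symm.app F) (EtCoh.top _))

end Groth.Agent.Etrest.ShriekH0c
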